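import Mathlib

/-!
# Groups with element orders at most five: basic facts
-/

set_option autoImplicit false
set_option linter.style.haveILetI false

namespace CfsgLib.Recognition.OneToFive

open scoped commutatorElement

/-- All element orders are at most five. -/
def Small (G : Type*) [Group G] : Prop := ∀ g : G, orderOf g ≤ 5

variable {G : Type*} [Group G] [Finite G]

omit [Finite G] in
theorem Small.subgroup (h : Small G) (H : Subgroup G) : Small H := fun x => by
  rw [← Subgroup.orderOf_coe]; exact h x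

theorem Small.quotient (h : Small G) (N : Subgroup G) [N.Normal] : Small (G ⧸ N) := fun x => by
  induction x using QuotientGroup.induction_on with
  | H g => exact (Nat.le_of_dvd (orderOf_pos g) (orderOf_map_dvd (QuotientGroup.mk' N) g)).trans (h g)

theorem Small.no_comm (h : Small G) {a b : G} (ha : a ≠ 1) (hb : b ≠ 1) (hab : Commute a b)
    (hcop : (orderOf a).Coprime (orderOf b)) : False := by
  have h1 := h (a * b)
  rw [hab.orderOf_mul_eq_mul_orderOf_of_coprime hcop] at h1
  have ha2 : 2 ≤ orderOf a := by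
    have := orderOf_pos a
    have : orderOf a ≠ 1 := fun e => ha (orderOf_eq_one_iff.1 e)
    omega
  have hb2 : 2 ≤ orderOf b := by
    have := orderOf_pos b
    have : orderOf b ≠ 1 := fun e => hb (orderOf_eq_one_iff.1 e)
    omega
  have h3 : orderOf a ≤ 5 := h a
  have h4 : orderOf b ≤ 5 := h b
  generalize orderOf a = x, orderOf b = y at *
  interval_cases x <;> interval_cases y <;> simp_all

theorem Small.orderOf_eq (h : Small G) {p : ℕ} (hp : p.Prime) (hp2 : p ≠ 2) {x : G} (hx : x ≠ 1)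
    (hpow : ∃ k, orderOf x = p ^ k) : orderOf x = p := by
  obtain ⟨k, hk⟩ := hpow
  have hle := h x
  rcases k with _ | _ | k
  · exact absurd (orderOf_eq_one_iff.1 (by simpa using hk)) hx
  · simpa using hk
  · exfalso
    have h3 : 3 ≤ p := by have := hp.two_le; omega
    have : 3 ^ 2 ≤ p ^ (k + 2) :=
      (Nat.pow_le_pow_left h3 2).trans (Nat.pow_le_pow_right hp.pos (by omega))
    have h9 : 3 ^ 2 ≤ p ^ (k + 1 + 1) := this
    rw [hk] at hle
    norm_num at h9
    omega

theorem Small.pow_prime (h : Small G) {p : ℕ} (hp : p.Prime) (hp2 : p ≠ 2) {P : Subgroup G}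
    (hP : IsPGroup p P) {x : G} (hx : x ∈ P) : x ^ p = 1 := by
  by_cases hx1 : x = 1
  · simp [hx1]
  haveI := Fact.mk hp
  obtain ⟨k, hk⟩ := (IsPGroup.iff_orderOf.1 hP) ⟨x, hx⟩
  rw [← Subgroup.orderOf_coe] at hk
  rw [← h.orderOf_eq hp hp2 hx1 ⟨k, hk⟩]
  exact pow_orderOf_eq_one x

theorem Small.prime_mem (h : Small G) {p : ℕ} (hp : p.Prime) (hd : p ∣ Nat.card G) :
    p = 2 ∨ p = 3 ∨ p = 5 := by
  haveI := Fact.mk hp
  obtain ⟨g, hg⟩ := exists_prime_orderOf_dvd_card' (G := G) p hd
  have h1 := h g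
  rw [hg] at h1
  have := hp.two_le
  interval_cases p <;> simp_all (config := { decide := true })

theorem Small.pGroup_centralizer (h : Small G) {p : ℕ} [hp : Fact p.Prime] {x : G} (hx : x ≠ 1)
    (hpx : ∃ k, orderOf x = p ^ k) : IsPGroup p (Subgroup.centralizer ({x} : Set G)) := by
  obtain ⟨k, hk⟩ := hpx
  rw [IsPGroup.iff_orderOf]
  intro y
  rw [← Subgroup.orderOf_coe]
  refine ⟨_, Nat.eq_prime_pow_of_unique_prime_dvd (orderOf_pos (y : G)).ne' fun {q} hq hqd => ?_⟩
  by_contra hne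
  haveI := Fact.mk hq
  obtain ⟨m, hm⟩ := hqd
  have hq' : orderOf ((y : G) ^ m) = q := by
    have hm0 : 0 < m := Nat.pos_of_ne_zero fun e => (orderOf_pos (y : G)).ne' (by rw [hm, e, mul_zero])
    rw [orderOf_pow' _ hm0.ne', hm, Nat.gcd_eq_right (dvd_mul_left m q)]
    exact Nat.mul_div_cancel q hm0
  refine h.no_comm (b := (y : G) ^ m) hx (fun e => hq.ne_one (by rw [← hq', e, orderOf_one])) ?_ ?_
  · exact Commute.pow_right (Subgroup.mem_centralizer_singleton_iff.1 y.2).symm m
  · rw [hk, hq']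
    exact Nat.Coprime.pow_left k ((Nat.coprime_primes hp.out hq).2 (Ne.symm hne))

/-- A noncyclic subgroup of order `r ^ 2` cannot normalise a nontrivial subgroup of prime power
order prime to `r`. -/
theorem Small.no_rank_two (h : Small G) {p r : ℕ} [Fact p.Prime] [Fact r.Prime] (hpr : p ≠ r)
    {V : Subgroup G} (hV : IsPGroup p V) (hV1 : V ≠ ⊥) {a b : G} (ha : a ≠ 1) (har : a ^ r = 1)
    (hbr : b ^ r = 1) (hab : Commute a b) (hbn : b ∉ Subgroup.zpowers a)
    (haV : a ∈ Subgroup.normalizer (V : Set G)) (hbV : b ∈ Subgroup.normalizer (V : Set G)) :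
    False := by
  classical
  haveI : Nontrivial V := (Subgroup.nontrivial_iff_ne_bot V).2 hV1
  -- the elements of order `p` in the centre of `V`
  let A : Subgroup G :=
    { carrier := {v | v ∈ V ∧ v ^ p = 1 ∧ ∀ w ∈ V, Commute v w}
      one_mem' := ⟨V.one_mem, one_pow p, fun w _ => Commute.one_left w⟩
      mul_mem' := fun {v w} hv hw => ⟨V.mul_mem hv.1 hw.1,
        by rw [(hv.2.2 w hw.1).mul_pow, hv.2.1, hw.2.1, mul_one],
        fun x hx => (hv.2.2 x hx).mul_left (hw.2.2 x hx)⟩
      inv_mem' := fun {v} hv => ⟨V.inv_mem hv.1, by rw [inv_pow, hv.2.1, inv_one],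
        fun x hx => (hv.2.2 x hx).inv_left⟩ }
  have hAc : IsMulCommutative A := ⟨⟨fun x y => Subtype.ext (x.2.2.2 y y.2.1)⟩⟩
  letI : CommGroup A := { (inferInstance : Group A) with mul_comm := hAc.is_comm.comm }
  obtain ⟨v, hvA, hv1⟩ : ∃ v ∈ A, v ≠ 1 := by
    haveI := hV.center_nontrivial
    obtain ⟨z, hz⟩ := exists_prime_orderOf_dvd_card' (G := Subgroup.center V) p
      (by
        obtain ⟨n, hn, hcard⟩ :=
          (hV.to_subgroup (Subgroup.center V)).nontrivial_iff_card.1 inferInstance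
        exact hcard ▸ dvd_pow_self p hn.ne')
    have hzp : ((z : V) : G) ^ p = 1 := by
      rw [← hz, ← Subgroup.orderOf_coe, ← Subgroup.orderOf_coe]; exact pow_orderOf_eq_one _
    refine ⟨((z : V) : G), ⟨(z : V).2, hzp, fun w hw => ?_⟩, fun e => ?_⟩
    · exact congrArg Subtype.val ((Subgroup.mem_center_iff.1 z.2 ⟨w, hw⟩).symm)
    · have : z = 1 := Subtype.ext (Subtype.ext e)
      rw [this, orderOf_one] at hz
      exact (Fact.out : p.Prime).ne_one hz.symm
  have hconj : ∀ c ∈ Subgroup.normalizer (V : Set G), ∀ x ∈ A, c * x * c⁻¹ ∈ A := by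
    intro c hc x hx
    refine ⟨(Subgroup.mem_normalizer_iff.1 hc x).1 hx.1, by rw [conj_pow, hx.2.1, mul_one, mul_inv_cancel], fun w hw => ?_⟩
    have hw' : c⁻¹ * w * c ∈ V := by
      have := (Subgroup.mem_normalizer_iff.1 (inv_mem hc) w).1 hw
      rwa [inv_inv] at this
    have := (hx.2.2 _ hw').map (MulAut.conj c).toMonoidHom
    simpa [mul_assoc] using this
  let cj : Subgroup.normalizer (V : Set G) → A → A := fun c x => ⟨c * x * (c : G)⁻¹, hconj c c.2 x x.2⟩
  have hcjone : ∀ x, cj 1 x = x := fun x => Subtype.ext (by simp [cj])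
  have hcjmul : ∀ c d x, cj (c * d) x = cj c (cj d x) := fun c d x =>
    Subtype.ext (by simp [cj, mul_assoc])
  have hcjmap : ∀ c (s : Finset ℕ) (f : ℕ → A), cj c (∏ i ∈ s, f i) = ∏ i ∈ s, cj c (f i) :=
    fun c s f => map_prod ({ toFun := cj c,
                             map_one' := Subtype.ext (by simp [cj]),
                             map_mul' := fun x y => Subtype.ext (by simp [cj, mul_assoc]) } : A →* A) f s
  -- norms vanish
  have hnorm : ∀ c : Subgroup.normalizer (V : Set G), c ≠ 1 → c ^ r = 1 → ∀ x : A,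
      ∏ i ∈ Finset.range r, cj (c ^ i) x = 1 := by
    intro c hc1 hcr x
    set y := ∏ i ∈ Finset.range r, cj (c ^ i) x with hy
    have hfix : cj c y = y := by
      rw [hy, hcjmap]
      simp only [← hcjmul, ← pow_succ']
      have h1 := Finset.prod_range_succ' (fun i => cj (c ^ i) x) r
      rw [Finset.prod_range_succ, hcr, pow_zero] at h1
      exact (mul_right_cancel h1).symm
    by_contra hy1
    refine h.no_comm (a := (c : G)) (b := (y : G)) (fun e => hc1 (Subtype.ext e))
      (fun e => hy1 (Subtype.ext e)) ?_ ?_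
    · exact mul_inv_eq_iff_eq_mul.1 (congrArg Subtype.val hfix)
    · exact ((Nat.coprime_primes (Fact.out : r.Prime) (Fact.out : p.Prime)).2 hpr.symm).of_dvd
        (orderOf_dvd_of_pow_eq_one (by rw [← SubgroupClass.coe_pow, hcr]; rfl))
        (orderOf_dvd_of_pow_eq_one y.2.2.1)
  let a' : Subgroup.normalizer (V : Set G) := ⟨a, haV⟩
  let b' : Subgroup.normalizer (V : Set G) := ⟨b, hbV⟩
  let x : A := ⟨v, hvA⟩
  have hab' : Commute a' b' := Subtype.ext hab
  have hb0 : ∀ j, 0 < j → j < r → b ^ j ∉ Subgroup.zpowers a := by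
    intro j hj hjr hmem
    apply hbn
    have hcop : Nat.Coprime j r :=
      ((Fact.out : r.Prime).coprime_iff_not_dvd.2 (Nat.not_dvd_of_pos_of_lt hj hjr)).symm
    obtain ⟨k, hk⟩ := exists_pow_eq_self_of_coprime
      (hcop.coprime_dvd_right (orderOf_dvd_of_pow_eq_one hbr))
    exact hk ▸ pow_mem hmem k
  have hP : ∏ j ∈ Finset.range r, ∏ i ∈ Finset.range r, cj ((a' * b' ^ j) ^ i) x = 1 := by
    refine Finset.prod_eq_one fun j hj => hnorm _ ?_ ?_ x
    · intro e
      have e' : a * b ^ j = 1 := congrArg Subtype.val e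
      rcases Nat.eq_zero_or_pos j with rfl | hjp
      · exact ha (by simpa using e')
      · exact hb0 j hjp (Finset.mem_range.1 hj)
          (by rw [eq_inv_of_mul_eq_one_right e']; exact inv_mem (Subgroup.mem_zpowers a))
    · refine Subtype.ext ?_
      show (a * b ^ j) ^ r = 1
      rw [(hab.pow_right j).mul_pow, har, ← pow_mul, mul_comm, pow_mul, hbr, one_pow, mul_one]
  rw [Finset.prod_comm] at hP
  obtain ⟨r', hr'⟩ := Nat.exists_eq_succ_of_ne_zero (Fact.out : r.Prime).ne_zero
  have h0 : ∀ i ∈ Finset.range r', ∏ j ∈ Finset.range r, cj ((a' * b' ^ j) ^ (i + 1)) x = 1 := by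
    intro i hi
    have : ∀ j, cj ((a' * b' ^ j) ^ (i + 1)) x = cj (a' ^ (i + 1)) (cj ((b' ^ (i + 1)) ^ j) x) := by
      intro j
      rw [(hab'.pow_right j).mul_pow, hcjmul, ← pow_mul, ← pow_mul, mul_comm]
    simp only [this]
    rw [← hcjmap, hnorm _ ?_ ?_ x]
    · exact Subtype.ext (by simp [cj])
    · intro e
      refine hb0 (i + 1) (by omega) (by have := Finset.mem_range.1 hi; omega) ?_
      rw [show b ^ (i + 1) = 1 from congrArg Subtype.val e]
      exact one_mem _
    · refine Subtype.ext ?_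
      show (b ^ (i + 1)) ^ r = 1
      rw [← pow_mul, mul_comm, pow_mul, hbr, one_pow]
  rw [show Finset.range r = Finset.range (r' + 1) by rw [hr']] at hP
  rw [Finset.prod_range_succ'] at hP
  rw [show Finset.range (r' + 1) = Finset.range r by rw [hr'], Finset.prod_eq_one h0, one_mul] at hP
  simp only [pow_zero, hcjone, Finset.prod_const, Finset.card_range] at hP
  refine hv1 ?_
  have h1 : v ^ r = 1 := congrArg Subtype.val hP
  have h2 : orderOf v ∣ 1 := by
    have := Nat.dvd_gcd (orderOf_dvd_of_pow_eq_one h1) (orderOf_dvd_of_pow_eq_one hvA.2.1)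
    rwa [((Nat.coprime_primes (Fact.out : r.Prime) (Fact.out : p.Prime)).2 hpr.symm).gcd_eq_one]
      at this
  exact orderOf_eq_one_iff.1 (Nat.dvd_one.1 h2)

omit [Finite G] in
/-- In a group of prime exponent and order divisible by the square there are two independent
commuting elements. -/
theorem exists_pair {r : ℕ} [Fact r.Prime] {L : Subgroup G} [Finite L] (hL : ∀ x ∈ L, x ^ r = 1)
    (hcard : r < Nat.card L) :
    ∃ a ∈ L, ∃ b ∈ L, a ≠ 1 ∧ Commute a b ∧ b ∉ Subgroup.zpowers a := by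
  have hp : IsPGroup r L := fun x => ⟨1, Subtype.ext (by simpa using hL x x.2)⟩
  haveI : Nontrivial L := Finite.one_lt_card_iff_nontrivial.1
    (by have := (Fact.out : r.Prime).two_le; omega)
  haveI := hp.center_nontrivial
  obtain ⟨⟨z, hz⟩, hz1⟩ := exists_ne (1 : Subgroup.center L)
  have hzne : (z : G) ≠ 1 := fun e => hz1 (Subtype.ext (Subtype.ext e))
  obtain ⟨b, hb, hbn⟩ : ∃ b ∈ L, b ∉ Subgroup.zpowers (z : G) := by
    by_contra hc
    push Not at hc
    haveI : Finite (Subgroup.zpowers (z : G)) := (Set.Finite.subset (Set.toFinite (L : Set G))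
      (Subgroup.zpowers_le.2 z.2)).to_subtype
    have h1 : Nat.card L ≤ Nat.card (Subgroup.zpowers (z : G)) := Subgroup.card_le_of_le hc
    rw [Nat.card_zpowers] at h1
    have := Nat.le_of_dvd (Fact.out : r.Prime).pos (orderOf_dvd_of_pow_eq_one (hL z z.2))
    omega
  exact ⟨z, z.2, b, hb, hzne,
    (congrArg Subtype.val (Subgroup.mem_center_iff.1 hz ⟨b, hb⟩)).symm, hbn⟩

/-- A subgroup of prime exponent normalising a nontrivial subgroup of coprime prime power order has
prime order. -/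
theorem Small.card_le_prime (h : Small G) {p r : ℕ} [Fact p.Prime] [Fact r.Prime] (hpr : p ≠ r)
    {V : Subgroup G} (hV : IsPGroup p V) (hV1 : V ≠ ⊥) {L : Subgroup G}
    (hL : ∀ x ∈ L, x ^ r = 1) (hLV : L ≤ Subgroup.normalizer (V : Set G)) : Nat.card L ≤ r := by
  by_contra hc
  obtain ⟨a, ha, b, hb, ha1, hab, hbn⟩ := exists_pair hL (not_le.1 hc)
  exact h.no_rank_two hpr hV hV1 ha1 (hL a ha) (hL b hb) hab hbn (hLV ha) (hLV hb)

/-- A fixed-point-free involutory automorphism inverts. -/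
theorem inverts_of_fpf {X : Subgroup G} {a : G} (haX : ∀ x ∈ X, a * x * a⁻¹ ∈ X)
    (ha2 : a * a = 1) (hfix : ∀ x ∈ X, Commute a x → x = 1) {x : G} (hx : x ∈ X) :
    a * x * a⁻¹ = x⁻¹ := by
  let f : X → X := fun y => ⟨(y : G)⁻¹ * (a * y * a⁻¹), X.mul_mem (X.inv_mem y.2) (haX y y.2)⟩
  have hinj : Function.Injective f := by
    intro y z hyz
    have h1 : (y : G)⁻¹ * (a * y * a⁻¹) = (z : G)⁻¹ * (a * z * a⁻¹) := congrArg Subtype.val hyz
    have h2 : (z : G) * (y : G)⁻¹ = 1 := by
      refine hfix _ (X.mul_mem z.2 (X.inv_mem y.2)) ?_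
      show a * ((z : G) * (y : G)⁻¹) = (z : G) * (y : G)⁻¹ * a
      calc a * ((z : G) * (y : G)⁻¹) = (a * z * a⁻¹) * (a * y * a⁻¹)⁻¹ * a := by group
        _ = (z * ((z : G)⁻¹ * (a * z * a⁻¹))) * ((y : G) * ((y : G)⁻¹ * (a * y * a⁻¹)))⁻¹ * a := by
            group
        _ = (z : G) * (y : G)⁻¹ * a := by rw [h1]; group
    exact Subtype.ext (mul_inv_eq_one.1 h2).symm
  obtain ⟨y, hy⟩ := (Finite.injective_iff_surjective.1 hinj) ⟨x, hx⟩
  have hy' : (y : G)⁻¹ * (a * y * a⁻¹) = x := congrArg Subtype.val hy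
  rw [← hy', inv_eq_of_mul_eq_one_right ha2]
  calc a * ((y : G)⁻¹ * (a * y * a)) * a = (a * (y : G)⁻¹ * a) * y * (a * a) := by group
    _ = _ := by rw [ha2, mul_one, mul_inv_rev, mul_inv_rev, mul_inv_rev,
                  inv_eq_of_mul_eq_one_right ha2, inv_inv, ← mul_assoc]

theorem solvable_sup (K R : Subgroup G) [K.Normal] [R.Normal] (hK : Group.IsSolvable K)
    (hR : Group.IsSolvable R) : Group.IsSolvable ↥(K ⊔ R) := by
  haveI := hK
  haveI := hR
  have h1 : Group.IsSolvable ↥((K ⊔ R).map (QuotientGroup.mk' R)) := by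
    rw [show (K ⊔ R).map (QuotientGroup.mk' R) = K.map (QuotientGroup.mk' R) by
      rw [Subgroup.map_sup, Subgroup.map_eq_bot_iff R |>.2 (by simp), sup_bot_eq]]
    exact Group.isSolvable_of_surjective ((QuotientGroup.mk' R).subgroupMap_surjective K)
  exact solvable_of_ker_le_range (Subgroup.inclusion (le_sup_right : R ≤ K ⊔ R))
    ((QuotientGroup.mk' R).subgroupMap (K ⊔ R)) (fun x hx => by
      have : (QuotientGroup.mk' R) (x : G) = 1 := congrArg Subtype.val hx
      exact ⟨⟨x, (QuotientGroup.eq_one_iff _).1 this⟩, rfl⟩)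

theorem exists_radical (G : Type*) [Group G] [Finite G] :
    ∃ R : Subgroup G, R.Normal ∧ Group.IsSolvable R ∧
      ∀ K : Subgroup G, K.Normal → Group.IsSolvable K → K ≤ R := by
  obtain ⟨R, hR⟩ := (Set.toFinite {N : Subgroup G | N.Normal ∧ Group.IsSolvable N}).exists_maximal
    ⟨⊥, inferInstance, inferInstance⟩
  haveI := hR.1.1
  refine ⟨R, hR.1.1, hR.1.2, fun K hK hKs => ?_⟩
  haveI := hK
  exact le_sup_left.trans (hR.2 ⟨inferInstance, solvable_sup K R hKs hR.1.2⟩ le_sup_right)

end CfsgLib.Recognition.OneToFive
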