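import Mathlib

/-!
The order equations for groups with element orders at most five.
-/

set_option autoImplicit false
set_option linter.unusedTactic false
set_option linter.unreachableTactic false
set_option maxHeartbeats 4000000

namespace CfsgLib.Recognition.OneToFive.Arith

theorem three_split {b P : ℕ} (hb : 1 ≤ b) (hP : P = 3 ^ b) : P = 3 ∨ P = 9 ∨ P = 27 ∨ 81 ≤ P := by
  rcases Nat.lt_or_ge b 4 with h | h
  · interval_cases b <;> simp [hP]
  · exact Or.inr (Or.inr (Or.inr (hP ▸ (show 81 ≤ 3 ^ b from le_trans (by norm_num) (Nat.pow_le_pow_right (show 3 > 0 by norm_num) h)))))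

theorem five_split {c Q : ℕ} (hc : 1 ≤ c) (hQ : Q = 5 ^ c) : Q = 5 ∨ Q = 25 ∨ 125 ≤ Q := by
  rcases Nat.lt_or_ge c 3 with h | h
  · interval_cases c <;> simp [hQ]
  · exact Or.inr (Or.inr (hQ ▸ (show 125 ≤ 5 ^ c from le_trans (by norm_num) (Nat.pow_le_pow_right (show 5 > 0 by norm_num) h))))

theorem two_split {a S : ℕ} (ha : 1 ≤ a) (hS : S = 2 ^ a) (h3 : S % 3 = 1) :
    S = 4 ∨ S = 16 ∨ 64 ≤ S := by
  rcases Nat.lt_or_ge a 6 with h | h
  · interval_cases a <;> simp_all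
  · exact Or.inr (Or.inr (hS ▸ (show 64 ≤ 2 ^ a from le_trans (by norm_num) (Nat.pow_le_pow_right (show 2 > 0 by norm_num) h))))

theorem big {S P Q s p q : ℕ} (hS : s ≤ S) (hP : p ≤ P) (hQ : q ≤ Q) :
    (s : ℤ) * (P * Q) ≤ S * P * Q ∧ (p : ℤ) * (S * Q) ≤ S * P * Q ∧ (q : ℤ) * (S * P) ≤ S * P * Q ∧
      (s : ℤ) * p * q ≤ S * P * Q ∧ (p : ℤ) * q ≤ P * Q ∧ 0 ≤ (S : ℤ) * Q ∧ 0 ≤ (S : ℤ) * P := by
  refine ⟨?_, ?_, ?_, ?_, ?_, by positivity, by positivity⟩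
  · exact_mod_cast (Nat.mul_le_mul_right (P * Q) hS).trans_eq (by ring)
  · exact_mod_cast (Nat.mul_le_mul_right (S * Q) hP).trans_eq (by ring)
  · exact_mod_cast (Nat.mul_le_mul_right (S * P) hQ).trans_eq (by ring)
  · exact_mod_cast Nat.mul_le_mul (Nat.mul_le_mul hS hP) hQ
  · exact_mod_cast Nat.mul_le_mul hP hQ

/-- Trivially intersecting Sylow two-subgroups with an automiser of order three. -/
theorem ti_three {e₃ e₅ a b c S P Q : ℕ} (he₃ : e₃ ∈ [1, 2, 4, 8, 5]) (he₅ : e₅ ∈ [1, 2, 4, 8, 3])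
    (ha : 1 ≤ a) (hS3 : S % 3 = 1) (hb : 1 ≤ b) (hc : 1 ≤ c) (hS : S = 2 ^ a) (hP : P = 3 ^ b)
    (hQ : Q = 5 ^ c) (hd₃ : e₃ ∣ P - 1) (hd₅ : e₅ ∣ Q - 1)
    (heq : (e₃ : ℤ) * e₅ * (P * Q) + 3 * e₅ * (S * Q) + 3 * e₃ * (S * P) + 2 * e₃ * e₅ * (S * P * Q) =
      3 * (e₃ + e₅) * (S * P * Q) + 3 * e₃ * e₅) :
    S = 4 ∧ P = 3 ∧ Q = 5 := by
  have h1 := two_split ha hS hS3
  have h2 := three_split hb hP
  have h3 := five_split hc hQ
  clear hS hP hQ hS3 ha hb hc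
  by_cases hbig : 64 ≤ S ∧ 81 ≤ P ∧ 125 ≤ Q
  · obtain ⟨k1, k2, k3, k4, k5, k6, k7⟩ := big hbig.1 hbig.2.1 hbig.2.2
    fin_cases he₃ <;> fin_cases he₅ <;> push_cast at heq k1 k2 k3 k4 k5 <;> linarith
  rcases h1 with rfl | rfl | h1 <;> rcases h2 with rfl | rfl | rfl | h2 <;>
    rcases h3 with rfl | rfl | h3 <;> fin_cases he₃ <;> fin_cases he₅ <;>
    first
      | (solve | norm_num at hd₃)
      | (solve | norm_num at hd₅)
      | (solve | (exfalso; omega))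
      | (solve | (push_cast at heq) <;> omega)
      | (solve | norm_num at heq)
      | ((push_cast at heq) <;> nlinarith)

theorem big2 {P Q p q : ℕ} (hP : p ≤ P) (hQ : q ≤ Q) :
    (p : ℤ) * Q ≤ P * Q ∧ (q : ℤ) * P ≤ P * Q ∧ (p : ℤ) * q ≤ P * Q := by
  refine ⟨?_, ?_, ?_⟩
  · exact_mod_cast Nat.mul_le_mul_right Q hP
  · exact_mod_cast (Nat.mul_le_mul_right P hQ).trans_eq (mul_comm Q P)
  · exact_mod_cast Nat.mul_le_mul hP hQ

/-- A dihedral Sylow two-subgroup of order eight. -/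
theorem dihedral_eight {e₃ e₅ b c P Q : ℕ} (he₃ : e₃ ∈ [1, 2, 4, 8, 5]) (he₅ : e₅ ∈ [1, 2, 4, 8, 3])
    (hev : 2 ∣ e₃) (hb : 1 ≤ b) (hc : 1 ≤ c) (hP : P = 3 ^ b) (hQ : Q = 5 ^ c)
    (hd₃ : e₃ ∣ P - 1) (hd₅ : e₅ ∣ Q - 1)
    (heq : 8 * ((e₃ : ℤ) + e₅) * (P * Q) + e₃ * e₅ =
      5 * e₃ * e₅ * (P * Q) + 8 * e₅ * Q + 8 * e₃ * P) :
    P = 9 ∧ Q = 5 := by
  have h2 := three_split hb hP
  have h3 := five_split hc hQ
  clear hP hQ hb hc
  by_cases hbig : 81 ≤ P ∧ 125 ≤ Q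
  · obtain ⟨k1, k2, k3⟩ := big2 hbig.1 hbig.2
    fin_cases he₃ <;> fin_cases he₅ <;> push_cast at heq k1 k2 k3 <;> first | omega | linarith
  rcases h2 with rfl | rfl | rfl | h2 <;> rcases h3 with rfl | rfl | h3 <;>
    fin_cases he₃ <;> fin_cases he₅ <;>
    first
      | (solve | norm_num at hd₃)
      | (solve | norm_num at hd₅)
      | (solve | (exfalso; omega))
      | (solve | (push_cast at heq) <;> omega)
      | (solve | norm_num at heq)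
      | ((push_cast at heq) <;> nlinarith)

/-- A Sylow two-subgroup of order sixty four. -/
theorem sixty_four {e₃ e₅ h b c P Q : ℕ} (he₃ : e₃ ∈ [2, 4, 8]) (he₅ : e₅ ∈ [2, 4, 8])
    (hh : h ∈ [1, 3]) (hb : 1 ≤ b) (hc : 1 ≤ c) (hP : P = 3 ^ b) (hQ : Q = 5 ^ c)
    (hd₃ : e₃ ∣ P - 1) (hd₅ : e₅ ∣ Q - 1)
    (heq : 64 * (h : ℤ) * (e₃ + e₅) * (P * Q) + 39 * e₃ * e₅ * (P * Q) + h * e₃ * e₅ =
      64 * h * e₃ * e₅ * (P * Q) + 64 * h * e₅ * Q + 64 * h * e₃ * P) : False := by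
  have h2 := three_split hb hP
  have h3 := five_split hc hQ
  clear hP hQ hb hc
  by_cases hbig : 81 ≤ P ∧ 125 ≤ Q
  · obtain ⟨k1, k2, k3⟩ := big2 hbig.1 hbig.2
    fin_cases hh <;> fin_cases he₃ <;> fin_cases he₅ <;> push_cast at heq k1 k2 k3 <;>
      first | omega | linarith
  rcases h2 with rfl | rfl | rfl | h2 <;> rcases h3 with rfl | rfl | h3 <;>
    fin_cases hh <;> fin_cases he₃ <;> fin_cases he₅ <;>
    first
      | (solve | norm_num at hd₃)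
      | (solve | norm_num at hd₅)
      | (solve | (exfalso; omega))
      | (solve | (push_cast at heq) <;> omega)
      | (solve | norm_num at heq)
      | ((push_cast at heq) <;> nlinarith)

/-- Trivially intersecting self-normalising Sylow two-subgroups. -/
theorem ti_one {e₃ e₅ a b c S P Q : ℕ} (he₃ : e₃ ∈ [1, 2, 4, 8, 5]) (he₅ : e₅ ∈ [1, 2, 4, 8, 3])
    (ha : 1 ≤ a) (hb : 1 ≤ b) (hc : 1 ≤ c) (hS : S = 2 ^ a) (hP : P = 3 ^ b) (hQ : Q = 5 ^ c)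
    (hd₃ : e₃ ∣ P - 1) (hd₅ : e₅ ∣ Q - 1)
    (heq : (e₃ : ℤ) * e₅ * (P * Q) + S * (e₅ * Q + e₃ * P) =
      S * ((e₃ + e₅) * (P * Q)) + e₃ * e₅) : False := by
  have h2 := three_split hb hP
  have h3 := five_split hc hQ
  have hP3 : 3 ≤ P := hP ▸ Nat.le_self_pow (by omega) 3
  have hQ5 : 5 ≤ Q := hQ ▸ Nat.le_self_pow (by omega) 5
  obtain ⟨k1, k2, k3⟩ := big2 hP3 hQ5
  have hS' : S = 2 ∨ S = 4 := by
    rcases Nat.lt_or_ge a 3 with h | h
    · interval_cases a <;> simp [hS]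
    exfalso
    have h8 : (8 : ℤ) ≤ S := by
      exact_mod_cast hS ▸ le_trans (by norm_num) (Nat.pow_le_pow_right (show 2 > 0 by norm_num) h)
    have hX : 0 ≤ ((e₃ : ℤ) + e₅) * (P * Q) - (e₅ * Q + e₃ * P) := by
      have a1 := mul_le_mul_of_nonneg_left k1 (Int.natCast_nonneg e₅)
      have a2 := mul_le_mul_of_nonneg_left k2 (Int.natCast_nonneg e₃)
      have a3 : (0 : ℤ) ≤ e₅ * Q := by positivity
      have a4 : (0 : ℤ) ≤ e₃ * P := by positivity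
      push_cast at a1 a2
      linarith
    have hk := mul_le_mul_of_nonneg_right h8 hX
    fin_cases he₃ <;> fin_cases he₅ <;> push_cast at heq k1 k2 k3 hk <;> linarith
  clear hP hQ hb hc hS ha
  by_cases hbig : 81 ≤ P ∧ 125 ≤ Q
  · obtain ⟨k1, k2, k3⟩ := big2 hbig.1 hbig.2
    rcases hS' with rfl | rfl <;> fin_cases he₃ <;> fin_cases he₅ <;>
      push_cast at heq k1 k2 k3 <;> first | omega | linarith
  rcases hS' with rfl | rfl <;> rcases h2 with rfl | rfl | rfl | h2 <;>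
    rcases h3 with rfl | rfl | h3 <;> fin_cases he₃ <;> fin_cases he₅ <;>
    first
      | (solve | norm_num at hd₃)
      | (solve | norm_num at hd₅)
      | (solve | (exfalso; omega))
      | (solve | (push_cast at heq) <;> omega)
      | (solve | norm_num at heq)
      | ((push_cast at heq) <;> nlinarith)

end CfsgLib.Recognition.OneToFive.Arith
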