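import Cfsg.Agent.Lib.Recognition.OneToFive.Odd

/-!
The automisers of the odd Sylow subgroups and the class equation.
-/

set_option autoImplicit false
set_option linter.style.haveILetI false

namespace CfsgLib.Recognition.OneToFive

universe u

variable {G : Type u} [Group G] [Finite G]

theorem card_le_eight {L : Subgroup G} (hG : Small G) (hL : IsPGroup 2 L) {z : G} (hzL : z ∈ L)
    (hz : z * z = 1) (huniq : ∀ a ∈ L, a * a = 1 → a = 1 ∨ a = z) : Nat.card L ≤ 8 := by
  classical
  have hsq : ∀ a ∈ L, a * a = 1 ∨ a * a = z := by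
    intro a ha
    refine huniq _ (L.mul_mem ha ha) ?_
    obtain ⟨k, hk⟩ := IsPGroup.iff_orderOf.1 hL ⟨a, ha⟩
    rw [← Subgroup.orderOf_coe] at hk
    have h5 := hG a
    have hk2 : k ≤ 2 := by
      by_contra h
      have : 2 ^ 3 ≤ 2 ^ k := Nat.pow_le_pow_right (by norm_num) (by omega)
      simp only [] at hk
      omega
    have h4 : a ^ 4 = 1 := orderOf_dvd_iff_pow_eq_one.1 (hk ▸ Nat.pow_dvd_pow 2 hk2)
    rw [← h4, pow_succ, pow_succ, pow_succ, pow_one, mul_assoc (a * a)]
  have hzc : ∀ a ∈ L, a * z * a⁻¹ = z ∨ z = 1 := by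
    intro a ha
    rcases huniq _ (L.mul_mem (L.mul_mem ha hzL) (L.inv_mem ha))
      (by calc a * z * a⁻¹ * (a * z * a⁻¹) = a * (z * z) * a⁻¹ := by group
            _ = 1 := by rw [hz]; group) with h | h
    · exact Or.inr (conj_eq_one_iff.1 h)
    · exact Or.inl h
  have hzcomm : ∀ a ∈ L, a * z = z * a := by
    intro a ha
    rcases hzc a ha with h | h
    · exact mul_inv_eq_iff_eq_mul.1 h
    · rw [h, one_mul, mul_one]
  by_cases hex : ∃ x ∈ L, x * x ≠ 1
  · obtain ⟨x, hx, hx1⟩ := hex
    have hxz : x * x = z := (hsq x hx).resolve_left hx1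
    let C : Subgroup L := Subgroup.centralizer ({(⟨x, hx⟩ : L)} : Set L)
    have hC : Nat.card C ≤ 4 := by
      have hmem : ∀ y : C, ((y : L) : G) = 1 ∨ ((y : L) : G) = z ∨ ((y : L) : G) = x ∨
          ((y : L) : G) = x * z := by
        intro y
        have hc : x * ((y : L) : G) = ((y : L) : G) * x :=
          congrArg Subtype.val (Subgroup.mem_centralizer_singleton_iff.1 y.2).symm
        rcases hsq _ (y : L).2 with h | h
        · rcases huniq _ (y : L).2 h with h' | h'
          · exact Or.inl h'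
          · exact Or.inr (Or.inl h')
        · right; right
          have h1 : (x⁻¹ * ((y : L) : G)) * (x⁻¹ * ((y : L) : G)) = 1 := by
            have hc' : ((y : L) : G) * x⁻¹ = x⁻¹ * ((y : L) : G) := by
              rw [eq_inv_mul_iff_mul_eq, ← mul_assoc, hc, mul_inv_cancel_right]
            calc (x⁻¹ * ((y : L) : G)) * (x⁻¹ * ((y : L) : G))
                = x⁻¹ * (((y : L) : G) * x⁻¹) * ((y : L) : G) := by group
              _ = (x * x)⁻¹ * (((y : L) : G) * ((y : L) : G)) := by rw [hc']; group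
              _ = 1 := by rw [h, hxz, inv_mul_cancel]
          rcases huniq _ (L.mul_mem (L.inv_mem hx) (y : L).2) h1 with h' | h'
          · exact Or.inl (inv_mul_eq_one.1 h').symm
          · exact Or.inr (inv_mul_eq_iff_eq_mul.1 h')
      let f : C → ({1, z, x, x * z} : Finset G) := fun y => ⟨((y : L) : G), by simpa using hmem y⟩
      have hf : Function.Injective f := fun a b hab => by
        have : ((a : L) : G) = ((b : L) : G) :=
          congrArg (fun w : ({1, z, x, x * z} : Finset G) => (w : G)) hab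
        exact Subtype.ext (Subtype.ext this)
      have h := Nat.card_le_card_of_injective f hf
      rw [Nat.card_eq_fintype_card (α := ({1, z, x, x * z} : Finset G)), Fintype.card_coe] at h
      exact h.trans Finset.card_le_four
    have hidx : C.index ≤ 2 := by
      have key : ∀ a : L, a ∈ C ∨ (a : G) * x * (a : G)⁻¹ = x * z := by
        intro a
        by_cases hc : a ∈ C
        · exact Or.inl hc
        right
        have hmem : (a : G) * x * (a : G)⁻¹ ≠ x := fun e => hc
          (Subgroup.mem_centralizer_singleton_iff.2 (Subtype.ext (mul_inv_eq_iff_eq_mul.1 e)))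
        have hxi : x⁻¹ = x * z := inv_eq_of_mul_eq_one_right (by rw [← mul_assoc, hxz, hz])
        have e0 : (a : G) * x * (a : G)⁻¹ =
            ((a : G) * x * ((a : G) * x)) * (x * z) * ((a : G) * (a : G))⁻¹ := by
          rw [← hxi]; group
        rcases hsq _ (L.mul_mem a.2 hx) with h | h <;> rcases hsq _ a.2 with ha | ha <;>
          rw [h, ha] at e0
        · rwa [one_mul, inv_one, mul_one] at e0
        · refine absurd ?_ hmem
          rwa [one_mul, mul_inv_cancel_right] at e0
        · refine absurd ?_ hmem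
          rw [inv_one, mul_one, ← mul_assoc, ← hzcomm x hx] at e0
          rwa [mul_assoc x, hz, mul_one] at e0
        · rwa [mul_assoc z, mul_inv_cancel_right, ← hzcomm x hx] at e0
      by_contra hcon
      have h3 : 2 < Nat.card (L ⧸ C) := by rw [← Subgroup.index_eq_card]; omega
      haveI : Fintype (L ⧸ C) := Fintype.ofFinite _
      rw [Nat.card_eq_fintype_card] at h3
      obtain ⟨q₁, q₂, q₃, h12, h13, h23⟩ := Fintype.two_lt_card_iff.1 h3
      obtain ⟨a, rfl⟩ := QuotientGroup.mk_surjective q₁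
      obtain ⟨b, rfl⟩ := QuotientGroup.mk_surjective q₂
      obtain ⟨c, rfl⟩ := QuotientGroup.mk_surjective q₃
      have heq : ∀ u v : L, u ∉ C → v ∉ C → (QuotientGroup.mk u : L ⧸ C) = QuotientGroup.mk v := by
        intro u v hu hv
        rw [QuotientGroup.eq, Subgroup.mem_centralizer_singleton_iff]
        apply Subtype.ext
        show (u : G)⁻¹ * v * x = x * ((u : G)⁻¹ * v)
        have e := ((key v).resolve_left hv).trans ((key u).resolve_left hu).symm
        calc (u : G)⁻¹ * v * x = (u : G)⁻¹ * ((v : G) * x * (v : G)⁻¹) * v := by group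
          _ = x * ((u : G)⁻¹ * v) := by rw [e]; group
      have heq' : ∀ u v : L, u ∈ C → v ∈ C → (QuotientGroup.mk u : L ⧸ C) = QuotientGroup.mk v :=
        fun u v hu hv => QuotientGroup.eq.2 (C.mul_mem (C.inv_mem hu) hv)
      by_cases ha : a ∈ C <;> by_cases hb : b ∈ C <;> by_cases hc : c ∈ C <;>
        first
          | exact h12 (heq' _ _ ha hb) | exact h13 (heq' _ _ ha hc) | exact h23 (heq' _ _ hb hc)
          | exact h12 (heq _ _ ha hb) | exact h13 (heq _ _ ha hc) | exact h23 (heq _ _ hb hc)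
    rw [← C.card_mul_index]
    exact (Nat.mul_le_mul hC hidx).trans (by norm_num)
  · push Not at hex
    let f : L → Bool := fun a => decide ((a : G) = 1)
    have hf : Function.Injective f := by
      intro a b hab
      refine Subtype.ext ?_
      rcases huniq a a.2 (hex a a.2) with ha | ha <;> rcases huniq b b.2 (hex b b.2) with hb | hb <;>
        simp only [f] at hab <;> simp_all
    have := Nat.card_le_card_of_injective f hf
    simp at this
    omega

theorem cent_le (hG : Small G) {p : ℕ} [hp : Fact p.Prime]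
    (hTI : ∀ P R : Sylow p G, P ≠ R → (P : Subgroup G) ⊓ (R : Subgroup G) = ⊥)
    (P : Sylow p G) {x : G} (hx : x ∈ (P : Subgroup G)) (hx1 : x ≠ 1) :
    Subgroup.centralizer ({x} : Set G) ≤ (P : Subgroup G) := by
  obtain ⟨k, hk⟩ := IsPGroup.iff_orderOf.1 P.isPGroup' ⟨x, hx⟩
  rw [← Subgroup.orderOf_coe] at hk
  obtain ⟨R, hR⟩ := (hG.pGroup_centralizer hx1 ⟨k, hk⟩).exists_le_sylow
  by_contra hc
  have hne : P ≠ R := fun e => hc (e ▸ hR)
  have hxR : x ∈ (P : Subgroup G) ⊓ (R : Subgroup G) :=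
    ⟨hx, hR (Subgroup.mem_centralizer_singleton_iff.2 rfl)⟩
  rw [hTI P R hne, Subgroup.mem_bot] at hxR
  exact hx1 hxR

/-- An `r`-subgroup normalising a Sylow `p`-subgroup acts on it semiregularly. -/
theorem card_dvd_pred (hG : Small G) {p r : ℕ} [hp : Fact p.Prime] [hr : Fact r.Prime] (hpr : p ≠ r)
    (P : Sylow p G) {L : Subgroup G} (hL : IsPGroup r L)
    (hLP : L ≤ Subgroup.normalizer ((P : Subgroup G) : Set G)) :
    Nat.card L ∣ Nat.card (P : Subgroup G) - 1 := by
  classical
  haveI : Fintype (P : Subgroup G) := Fintype.ofFinite _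
  let X := {x : (P : Subgroup G) // x ≠ 1}
  letI act : MulAction L X :=
    { smul := fun l x => ⟨⟨(l : G) * x.1 * (l : G)⁻¹,
          (Subgroup.mem_normalizer_iff.1 (hLP l.2) _).1 x.1.2⟩,
        fun e => x.2 (Subtype.ext (conj_eq_one_iff.1 (congrArg Subtype.val e)))⟩
      one_smul := fun x => Subtype.ext (Subtype.ext (by
        show ((1 : L) : G) * x.1 * ((1 : L) : G)⁻¹ = x.1
        simp))
      mul_smul := fun a b x => Subtype.ext (Subtype.ext (by
        show ((a * b : L) : G) * x.1 * ((a * b : L) : G)⁻¹ = a * (b * x.1 * (b : G)⁻¹) * (a : G)⁻¹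
        simp [mul_assoc])) }
  have hfree : ∀ x : X, MulAction.stabilizer L x = ⊥ := by
    intro x
    rw [Subgroup.eq_bot_iff_forall]
    intro l hl
    by_contra hl1
    have h : (l : G) * x.1 * (l : G)⁻¹ = x.1 :=
      congrArg (fun y : X => ((y.1 : (P : Subgroup G)) : G)) hl
    obtain ⟨i, hi⟩ := IsPGroup.iff_orderOf.1 hL l
    obtain ⟨j, hj⟩ := IsPGroup.iff_orderOf.1 P.isPGroup' x.1
    rw [← Subgroup.orderOf_coe] at hi hj
    refine hG.no_comm (fun e => hl1 (Subtype.ext e)) (fun e => x.2 (Subtype.ext e))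
      (mul_inv_eq_iff_eq_mul.1 h) ?_
    rw [hi, hj]
    exact Nat.Coprime.pow i j ((Nat.coprime_primes hr.out hp.out).2 hpr.symm)
  have hX : Nat.card X = Nat.card (P : Subgroup G) - 1 := by
    rw [Nat.card_eq_fintype_card, Nat.card_eq_fintype_card, Fintype.card_subtype_compl,
      Fintype.card_subtype_eq]
  rw [← hX, Nat.card_congr (MulAction.selfEquivOrbitsQuotientProd hfree), Nat.card_prod]
  exact dvd_mul_left _ _

/-- The automiser of an odd Sylow subgroup. -/
theorem automiser (hG : Small G) {p q : ℕ} [hp : Fact p.Prime] [hq : Fact q.Prime] (hp2 : p ≠ 2)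
    (hq2 : q ≠ 2) (hpq : p ≠ q) (hpr : ∀ r : ℕ, r.Prime → r ∣ Nat.card G → r = 2 ∨ r = p ∨ r = q)
    (hTI : ∀ P R : Sylow p G, P ≠ R → (P : Subgroup G) ⊓ (R : Subgroup G) = ⊥)
    (hd : p ∣ Nat.card G) (P : Sylow p G) :
    ∃ e, Nat.card (Sylow p G) * (Nat.card (P : Subgroup G) * e) = Nat.card G ∧
      e ∈ [1, 2, 4, 8, q] ∧ e ∣ Nat.card (P : Subgroup G) - 1 ∧
      ∀ u x : G, x ∈ (P : Subgroup G) → x ≠ 1 → u * x * u⁻¹ = x⁻¹ → 2 ∣ e := by
  classical
  set N := Subgroup.normalizer ((P : Subgroup G) : Set G) with hN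
  set PN := (P : Subgroup G).subgroupOf N with hPN
  haveI : PN.Normal := Subgroup.normal_in_normalizer
  have hcardPN : Nat.card PN = Nat.card (P : Subgroup G) :=
    Nat.card_congr (Subgroup.subgroupOfEquivOfLe Subgroup.le_normalizer).toEquiv
  have hNcard : Nat.card (P : Subgroup G) * PN.index = Nat.card N := by
    rw [← hcardPN, Subgroup.card_mul_index]
  have heq : Nat.card (Sylow p G) * (Nat.card (P : Subgroup G) * PN.index) = Nat.card G := by
    rw [P.card_eq_index_normalizer, hNcard, mul_comm]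
    exact Subgroup.card_mul_index N
  have hpnd : ¬ p ∣ PN.index := by
    intro hd
    have h1 : (P : Subgroup G).index = PN.index * N.index := by
      rw [hPN]
      exact (Subgroup.relIndex_mul_index (Subgroup.le_normalizer)).symm
    exact P.not_dvd_index' (by rw [Subgroup.relIndex]; exact Subgroup.index_ne_zero_of_finite)
      (h1 ▸ hd.mul_right _)
  -- Sylow subgroups of the normaliser
  have hpart : ∀ r : ℕ, r.Prime → r ≠ p → ∃ L : Subgroup G, L ≤ N ∧ IsPGroup r L ∧
      Nat.card L = r ^ PN.index.factorization r := by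
    intro r hr hrp
    haveI := Fact.mk hr
    obtain ⟨L⟩ : Nonempty (Sylow r N) := inferInstance
    refine ⟨(L : Subgroup N).map N.subtype, Subgroup.map_subtype_le _, L.isPGroup'.map _, ?_⟩
    rw [Subgroup.card_map_of_injective N.subtype_injective, L.card_eq_multiplicity, ← hNcard,
      Nat.factorization_mul Nat.card_pos.ne' Subgroup.index_ne_zero_of_finite, Finsupp.add_apply]
    obtain ⟨k, hk⟩ := IsPGroup.iff_card.1 P.isPGroup'
    rw [hk, hp.out.factorization_pow, Finsupp.single_apply, if_neg (Ne.symm hrp), zero_add]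
  -- involutions of the normaliser invert
  have hinvert : ∀ a ∈ N, a * a = 1 → a ≠ 1 → ∀ x ∈ (P : Subgroup G), a * x * a⁻¹ = x⁻¹ := by
    intro a ha ha2 ha1 x hx
    refine inverts_of_fpf (fun y hy => (Subgroup.mem_normalizer_iff.1 ha y).1 hy) ha2 ?_ hx
    intro y hy hay
    by_contra hy1
    refine hG.no_comm ha1 hy1 hay ?_
    rw [orderOf_eq_prime (p := 2) (by rw [pow_two]; exact ha2) ha1,
      hG.orderOf_eq hp.out hp2 hy1 ⟨1, by
        rw [pow_one]; exact orderOf_eq_prime (hG.pow_prime hp.out hp2 P.isPGroup' hy) hy1⟩]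
    exact (Nat.coprime_primes Nat.prime_two hp.out).2 (Ne.symm hp2)
  obtain ⟨x₀, hx₀, hx₀1⟩ := (P : Subgroup G).bot_or_exists_ne_one.resolve_left
    (P.ne_bot_of_dvd_card hd)
  have htwo : ∀ L : Subgroup G, L ≤ N → IsPGroup 2 L → Nat.card L ≤ 8 := by
    intro L hLN hL
    by_cases hL1 : L = ⊥
    · rw [hL1, Subgroup.card_bot]; norm_num
    haveI : Nontrivial L := (Subgroup.nontrivial_iff_ne_bot L).2 hL1
    haveI := hL.center_nontrivial
    obtain ⟨z, hz⟩ := exists_prime_orderOf_dvd_card' (G := Subgroup.center L) 2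
      (by
        obtain ⟨k, hk, hcard⟩ :=
          (hL.to_subgroup (Subgroup.center L)).nontrivial_iff_card.1 inferInstance
        exact hcard ▸ dvd_pow_self 2 hk.ne')
    have hzz : ((z : L) : G) * ((z : L) : G) = 1 := by
      have : z * z = 1 := by rw [← pow_two, ← hz]; exact pow_orderOf_eq_one z
      exact congrArg (fun y : Subgroup.center L => ((y : L) : G)) this
    refine card_le_eight hG hL (z : L).2 hzz fun a ha ha2 => ?_
    by_contra hc
    push Not at hc
    have hz1 : ((z : L) : G) ≠ 1 := fun e => by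
      have : z = 1 := Subtype.ext (Subtype.ext e)
      rw [this, orderOf_one] at hz
      omega
    refine hG.no_rank_two (p := p) (r := 2) hp2 P.isPGroup' (fun e => hx₀1 ?_) hz1
      (by rw [pow_two]; exact hzz) (by rw [pow_two]; exact ha2)
      (congrArg Subtype.val (Subgroup.mem_center_iff.1 z.2 ⟨a, ha⟩)).symm ?_ (hLN (z : L).2) (hLN ha)
    · rw [e, Subgroup.mem_bot] at hx₀; exact hx₀
    · intro hmem
      obtain ⟨k, rfl⟩ := Subgroup.mem_zpowers_iff.1 hmem
      rcases Int.even_or_odd k with ⟨m, rfl⟩ | ⟨m, rfl⟩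
      · exact hc.1 (by rw [← two_mul, zpow_mul, zpow_two, hzz, one_zpow])
      · exact hc.2 (by rw [zpow_add_one, zpow_mul, zpow_two, hzz, one_zpow, one_mul])
  refine ⟨PN.index, heq, ?_⟩
  obtain ⟨L₂, hL₂N, hL₂p, hL₂c⟩ := hpart 2 Nat.prime_two (Ne.symm hp2)
  obtain ⟨Lq, hLqN, hLqp, hLqc⟩ := hpart q hq.out (Ne.symm hpq)
  have hi : PN.index.factorization 2 ≤ 3 := by
    have h := htwo L₂ hL₂N hL₂p
    rw [hL₂c] at h
    exact (Nat.pow_le_pow_iff_right (a := 2) (by norm_num)).1 (h.trans_eq (by norm_num))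
  have hj : PN.index.factorization q ≤ 1 := by
    have h := hG.card_le_prime (p := p) (r := q) hpq P.isPGroup'
      (fun e => hx₀1 (by rw [e, Subgroup.mem_bot] at hx₀; exact hx₀))
      (fun x hx => hG.pow_prime hq.out hq2 hLqp hx) hLqN
    rw [hLqc] at h
    exact (Nat.pow_le_pow_iff_right hq.out.one_lt).1 (h.trans_eq (pow_one q).symm)
  have hprod : PN.index = 2 ^ PN.index.factorization 2 * q ^ PN.index.factorization q := by
    have hne : PN.index ≠ 0 := Subgroup.index_ne_zero_of_finite
    have h := Nat.prod_factorization_pow_eq_self (n := PN.index) hne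
    rw [Finsupp.prod_of_support_subset _ (s := ({2, q} : Finset ℕ)) (fun r hr => by
      rw [Nat.support_factorization] at hr
      have hrd := Nat.dvd_of_mem_primeFactors hr
      rcases hpr r (Nat.prime_of_mem_primeFactors hr)
        ((hrd.trans (Dvd.intro_left _ hNcard)).trans (Subgroup.card_subgroup_dvd_card N))
        with rfl | rfl | rfl
      · simp
      · exact absurd hrd hpnd
      · simp) _ (fun _ _ => pow_zero _), Finset.prod_pair (Ne.symm hq2)] at h
    exact h.symm
  -- no element of order twice `q` in the automiser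
  have hnot : PN.index.factorization 2 = 0 ∨ PN.index.factorization q = 0 := by
    by_contra hc
    push Not at hc
    obtain ⟨z, hz⟩ := exists_prime_orderOf_dvd_card' (G := L₂) 2
      (hL₂c ▸ dvd_pow_self 2 hc.1)
    obtain ⟨y, hy⟩ := exists_prime_orderOf_dvd_card' (G := Lq) q (hLqc ▸ dvd_pow_self q hc.2)
    rw [← Subgroup.orderOf_coe] at hz hy
    have hz2 : (z : G) * z = 1 := by rw [← pow_two, ← hz]; exact pow_orderOf_eq_one _
    have hz1 : (z : G) ≠ 1 := fun e => by rw [e, orderOf_one] at hz; omega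
    have hzN : (z : G) ∈ N := hL₂N z.2
    have hyN : (y : G) ∈ N := hLqN y.2
    have hy2 : ((y : G) * z * (y : G)⁻¹) * ((y : G) * z * (y : G)⁻¹) = 1 := by
      calc _ = (y : G) * ((z : G) * z) * (y : G)⁻¹ := by group
        _ = 1 := by rw [hz2]; group
    have hw : (z : G)⁻¹ * ((y : G) * z * (y : G)⁻¹) ∈ (P : Subgroup G) := by
      refine cent_le hG hTI P hx₀ hx₀1 (Subgroup.mem_centralizer_singleton_iff.2 ?_)
      have e1 := hinvert _ hzN hz2 hz1 x₀⁻¹ (inv_mem hx₀)
      have e2 := hinvert _ (N.mul_mem (N.mul_mem hyN hzN) (N.inv_mem hyN)) hy2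
        (fun e => hz1 (conj_eq_one_iff.1 e)) x₀ hx₀
      rw [inv_inv] at e1
      refine mul_inv_eq_iff_eq_mul.1 ?_
      calc (z : G)⁻¹ * ((y : G) * z * (y : G)⁻¹) * x₀ * ((z : G)⁻¹ * ((y : G) * z * (y : G)⁻¹))⁻¹
          = (z : G)⁻¹ * (((y : G) * z * (y : G)⁻¹) * x₀ * ((y : G) * z * (y : G)⁻¹)⁻¹) * z := by group
        _ = x₀ := by
            rw [e2, inv_eq_of_mul_eq_one_right hz2]
            rw [inv_eq_of_mul_eq_one_right hz2] at e1
            exact e1
    have hK := (hG.subgroup N).quotient PN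
    let π := QuotientGroup.mk' PN
    have hcomm : Commute (π ⟨z, hzN⟩) (π ⟨y, hyN⟩) := by
      have : π (⟨z, hzN⟩⁻¹ * (⟨y, hyN⟩ * ⟨z, hzN⟩ * ⟨y, hyN⟩⁻¹)) = 1 :=
        (QuotientGroup.eq_one_iff _).2 (show (z : G)⁻¹ * ((y : G) * z * (y : G)⁻¹) ∈ _ from hw)
      rw [map_mul, map_mul, map_mul, map_inv, map_inv, inv_mul_eq_one] at this
      exact (mul_inv_eq_iff_eq_mul.1 this.symm).symm
    have hord : ∀ (g : G) (hg : g ∈ N) (r : ℕ), r.Prime → r ≠ p → orderOf g = r →
        orderOf (π ⟨g, hg⟩) = r := by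
      intro g hg r hr hrp hgr
      haveI := Fact.mk hr
      refine orderOf_eq_prime ?_ fun e => ?_
      · rw [← map_pow, show (⟨g, hg⟩ : N) ^ r = 1 from Subtype.ext (by
          rw [SubgroupClass.coe_pow, ← hgr]; exact pow_orderOf_eq_one g), map_one]
      · have hgP : g ∈ (P : Subgroup G) := (QuotientGroup.eq_one_iff (⟨g, hg⟩ : N)).1 e
        obtain ⟨k, hk⟩ := IsPGroup.iff_orderOf.1 P.isPGroup' ⟨g, hgP⟩
        rw [← Subgroup.orderOf_coe] at hk
        rcases k with _ | k
        · rw [hgr] at hk; exact hr.ne_one (by simpa using hk)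
        · rw [hgr] at hk
          exact hrp ((Nat.prime_dvd_prime_iff_eq hp.out hr).1 (hk ▸ dvd_pow_self p k.succ_ne_zero)).symm
    have oz := hord z hzN 2 Nat.prime_two (Ne.symm hp2) hz
    have oy := hord y hyN q hq.out (Ne.symm hpq) hy
    refine hK.no_comm (fun e => ?_) (fun e => ?_) hcomm ?_
    · rw [e, orderOf_one] at oz; omega
    · rw [e, orderOf_one] at oy; exact hq.out.ne_one oy.symm
    · rw [oz, oy]; exact (Nat.coprime_primes Nat.prime_two hq.out).2 (Ne.symm hq2)
  refine ⟨?_, ?_, ?_⟩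
  · rw [hprod]
    rcases hnot with h | h <;> rw [h]
    · rcases Nat.le_one_iff_eq_zero_or_eq_one.1 hj with h' | h' <;> simp [h']
    · interval_cases hh : PN.index.factorization 2 <;> simp
  · rw [hprod]
    have hd2 := card_dvd_pred hG hp2 P hL₂p hL₂N
    have hdq := card_dvd_pred hG hpq P hLqp hLqN
    rw [hL₂c] at hd2
    rw [hLqc] at hdq
    exact (Nat.Coprime.pow _ _ ((Nat.coprime_primes Nat.prime_two hq.out).2 (Ne.symm hq2))).mul_dvd_of_dvd_of_dvd
      hd2 hdq
  · intro u x hx hx1 hux
    have huN : u ∈ N := by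
      by_contra hu
      have hne : P ≠ u • P := fun e => hu (Sylow.smul_eq_iff_mem_normalizer.1 e.symm)
      have hmem : x⁻¹ ∈ ((u • P : Sylow p G) : Subgroup G) := by
        rw [Sylow.coe_subgroup_smul, ← hux]
        exact Subgroup.smul_mem_pointwise_smul x (MulAut.conj u) _ hx
      have := hTI P (u • P) hne
      have h1 : x⁻¹ ∈ (⊥ : Subgroup G) := this.le ⟨(P : Subgroup G).inv_mem hx, hmem⟩
      exact hx1 (inv_eq_one.1 (Subgroup.mem_bot.1 h1))
    by_contra hodd
    have hu2 : ¬ 2 ∣ orderOf u := by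
      intro h
      have h2 := h.trans (N.orderOf_dvd_natCard huN)
      rw [← hNcard] at h2
      rcases (Nat.prime_two.dvd_mul).1 h2 with h' | h'
      · obtain ⟨k, hk⟩ := IsPGroup.iff_card.1 P.isPGroup'
        rw [hk] at h'
        exact hp2 ((Nat.prime_dvd_prime_iff_eq Nat.prime_two hp.out).1 (Nat.prime_two.dvd_of_dvd_pow h')).symm
      · exact hodd h'
    obtain ⟨m, hm⟩ : Odd (orderOf u) := Nat.odd_iff.2 (by omega)
    have hu2x : Commute (u * u) x := by
      refine mul_inv_eq_iff_eq_mul.1 ?_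
      calc u * u * x * (u * u)⁻¹ = u * (u * x * u⁻¹) * u⁻¹ := by group
        _ = x := by rw [hux, ← conj_inv, hux, inv_inv]
    have huc : Commute u x := by
      have : u = (u * u) ^ (m + 1) := by
        rw [← pow_two, ← pow_mul, show 2 * (m + 1) = orderOf u + 1 by omega, pow_succ,
          pow_orderOf_eq_one, one_mul]
      rw [this]; exact hu2x.pow_left _
    have hxx : x⁻¹ = x := by rw [← hux, huc.eq, mul_inv_cancel_right]
    have h2 : x ^ 2 = 1 := by rw [pow_two]; nth_rewrite 1 [← hxx]; exact inv_mul_cancel x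
    have := orderOf_dvd_of_pow_eq_one h2
    rw [hG.orderOf_eq hp.out hp2 hx1 ⟨1, by
      rw [pow_one]; exact orderOf_eq_prime (hG.pow_prime hp.out hp2 P.isPGroup' hx) hx1⟩] at this
    exact hp2 ((Nat.prime_dvd_prime_iff_eq hp.out Nat.prime_two).1 this)

/-- The elements of order `p` when the Sylow subgroups meet trivially. -/
theorem card_orderOf_eq (hG : Small G) {p : ℕ} [hp : Fact p.Prime] (hp2 : p ≠ 2)
    (hTI : ∀ P R : Sylow p G, P ≠ R → (P : Subgroup G) ⊓ (R : Subgroup G) = ⊥) (P : Sylow p G) :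
    Nat.card {g : G // orderOf g = p} = Nat.card (Sylow p G) * (Nat.card (P : Subgroup G) - 1) := by
  classical
  haveI : Fintype (Sylow p G) := Fintype.ofFinite _
  have hX : ∀ R : Sylow p G, Nat.card {x : (R : Subgroup G) // x ≠ 1} = Nat.card (P : Subgroup G) - 1 := by
    intro R
    haveI : Fintype (R : Subgroup G) := Fintype.ofFinite _
    rw [Nat.card_eq_fintype_card, Fintype.card_subtype_compl, Fintype.card_subtype_eq,
      ← Nat.card_eq_fintype_card]
    exact congrArg (· - 1) (Nat.card_congr (Sylow.equiv R P).toEquiv)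
  have e : (Σ R : Sylow p G, {x : (R : Subgroup G) // x ≠ 1}) ≃ {g : G // orderOf g = p} := by
    refine Equiv.ofBijective (fun s => ⟨(s.2.1 : G), orderOf_eq_prime
      (hG.pow_prime hp.out hp2 s.1.isPGroup' s.2.1.2) (fun h => s.2.2 (Subtype.ext h))⟩) ⟨?_, ?_⟩
    · rintro ⟨R, ⟨x, hx⟩, hx1⟩ ⟨R', ⟨x', hx'⟩, hx1'⟩ h
      have hxx : x = x' := congrArg Subtype.val h
      subst hxx
      by_cases hR : R = R'
      · subst hR; rfl
      · exfalso
        have : x ∈ (⊥ : Subgroup G) := hTI R R' hR ▸ ⟨hx, hx'⟩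
        exact hx1 (Subtype.ext (Subgroup.mem_bot.1 this))
    · rintro ⟨g, hg⟩
      have hgp : IsPGroup p (Subgroup.zpowers g) :=
        IsPGroup.of_card (n := 1) (by rw [Nat.card_zpowers, hg, pow_one])
      obtain ⟨R, hR⟩ := hgp.exists_le_sylow
      refine ⟨⟨R, ⟨⟨g, hR (Subgroup.mem_zpowers g)⟩, fun h => ?_⟩⟩, rfl⟩
      rw [show g = 1 from congrArg Subtype.val h, orderOf_one] at hg
      exact hp.out.ne_one hg.symm
  rw [← Nat.card_congr e, Nat.card_sigma, Finset.sum_congr rfl (fun R _ => hX R), Finset.sum_const,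
    Finset.card_univ, smul_eq_mul, Nat.card_eq_fintype_card (α := Sylow p G)]

/-- The elements sorted by order. -/
theorem card_split (hG : Small G) :
    Nat.card G = 1 + Nat.card {g : G // g ≠ 1 ∧ g ^ 4 = 1} + Nat.card {g : G // orderOf g = 3} +
      Nat.card {g : G // orderOf g = 5} := by
  classical
  haveI : Fintype G := Fintype.ofFinite G
  simp only [Nat.card_eq_fintype_card, Fintype.card_subtype]
  rw [← Finset.card_univ, show 1 = (({1} : Finset G)).card from rfl,
    ← Finset.card_union_of_disjoint, ← Finset.card_union_of_disjoint, ← Finset.card_union_of_disjoint]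
  · congr 1
    ext g
    simp only [Finset.mem_univ, Finset.mem_union, Finset.mem_singleton, Finset.mem_filter, true_and,
      true_iff]
    by_cases hg : g = 1
    · exact Or.inl (Or.inl (Or.inl hg))
    have h5 := hG g
    have h1 : orderOf g ≠ 1 := fun h => hg (orderOf_eq_one_iff.1 h)
    have h0 := orderOf_pos g
    have : orderOf g = 2 ∨ orderOf g = 3 ∨ orderOf g = 4 ∨ orderOf g = 5 := by omega
    rcases this with h | h | h | h
    · exact Or.inl (Or.inl (Or.inr ⟨hg, orderOf_dvd_iff_pow_eq_one.1 (by rw [h]; norm_num)⟩))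
    · exact Or.inl (Or.inr h)
    · exact Or.inl (Or.inl (Or.inr ⟨hg, orderOf_dvd_iff_pow_eq_one.1 (by rw [h])⟩))
    · exact Or.inr h
  all_goals
    rw [Finset.disjoint_left]
    intro g h1 h2
    simp only [Finset.mem_union, Finset.mem_singleton, Finset.mem_filter, Finset.mem_univ, true_and]
      at h1 h2
  · rcases h1 with (rfl | ⟨-, h⟩) | h
    · rw [orderOf_one] at h2; omega
    · have := orderOf_dvd_of_pow_eq_one h; rw [h2] at this; norm_num at this
    · omega
  · rcases h1 with rfl | ⟨-, h⟩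
    · rw [orderOf_one] at h2; omega
    · have := orderOf_dvd_of_pow_eq_one h; rw [h2] at this; norm_num at this
  · exact h2.1 h1

end CfsgLib.Recognition.OneToFive
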