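import Cfsg.Agent.Lib.Recognition.OneToFive.Basic

/-!
A normal two-subgroup, on which an element of odd prime order acts without fixed points, inverted by
an element all of whose translates have order dividing four, is elementary abelian.
-/

set_option autoImplicit false
set_option linter.style.haveILetI false

namespace CfsgLib.Recognition.OneToFive

variable {G : Type*} [Group G]

omit G in
theorem fix_of_sq {G : Type*} [Group G] {σ v : G} {p : ℕ} (hp : Odd p) (hσ : σ ^ p = 1)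
    (h : σ * σ * v * (σ * σ)⁻¹ = v) : σ * v * σ⁻¹ = v := by
  obtain ⟨k, rfl⟩ := hp
  have h1 : Commute (σ * σ) v := mul_inv_eq_iff_eq_mul.1 h
  have h2 : σ = (σ * σ) ^ (k + 1) := by
    rw [← pow_two, ← pow_mul, show 2 * (k + 1) = (2 * k + 1) + 1 by ring, pow_succ, hσ, one_mul]
  have h3 : Commute σ v := by rw [h2]; exact h1.pow_left _
  rw [h3.eq, mul_inv_cancel_right]

/-- The fixed points of the inverting element form half of the group. -/
theorem half [Finite G] (V : Subgroup G) [hVn : V.Normal] (hexp : ∀ v ∈ V, v * v = 1)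
    {σ u : G} {p : ℕ} (hp : Odd p) (hσ : σ ^ p = 1) (hfix : ∀ v ∈ V, σ * v * σ⁻¹ = v → v = 1)
    (hinv : u * σ * u⁻¹ * σ ∈ V) (hu : u * u ∈ V) :
    Nat.card ↥(V ⊓ Subgroup.centralizer ({u} : Set G)) ^ 2 = Nat.card V ∧
    (∀ a ∈ V ⊓ Subgroup.centralizer ({u} : Set G), ∃ v ∈ V, a = u * v * u⁻¹ * v) ∧
    (∀ v ∈ V, ∃ a ∈ V ⊓ Subgroup.centralizer ({u} : Set G),
      ∃ b ∈ V ⊓ Subgroup.centralizer ({u} : Set G), v = a * (σ * b * σ⁻¹)) ∧
    (∀ a ∈ V ⊓ Subgroup.centralizer ({u} : Set G),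
      σ * a * σ⁻¹ * (σ⁻¹ * a * σ) ∈ V ⊓ Subgroup.centralizer ({u} : Set G)) := by
  have hcomm : ∀ x ∈ V, ∀ y ∈ V, x * y = y * x := by
    intro x hx y hy
    calc x * y = (x * y)⁻¹ := (inv_eq_of_mul_eq_one_right (hexp _ (V.mul_mem hx hy))).symm
      _ = y * x := by rw [mul_inv_rev, inv_eq_of_mul_eq_one_right (hexp _ hy),
            inv_eq_of_mul_eq_one_right (hexp _ hx)]
  set I := V ⊓ Subgroup.centralizer ({u} : Set G) with hI
  have hmemI : ∀ {x : G}, x ∈ I ↔ x ∈ V ∧ u * x * u⁻¹ = x := fun {x} => by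
    rw [hI, Subgroup.mem_inf, Subgroup.mem_centralizer_singleton_iff, mul_inv_eq_iff_eq_mul, eq_comm (a := x * u)]
  have hconjV : ∀ g : G, ∀ x ∈ V, g * x * g⁻¹ ∈ V := fun g x hx => hVn.conj_mem x hx g
  have hc1 : ∀ x ∈ V, u * (σ * x * σ⁻¹) * u⁻¹ = σ⁻¹ * (u * x * u⁻¹) * σ := by
    intro x hx
    have hw : u * σ * u⁻¹ * σ ∈ V := hinv
    have hy : σ⁻¹ * (u * x * u⁻¹) * σ ∈ V := by
      have := hconjV σ⁻¹ _ (hconjV u x hx)
      rwa [inv_inv] at this
    calc u * (σ * x * σ⁻¹) * u⁻¹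
        = (u * σ * u⁻¹ * σ) * (σ⁻¹ * (u * x * u⁻¹) * σ) * (u * σ * u⁻¹ * σ)⁻¹ := by group
      _ = _ := by rw [hcomm _ hw _ hy, mul_inv_cancel_right]
  have hc2 : ∀ x ∈ V, u * (σ⁻¹ * x * σ) * u⁻¹ = σ * (u * x * u⁻¹) * σ⁻¹ := by
    intro x hx
    have h := hc1 (σ⁻¹ * x * σ) (by have := hconjV σ⁻¹ x hx; rwa [inv_inv] at this)
    rw [show σ * (σ⁻¹ * x * σ) * σ⁻¹ = x by group] at h
    rw [h]; group
  have huu : ∀ x ∈ V, u * (u * x * u⁻¹) * u⁻¹ = x := by
    intro x hx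
    calc u * (u * x * u⁻¹) * u⁻¹ = (u * u) * x * (u * u)⁻¹ := by group
      _ = x := by rw [hcomm _ hu _ hx, mul_inv_cancel_right]
  let X : V →* V :=
    { toFun := fun v => ⟨u * v * u⁻¹ * v, V.mul_mem (hconjV u v v.2) v.2⟩
      map_one' := Subtype.ext (by simp)
      map_mul' := fun v w => Subtype.ext (by
        show u * ((v : G) * w) * u⁻¹ * ((v : G) * w) = u * v * u⁻¹ * v * (u * w * u⁻¹ * w)
        calc u * ((v : G) * w) * u⁻¹ * ((v : G) * w)
            = u * v * u⁻¹ * ((u * w * u⁻¹) * v) * w := by group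
          _ = _ := by rw [hcomm _ (hconjV u w w.2) _ v.2]; group) }
  have hker : X.ker.map V.subtype = I := by
    ext x
    rw [hmemI]
    constructor
    · rintro ⟨v, hv, rfl⟩
      refine ⟨v.2, ?_⟩
      have hv1 : u * (v : G) * u⁻¹ * v = 1 := congrArg Subtype.val hv
      show u * (v : G) * u⁻¹ = v
      rw [eq_inv_of_mul_eq_one_left hv1, inv_eq_of_mul_eq_one_right (hexp _ v.2)]
    · rintro ⟨hx, hfx⟩
      refine ⟨⟨x, hx⟩, Subtype.ext ?_, rfl⟩
      show u * x * u⁻¹ * x = 1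
      rw [hfx, hexp x hx]
  have hran : X.range.map V.subtype ≤ I := by
    rintro _ ⟨_, ⟨v, rfl⟩, rfl⟩
    rw [hmemI]
    refine ⟨(X v).2, ?_⟩
    show u * (u * v * u⁻¹ * v) * u⁻¹ = u * v * u⁻¹ * v
    calc u * (u * v * u⁻¹ * v) * u⁻¹ = u * (u * v * u⁻¹) * u⁻¹ * (u * v * u⁻¹) := by group
      _ = _ := by rw [huu v v.2, hcomm _ v.2 _ (hconjV u v v.2)]
  have hle : Nat.card V ≤ Nat.card I ^ 2 := by
    rw [← Subgroup.card_mul_index X.ker, Subgroup.index_ker, pow_two,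
      ← Subgroup.card_map_of_injective V.subtype_injective, hker]
    refine Nat.mul_le_mul_left _ ?_
    rw [← Subgroup.card_map_of_injective V.subtype_injective]
    exact Subgroup.card_le_of_le hran
  let m : I × I → V := fun ab => ⟨(ab.1 : G) * (σ * ab.2 * σ⁻¹),
    V.mul_mem (hmemI.1 ab.1.2).1 (hconjV σ _ (hmemI.1 ab.2.2).1)⟩
  have hinj : Function.Injective m := by
    rintro ⟨a, b⟩ ⟨a', b'⟩ he
    have he' : (a : G) * (σ * b * σ⁻¹) = a' * (σ * b' * σ⁻¹) := congrArg Subtype.val he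
    have hd : (a' : G)⁻¹ * a = σ * ((b' : G) * (b : G)⁻¹) * σ⁻¹ := by
      rw [eq_comm, ← mul_right_inj (a' : G), mul_inv_cancel_left]
      calc (a' : G) * (σ * ((b' : G) * (b : G)⁻¹) * σ⁻¹)
          = (a' : G) * (σ * b' * σ⁻¹) * (σ * b * σ⁻¹)⁻¹ := by group
        _ = a := by rw [← he', mul_inv_cancel_right]
    have hxI : (a' : G)⁻¹ * a ∈ I := I.mul_mem (I.inv_mem a'.2) a.2
    have hyI : (b' : G) * (b : G)⁻¹ ∈ I := I.mul_mem b'.2 (I.inv_mem b.2)
    generalize (b' : G) * (b : G)⁻¹ = y, hyb : (b' : G) * (b : G)⁻¹ = y at hd hyI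
    have hy := hmemI.1 hyI
    have h2 := (hmemI.1 hxI).2
    rw [hd, hc1 y hy.1, hy.2] at h2
    have hy1 : y = 1 := by
      refine hfix y hy.1 (fix_of_sq hp hσ ?_)
      calc σ * σ * y * (σ * σ)⁻¹ = σ * (σ * y * σ⁻¹) * σ⁻¹ := by group
        _ = y := by rw [← h2]; group
    rw [hy1] at hyb hd
    have hb : b' = b := Subtype.ext (mul_inv_eq_one.1 hyb)
    have ha : a' = a := Subtype.ext (inv_mul_eq_one.1 (hd.trans (by group)))
    rw [ha, hb]
  have hle2 : Nat.card I ^ 2 ≤ Nat.card V := by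
    rw [pow_two, ← Nat.card_prod]
    exact Nat.card_le_card_of_injective m hinj
  have hcard : Nat.card I ^ 2 = Nat.card V := le_antisymm hle2 hle
  refine ⟨hcard, ?_, ?_, ?_⟩
  · have heq : X.range.map V.subtype = I := by
      refine Subgroup.eq_of_le_of_card_ge hran ?_
      rw [Subgroup.card_map_of_injective V.subtype_injective]
      by_contra hc
      have hlt : Nat.card X.ker * Nat.card X.range < Nat.card I ^ 2 := by
        rw [pow_two, ← Subgroup.card_map_of_injective (K := X.ker) V.subtype_injective, hker]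
        exact Nat.mul_lt_mul_of_pos_left (not_le.1 hc) Nat.card_pos
      rw [← Subgroup.index_ker, Subgroup.card_mul_index, hcard] at hlt
      exact lt_irrefl _ hlt
    intro a ha
    rw [← heq] at ha
    obtain ⟨_, ⟨v, rfl⟩, rfl⟩ := ha
    exact ⟨v, v.2, rfl⟩
  · intro v hv
    have hbij : Function.Bijective m :=
      (Nat.bijective_iff_injective_and_card m).2 ⟨hinj, by rw [Nat.card_prod, ← pow_two, hcard]⟩
    obtain ⟨⟨a, b⟩, hab⟩ := hbij.2 ⟨v, hv⟩
    exact ⟨a, a.2, b, b.2, (congrArg Subtype.val hab).symm⟩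
  · intro a ha
    have ha' := hmemI.1 ha
    have hσ' : σ⁻¹ * a * σ ∈ V := by have := hconjV σ⁻¹ a ha'.1; rwa [inv_inv] at this
    refine hmemI.2 ⟨V.mul_mem (hconjV σ a ha'.1) hσ', ?_⟩
    calc u * (σ * a * σ⁻¹ * (σ⁻¹ * a * σ)) * u⁻¹
        = u * (σ * a * σ⁻¹) * u⁻¹ * (u * (σ⁻¹ * a * σ) * u⁻¹) := by group
      _ = _ := by
        rw [hc1 a ha'.1, hc2 a ha'.1, ha'.2, hcomm _ hσ' _ (hconjV σ a ha'.1)]

universe v

/-- The translates of order dividing four force the group to be elementary abelian. -/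
theorem two_elementary : ∀ (n : ℕ) (G : Type v) [Group G] [Finite G] (V : Subgroup G) [V.Normal],
    Nat.card V = n → IsPGroup 2 V → ∀ (σ u : G) (p : ℕ), Odd p → σ ^ p = 1 →
    (∀ x ∈ V, σ * x * σ⁻¹ = x → x = 1) → u * σ * u⁻¹ * σ ∈ V → u * u ∈ V →
    (∀ x ∈ V, (u * x) ^ 4 = 1) → ∀ x ∈ V, x * x = 1 := by
  intro n
  induction n using Nat.strong_induction_on with
  | _ n ih =>
    intro G _ _ V hVn hn hV σ u p hp hσ hfix hinv hu h4
    by_cases hV1 : V = ⊥
    · intro x hx; rw [hV1, Subgroup.mem_bot] at hx; rw [hx, one_mul]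
    haveI : Nontrivial V := (Subgroup.nontrivial_iff_ne_bot V).2 hV1
    let Z : Subgroup G :=
      { carrier := {z | z ∈ V ∧ z * z = 1 ∧ ∀ w ∈ V, Commute z w}
        one_mem' := ⟨V.one_mem, one_mul 1, fun w _ => Commute.one_left w⟩
        mul_mem' := fun {a b} ha hb => ⟨V.mul_mem ha.1 hb.1,
          by rw [mul_assoc, ← mul_assoc b, ← (ha.2.2 b hb.1).eq, mul_assoc, hb.2.1, mul_one, ha.2.1],
          fun w hw => (ha.2.2 w hw).mul_left (hb.2.2 w hw)⟩
        inv_mem' := fun {a} ha => ⟨V.inv_mem ha.1, by rw [← mul_inv_rev, ha.2.1, inv_one],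
          fun w hw => (ha.2.2 w hw).inv_left⟩ }
    haveI hZn : Z.Normal := ⟨fun z hz g => by
      refine ⟨hVn.conj_mem z hz.1 g, ?_, fun w hw => ?_⟩
      · calc g * z * g⁻¹ * (g * z * g⁻¹) = g * (z * z) * g⁻¹ := by group
          _ = 1 := by rw [hz.2.1]; group
      · have hw' : g⁻¹ * w * g ∈ V := by have := hVn.conj_mem w hw g⁻¹; rwa [inv_inv] at this
        have := (hz.2.2 _ hw').map (MulAut.conj g).toMonoidHom
        simpa [mul_assoc] using this⟩
    have hZV : Z ≤ V := fun z hz => hz.1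
    have hZ1 : Z ≠ ⊥ := by
      haveI := hV.center_nontrivial
      obtain ⟨z, hz⟩ := exists_prime_orderOf_dvd_card' (G := Subgroup.center V) 2
        (by
          obtain ⟨k, hk, hcard⟩ :=
            (hV.to_subgroup (Subgroup.center V)).nontrivial_iff_card.1 inferInstance
          exact hcard ▸ dvd_pow_self 2 hk.ne')
      intro hb
      have hmem : ((z : V) : G) ∈ Z := by
        refine ⟨(z : V).2, ?_, fun w hw =>
          (congrArg Subtype.val (Subgroup.mem_center_iff.1 z.2 ⟨w, hw⟩)).symm⟩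
        have : z * z = 1 := by rw [← pow_two, ← hz]; exact pow_orderOf_eq_one z
        exact congrArg (fun y : Subgroup.center V => ((y : V) : G)) this
      rw [hb, Subgroup.mem_bot] at hmem
      have : z = 1 := Subtype.ext (Subtype.ext hmem)
      rw [this, orderOf_one] at hz
      omega
    let π := QuotientGroup.mk' Z
    have hπ : ∀ {g : G}, π g = 1 ↔ g ∈ Z := fun {g} => QuotientGroup.eq_one_iff g
    haveI hWn : (V.map π).Normal := hVn.map π (QuotientGroup.mk'_surjective Z)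
    have hlt : Nat.card ↥(V.map π) < n := by
      have h := Subgroup.card_mul_index (π.comp V.subtype).ker
      rw [Subgroup.index_ker, MonoidHom.range_comp, Subgroup.range_subtype, hn] at h
      have hk : 2 ≤ Nat.card (π.comp V.subtype).ker := by
        obtain ⟨z, hz⟩ := Z.ne_bot_iff_exists_ne_one.1 hZ1
        refine Finite.one_lt_card_iff_nontrivial.2 ⟨⟨⟨z.1, hZV z.2⟩, hπ.2 z.2⟩, 1, fun e => hz ?_⟩
        exact Subtype.ext (congrArg (fun y : (π.comp V.subtype).ker => ((y : V) : G)) e)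
      have hpos : 0 < Nat.card ↥(V.map π) := Nat.card_pos
      have := Nat.mul_le_mul_right (Nat.card ↥(V.map π)) hk
      rw [h] at this
      omega
    have hfixW : ∀ y ∈ V.map π, π σ * y * (π σ)⁻¹ = y → y = 1 := by
      rintro _ ⟨x, hx, rfl⟩ hfx
      rw [← map_mul, ← map_inv, ← map_mul] at hfx
      have hz : x⁻¹ * (σ * x * σ⁻¹) ∈ Z := hπ.1 (by rw [map_mul, map_inv, hfx, inv_mul_cancel])
      let F : Z → Z := fun y => ⟨(y : G) * (σ * y * σ⁻¹)⁻¹,
        Z.mul_mem y.2 (Z.inv_mem (hZn.conj_mem y y.2 σ))⟩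
      have hFinj : Function.Injective F := by
        intro y w hyw
        have h1 : (y : G) * (σ * y * σ⁻¹)⁻¹ = (w : G) * (σ * w * σ⁻¹)⁻¹ := congrArg Subtype.val hyw
        have h2 : (w : G)⁻¹ * y = 1 := by
          refine hfix _ (V.mul_mem (V.inv_mem (hZV w.2)) (hZV y.2)) ?_
          calc σ * ((w : G)⁻¹ * y) * σ⁻¹ = (σ * w * σ⁻¹)⁻¹ * (σ * y * σ⁻¹) := by group
            _ = (w : G)⁻¹ * ((w : G) * (σ * w * σ⁻¹)⁻¹) * (σ * y * σ⁻¹) := by group
            _ = (w : G)⁻¹ * y := by rw [← h1]; group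
        exact Subtype.ext (inv_mul_eq_one.1 h2).symm
      obtain ⟨y, hy⟩ := Finite.injective_iff_surjective.1 hFinj ⟨_, hz⟩
      have hy' : (y : G) * (σ * y * σ⁻¹)⁻¹ = x⁻¹ * (σ * x * σ⁻¹) := congrArg Subtype.val hy
      have hxy : x * y = 1 := hfix _ (V.mul_mem hx (hZV y.2)) (by
        calc σ * (x * y) * σ⁻¹ = x * (x⁻¹ * (σ * x * σ⁻¹)) * (σ * y * σ⁻¹) := by group
          _ = x * y := by rw [← hy']; group)
      rw [hπ, eq_inv_of_mul_eq_one_left hxy]
      exact Z.inv_mem y.2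
    have hexpW : ∀ y ∈ V.map π, y * y = 1 := by
      refine ih _ hlt (G ⧸ Z) (V.map π) rfl (hV.map π) (π σ) (π u) p hp (by rw [← map_pow, hσ, map_one])
        hfixW ⟨_, hinv, by simp only [map_mul, map_inv]⟩ ⟨_, hu, map_mul π u u⟩ ?_
      rintro _ ⟨x, hx, rfl⟩
      rw [← map_mul, ← map_pow, h4 x hx, map_one]
    obtain ⟨-, h2, h3, h5⟩ := half (V.map π) hexpW hp (by rw [← map_pow, hσ, map_one]) hfixW
      ⟨_, hinv, by simp only [map_mul, map_inv]⟩ ⟨_, hu, map_mul π u u⟩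
    set J := V.map π ⊓ Subgroup.centralizer ({π u} : Set (G ⧸ Z)) with hJ
    have hcommW : ∀ x ∈ V, ∀ y ∈ V, π x * π y = π y * π x := by
      intro x hx y hy
      have := hexpW _ ⟨_, V.mul_mem hx hy, rfl⟩
      rw [map_mul] at this
      calc π x * π y = (π x * π y)⁻¹ := (inv_eq_of_mul_eq_one_right this).symm
        _ = π y * π x := by rw [mul_inv_rev, inv_eq_of_mul_eq_one_right (hexpW _ ⟨_, hy, rfl⟩),
              inv_eq_of_mul_eq_one_right (hexpW _ ⟨_, hx, rfl⟩)]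
    have hfree : ∀ x ∈ V, ∀ z ∈ Z, x * z * (x * z) = x * x := by
      intro x hx z hz
      calc x * z * (x * z) = x * (z * x) * z := by group
        _ = x * x * (z * z) := by rw [(hz.2.2 x hx).eq]; group
        _ = x * x := by rw [hz.2.1, mul_one]
    have hsing : ∀ a ∈ V, π a ∈ J → a * a = 1 := by
      intro a ha haJ
      have hc : π (u * u) ∈ J := ⟨⟨_, hu, rfl⟩, by
        show π (u * u) ∈ Subgroup.centralizer ({π u} : Set (G ⧸ Z))
        rw [Subgroup.mem_centralizer_singleton_iff, map_mul, mul_assoc]⟩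
      obtain ⟨_, ⟨v, hv, rfl⟩, hav⟩ := h2 _ (J.mul_mem (J.inv_mem hc) haJ)
      have hwV : u * v * (u * v) ∈ V := by
        have h := V.mul_mem (V.mul_mem (hVn.conj_mem v hv u) hu) hv
        convert h using 1
        group
      have hwa : π (u * v * (u * v)) = π a := by
        calc π (u * v * (u * v)) = π (u * v * u⁻¹) * π (u * u) * π v := by
              rw [← map_mul, ← map_mul]; congr 1; group
          _ = π (u * u) * (π (u * v * u⁻¹) * π v) := by
              rw [hcommW _ (hVn.conj_mem v hv u) _ hu, mul_assoc]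
          _ = π (u * u) * ((π (u * u))⁻¹ * π a) := by rw [hav]; simp only [map_mul, map_inv]
          _ = π a := mul_inv_cancel_left _ _
      have hz : (u * v * (u * v))⁻¹ * a ∈ Z := hπ.1 (by rw [map_mul, map_inv, hwa, inv_mul_cancel])
      rw [← mul_inv_cancel_left (u * v * (u * v)) a, hfree _ hwV _ hz]
      have := h4 v hv
      rw [pow_succ, pow_succ, pow_succ, pow_one] at this
      rw [← this]; group
    have hcommI : ∀ a ∈ V, ∀ b ∈ V, π a ∈ J → π b ∈ J → Commute a b := by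
      intro a ha b hb haJ hbJ
      have h1 := hsing _ (V.mul_mem ha hb) (by rw [map_mul]; exact J.mul_mem haJ hbJ)
      show a * b = b * a
      calc a * b = (a * b)⁻¹ := (inv_eq_of_mul_eq_one_right h1).symm
        _ = b * a := by rw [mul_inv_rev, inv_eq_of_mul_eq_one_right (hsing b hb hbJ),
              inv_eq_of_mul_eq_one_right (hsing a ha haJ)]
    have hcommσ : ∀ a ∈ V, ∀ b ∈ V, π a ∈ J → π b ∈ J → Commute (σ * a * σ⁻¹) (σ * b * σ⁻¹) :=
      fun a ha b hb haJ hbJ => by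
        simpa using (hcommI a ha b hb haJ hbJ).map (MulAut.conj σ).toMonoidHom
    have hcommZ : ∀ x ∈ V, ∀ y ∈ V, x * y * x⁻¹ * y⁻¹ ∈ Z := fun x hx y hy => hπ.1 (by
      simp only [map_mul, map_inv]
      rw [hcommW x hx y hy]; group)
    -- the mixed commutators vanish
    have hmixed : ∀ a ∈ V, ∀ b ∈ V, π a ∈ J → π b ∈ J → Commute a (σ * b * σ⁻¹) := by
      have key : ∀ a ∈ V, ∀ b ∈ V, π a ∈ J → π b ∈ J →
          σ * (a * (σ * b * σ⁻¹) * a⁻¹ * (σ * b * σ⁻¹)⁻¹) * σ⁻¹ =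
            b * (σ * a * σ⁻¹) * b⁻¹ * (σ * a * σ⁻¹)⁻¹ := by
        intro a ha b hb haJ hbJ
        let d := σ * b * σ⁻¹ * (σ⁻¹ * b * σ)
        have hdV : d ∈ V := V.mul_mem (hVn.conj_mem b hb σ)
          (by have := hVn.conj_mem b hb σ⁻¹; rwa [inv_inv] at this)
        have hdJ : π d ∈ J := by simpa only [d, map_mul, map_inv] using h5 _ hbJ
        have hsb : σ * (σ * b * σ⁻¹) * σ⁻¹ ∈ V := hVn.conj_mem _ (hVn.conj_mem b hb σ) σ
        have hσd : σ * d * σ⁻¹ ∈ V := hVn.conj_mem _ hdV σ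
        have hrel : π (σ * (σ * b * σ⁻¹) * σ⁻¹) = π (b * (σ * d * σ⁻¹)) := by
          have e1 : σ * d * σ⁻¹ = σ * (σ * b * σ⁻¹) * σ⁻¹ * b := by simp only [d]; group
          have hbb : π b * π b = 1 := by rw [← map_mul, hsing b hb hbJ, map_one]
          rw [e1]
          calc π (σ * (σ * b * σ⁻¹) * σ⁻¹) = (π b * π b) * π (σ * (σ * b * σ⁻¹) * σ⁻¹) := by
                rw [hbb, one_mul]
            _ = π b * (π (σ * (σ * b * σ⁻¹) * σ⁻¹) * π b) := by
                rw [mul_assoc, hcommW b hb _ hsb]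
            _ = _ := by rw [← map_mul, ← map_mul]
        have hz : (b * (σ * d * σ⁻¹))⁻¹ * (σ * (σ * b * σ⁻¹) * σ⁻¹) ∈ Z :=
          hπ.1 (by rw [map_mul, map_inv, hrel, inv_mul_cancel])
        set z := (b * (σ * d * σ⁻¹))⁻¹ * (σ * (σ * b * σ⁻¹) * σ⁻¹) with hzdef
        have hsplit : σ * (σ * b * σ⁻¹) * σ⁻¹ = b * (σ * d * σ⁻¹) * z := by
          rw [hzdef, mul_inv_cancel_left]
        have hsa : σ * a * σ⁻¹ ∈ V := hVn.conj_mem a ha σ
        have hz1 : Commute (σ * a * σ⁻¹) z := (hz.2.2 _ hsa).symm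
        have hd1 : Commute (σ * a * σ⁻¹) (σ * d * σ⁻¹) := hcommσ a ha d hdV haJ hdJ
        have e2 : (σ * a * σ⁻¹) * (σ * d * σ⁻¹ * z) = (σ * d * σ⁻¹ * z) * (σ * a * σ⁻¹) :=
          (hd1.mul_right hz1).eq
        have e3 : σ * (a * (σ * b * σ⁻¹) * a⁻¹ * (σ * b * σ⁻¹)⁻¹) * σ⁻¹ =
            (σ * a * σ⁻¹) * b * (σ * a * σ⁻¹)⁻¹ * b⁻¹ := by
          calc σ * (a * (σ * b * σ⁻¹) * a⁻¹ * (σ * b * σ⁻¹)⁻¹) * σ⁻¹
              = (σ * a * σ⁻¹) * (σ * (σ * b * σ⁻¹) * σ⁻¹) * (σ * a * σ⁻¹)⁻¹ *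
                  (σ * (σ * b * σ⁻¹) * σ⁻¹)⁻¹ := by group
            _ = (σ * a * σ⁻¹) * b * ((σ * d * σ⁻¹ * z) * (σ * a * σ⁻¹)⁻¹) *
                  (σ * d * σ⁻¹ * z)⁻¹ * b⁻¹ := by rw [hsplit]; group
            _ = _ := by
              rw [show (σ * d * σ⁻¹ * z) * (σ * a * σ⁻¹)⁻¹ = (σ * a * σ⁻¹)⁻¹ * (σ * d * σ⁻¹ * z)
                from ((hd1.mul_right hz1).symm.inv_right).eq]
              group
        rw [e3]
        have hinv2 : ((σ * a * σ⁻¹) * b * (σ * a * σ⁻¹)⁻¹ * b⁻¹)⁻¹ =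
            (σ * a * σ⁻¹) * b * (σ * a * σ⁻¹)⁻¹ * b⁻¹ :=
          inv_eq_of_mul_eq_one_right (hcommZ _ hsa _ hb).2.1
        rw [← hinv2]; group
      intro a ha b hb haJ hbJ
      set f := a * (σ * b * σ⁻¹) * a⁻¹ * (σ * b * σ⁻¹)⁻¹ with hf
      have h1 := key a ha b hb haJ hbJ
      have h2' := key b hb a ha hbJ haJ
      have hfV : f ∈ V := (hcommZ a ha _ (hVn.conj_mem b hb σ)).1
      have hf1 : f = 1 := hfix f hfV (fix_of_sq hp hσ (by
        calc σ * σ * f * (σ * σ)⁻¹ = σ * (σ * f * σ⁻¹) * σ⁻¹ := by group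
          _ = f := by rw [h1, h2']))
      exact commutatorElement_eq_one_iff_mul_comm.1 (by rw [commutatorElement_def]; exact hf1)
    intro x hx
    obtain ⟨_, haJ, _, hbJ, hxab⟩ := h3 _ ⟨x, hx, rfl⟩
    obtain ⟨⟨a, ha, rfl⟩, -⟩ := id haJ
    obtain ⟨⟨b, hb, rfl⟩, -⟩ := id hbJ
    have hsb : σ * b * σ⁻¹ ∈ V := hVn.conj_mem b hb σ
    have hz : (a * (σ * b * σ⁻¹))⁻¹ * x ∈ Z := hπ.1 (by
      simp only [map_mul, map_inv] at hxab ⊢
      rw [hxab, inv_mul_cancel])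
    rw [← mul_inv_cancel_left (a * (σ * b * σ⁻¹)) x, hfree _ (V.mul_mem ha hsb) _ hz]
    calc a * (σ * b * σ⁻¹) * (a * (σ * b * σ⁻¹)) = a * ((σ * b * σ⁻¹) * a) * (σ * b * σ⁻¹) := by group
      _ = a * a * (σ * (b * b) * σ⁻¹) := by rw [← (hmixed a ha b hb haJ hbJ).eq]; group
      _ = 1 := by rw [hsing a ha haJ, hsing b hb hbJ]; group

/-- An element of order four cannot act with its square inverting an element of order five. -/
theorem no_four [Finite G] (V : Subgroup G) [V.Normal] (hV1 : V ≠ ⊥)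
    (hexp : ∀ v ∈ V, v * v = 1) {σ s : G} (hσ : σ ^ 5 = 1)
    (hfix : ∀ v ∈ V, σ * v * σ⁻¹ = v → v = 1) (hs2 : s * σ * s⁻¹ * (σ * σ)⁻¹ ∈ V)
    (hs4 : (s * s) * (s * s) = 1) (hinv : (s * s) * σ * (s * s)⁻¹ * σ ∈ V)
    (hall : ∀ v ∈ V, (s * v) ^ 4 = 1) : False := by
  obtain ⟨hcard, him, -, hpair⟩ := half V hexp (u := s * s) (show Odd 5 by decide) hσ hfix hinv
    (by rw [hs4]; exact one_mem _)
  have hcomm : ∀ x ∈ V, ∀ y ∈ V, x * y = y * x := by
    intro x hx y hy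
    calc x * y = (x * y)⁻¹ := (inv_eq_of_mul_eq_one_right (hexp _ (V.mul_mem hx hy))).symm
      _ = y * x := by rw [mul_inv_rev, inv_eq_of_mul_eq_one_right (hexp _ hy),
            inv_eq_of_mul_eq_one_right (hexp _ hx)]
  have hcV : ∀ g : G, ∀ x ∈ V, g * x * g⁻¹ ∈ V := fun g x hx => ‹V.Normal›.conj_mem x hx g
  have hsfix : ∀ a ∈ V ⊓ Subgroup.centralizer ({s * s} : Set G), s * a * s⁻¹ = a := by
    intro a ha
    obtain ⟨v, hv, rfl⟩ := him a ha
    have h := hall v hv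
    rw [pow_succ, pow_succ, pow_succ, pow_one] at h
    have e : (s * v * s⁻¹) * (s * s * v * (s * s)⁻¹) * (s * (s * s * v * (s * s)⁻¹) * s⁻¹) * v = 1 := by
      calc (s * v * s⁻¹) * (s * s * v * (s * s)⁻¹) * (s * (s * s * v * (s * s)⁻¹) * s⁻¹) * v
          = s * v * (s * v) * (s * v) * (s * s * s)⁻¹ * v := by group
        _ = s * v * (s * v) * (s * v) * s * v := by
            rw [show (s * s * s)⁻¹ = s by
              rw [inv_eq_iff_mul_eq_one]; rw [← hs4]; group]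
        _ = 1 := by rw [← h]; group
    have hX : ∀ x ∈ V, x⁻¹ = x := fun x hx => inv_eq_of_mul_eq_one_right (hexp x hx)
    have hA := hcV s v hv
    have hB := hcV (s * s) v hv
    have hC := hcV s _ hB
    calc s * (s * s * v * (s * s)⁻¹ * v) * s⁻¹
        = (s * (s * s * v * (s * s)⁻¹) * s⁻¹) * (s * v * s⁻¹) := by group
      _ = (s * s * v * (s * s)⁻¹) * v := by
          have e' : (s * s * v * (s * s)⁻¹) * ((s * (s * s * v * (s * s)⁻¹) * s⁻¹) * (s * v * s⁻¹)) * v = 1 := by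
            rw [hcomm _ hC _ hA]
            rw [← e, ← mul_assoc (s * s * v * (s * s)⁻¹), hcomm _ hB _ hA]
          have e'' := eq_inv_of_mul_eq_one_left e'
          rw [hX v hv, ← eq_inv_mul_iff_mul_eq, hX _ hB] at e''
          exact e''
  have hne : V ⊓ Subgroup.centralizer ({s * s} : Set G) ≠ ⊥ := by
    intro hb
    rw [hb, Subgroup.card_bot, one_pow] at hcard
    exact hV1 (Subgroup.card_eq_one.1 hcard.symm)
  obtain ⟨⟨a, ha⟩, hane⟩ := Subgroup.ne_bot_iff_exists_ne_one.1 hne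
  refine hane (Subtype.ext ?_)
  have haV : a ∈ V := (Subgroup.mem_inf.1 ha).1
  set c : ℕ → G := fun k => σ ^ k * a * (σ ^ k)⁻¹ with hc
  have hcV' : ∀ k, c k ∈ V := fun k => hcV _ a haV
  have hc5 : ∀ k, c (k + 5) = c k := fun k => by simp [hc, pow_add, hσ]
  have htau : c 1 * c 4 = c 2 * c 3 := by
    have h1 := hpair a ha
    have h4' : σ⁻¹ = σ ^ 4 := inv_eq_of_mul_eq_one_right (by rw [← pow_succ']; exact hσ)
    have h14 : σ * a * σ⁻¹ * (σ⁻¹ * a * σ) = c 1 * c 4 := by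
      simp only [hc, pow_one, ← h4', inv_inv]
    rw [h14] at h1
    have h2 := hsfix _ h1
    have hσs : ∀ x ∈ V, ∀ k : ℕ, s * (σ ^ k * x * (σ ^ k)⁻¹) * s⁻¹ =
        (σ * σ) ^ k * (s * x * s⁻¹) * ((σ * σ) ^ k)⁻¹ := by
      intro x hx k
      induction k with
      | zero => simp
      | succ k ihk =>
        have hw : σ ^ k * x * (σ ^ k)⁻¹ ∈ V := hcV _ x hx
        calc s * (σ ^ (k + 1) * x * (σ ^ (k + 1))⁻¹) * s⁻¹
            = (s * σ * s⁻¹ * (σ * σ)⁻¹) * ((σ * σ) * (s * (σ ^ k * x * (σ ^ k)⁻¹) * s⁻¹) * (σ * σ)⁻¹) *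
                (s * σ * s⁻¹ * (σ * σ)⁻¹)⁻¹ := by rw [pow_succ']; group
          _ = (σ * σ) * (s * (σ ^ k * x * (σ ^ k)⁻¹) * s⁻¹) * (σ * σ)⁻¹ := by
              rw [hcomm _ hs2 _ (hcV _ _ (hcV s _ hw)), mul_inv_cancel_right]
          _ = _ := by rw [ihk, pow_succ' (σ * σ)]; generalize σ * σ = q; group
    have e2 : s * (c 1 * c 4) * s⁻¹ = c 2 * c 8 := by
      calc s * (c 1 * c 4) * s⁻¹ = (s * c 1 * s⁻¹) * (s * c 4 * s⁻¹) := by group
        _ = _ := by
          simp only [hc]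
          rw [hσs a haV 1, hσs a haV 4, hsfix a ha, ← pow_two, ← pow_mul, ← pow_mul]
    rw [hc5 3] at e2
    rw [← e2, h2]
  have hprod : a * (c 1 * (c 2 * (c 3 * c 4))) = 1 := by
    have hmem : a * (c 1 * (c 2 * (c 3 * c 4))) ∈ V :=
      V.mul_mem haV (V.mul_mem (hcV' 1) (V.mul_mem (hcV' 2) (V.mul_mem (hcV' 3) (hcV' 4))))
    refine hfix _ hmem ?_
    have hs : ∀ k, σ * c k * σ⁻¹ = c (k + 1) := fun k => by simp only [hc, pow_succ']; group
    have h0 : c 0 = a := by simp [hc]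
    calc σ * (a * (c 1 * (c 2 * (c 3 * c 4)))) * σ⁻¹
        = (σ * c 0 * σ⁻¹) * ((σ * c 1 * σ⁻¹) * ((σ * c 2 * σ⁻¹) * ((σ * c 3 * σ⁻¹) * (σ * c 4 * σ⁻¹)))) := by
          rw [h0]; group
      _ = c 1 * (c 2 * (c 3 * (c 4 * a))) := by
          rw [hs, hs, hs, hs, hs, show (4 + 1) = 0 + 5 from rfl, hc5, h0]
      _ = c 1 * (c 2 * (c 3 * c 4)) * a := by group
      _ = _ := hcomm _ (V.mul_mem (hcV' 1) (V.mul_mem (hcV' 2) (V.mul_mem (hcV' 3) (hcV' 4)))) _ haV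
  have hz : c 1 * (c 2 * (c 3 * c 4)) = 1 := by
    rw [← mul_assoc (c 2), ← htau]
    calc c 1 * (c 1 * c 4 * c 4) = (c 1 * c 1) * (c 4 * c 4) := by group
      _ = 1 := by rw [hexp _ (hcV' 1), hexp _ (hcV' 4), one_mul]
  rwa [hz, mul_one] at hprod

end CfsgLib.Recognition.OneToFive
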