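import Cfsg.Agent.Lib.Recognition.OneToFive.Elementary
import Cfsg.Agent.Lib.Solvable.Basic
import Cfsg.Agent.S0144

/-!
Local subgroups containing two Sylow subgroups with nontrivial intersection.
-/

set_option autoImplicit false
set_option linter.style.haveILetI false

namespace CfsgLib.Recognition.OneToFive

universe u

/-- The conclusion of the classification. -/
def Concl (G : Type u) [Group G] : Prop :=
  ∃ R : Subgroup G, R.Normal ∧ IsPGroup 2 R ∧
    (∀ K : Subgroup G, K.Normal → Group.IsSolvable K → K ≤ R) ∧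
    (R.index = 60 ∨ (R = ⊥ ∧ Nat.card G = 360))

/-- The classification holds for all groups of smaller order. -/
def Ind (G : Type u) [Group G] : Prop :=
  ∀ (H : Type u) [Group H] [Finite H], Nat.card H < Nat.card G → Small H →
    ¬ Group.IsSolvable H → Concl H

variable {G : Type u} [Group G] [Finite G]

/-- Structure of the orders. -/
theorem Small.exponents (hG : Small G) (hns : ¬ Group.IsSolvable G) :
    ∃ a b c, 1 ≤ a ∧ 1 ≤ b ∧ 1 ≤ c ∧ Nat.card G = 2 ^ a * 3 ^ b * 5 ^ c := by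
  let f := (Nat.card G).factorization
  have hcard : Nat.card G = 2 ^ f 2 * 3 ^ f 3 * 5 ^ f 5 := by
    have hsub : (Nat.card G).primeFactors ⊆ ({2, 3, 5} : Finset ℕ) := fun p hp => by
      rcases hG.prime_mem (Nat.prime_of_mem_primeFactors hp) (Nat.dvd_of_mem_primeFactors hp)
        with rfl | rfl | rfl <;> simp
    have h := Nat.prod_factorization_pow_eq_self (n := Nat.card G) Nat.card_pos.ne'
    rw [Finsupp.prod_of_support_subset _ (s := ({2, 3, 5} : Finset ℕ)) (by rwa [Nat.support_factorization]) _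
      (fun _ _ => pow_zero _)] at h
    conv_lhs => rw [← h]
    simp [f, mul_assoc]
  refine ⟨f 2, f 3, f 5, ?_, ?_, ?_, hcard⟩ <;> by_contra h <;> apply hns
  · exact Cfsg.Agent.S0144.result 3 5 (f 3) (f 5) Nat.prime_three (by norm_num)
      (by rw [hcard, show f 2 = 0 by omega, pow_zero, one_mul])
  · exact Cfsg.Agent.S0144.result 2 5 (f 2) (f 5) Nat.prime_two (by norm_num)
      (by rw [hcard, show f 3 = 0 by omega, pow_zero, mul_one])
  · exact Cfsg.Agent.S0144.result 2 3 (f 2) (f 3) Nat.prime_two Nat.prime_three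
      (by rw [hcard, show f 5 = 0 by omega, pow_zero, mul_one])

theorem le_sylow_of_normal {p : ℕ} [Fact p.Prime] {K : Subgroup G} (hKn : K.Normal)
    (hK : IsPGroup p K) (P : Sylow p G) : K ≤ (P : Subgroup G) := by
  obtain ⟨R, hR⟩ := hK.exists_le_sylow
  obtain ⟨g, rfl⟩ := MulAction.exists_smul_eq G R P
  intro x hx
  rw [Sylow.coe_subgroup_smul, Subgroup.mem_pointwise_smul_iff_inv_smul_mem]
  exact hR (by simpa [MulAut.conj_inv_apply] using hKn.conj_mem x hx g⁻¹)

theorem solvable_of_pGroup {p : ℕ} [Fact p.Prime] {K : Subgroup G} (hK : IsPGroup p K) :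
    Group.IsSolvable K :=
  haveI := hK.isNilpotent
  inferInstance

/-- Two Sylow subgroups meeting nontrivially give a local subgroup with at least two Sylow
subgroups. -/
theorem exists_local {p : ℕ} [Fact p.Prime] (hT : ∀ K : Subgroup G, K.Normal → Group.IsSolvable K → K = ⊥)
    (hint : ∃ P R : Sylow p G, P ≠ R ∧ (P : Subgroup G) ⊓ (R : Subgroup G) ≠ ⊥) :
    ∃ D : Subgroup G, D ≠ ⊥ ∧ IsPGroup p D ∧ Subgroup.normalizer (D : Set G) ≠ ⊤ ∧
      (∃ T₁ T₂ : Sylow p (Subgroup.normalizer (D : Set G)), T₁ ≠ T₂) ∧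
      ∀ K : Subgroup (Subgroup.normalizer (D : Set G)), K.Normal → IsPGroup p K →
        K ≤ D.subgroupOf (Subgroup.normalizer (D : Set G)) := by
  classical
  obtain ⟨P, R, hPR, hne⟩ := hint
  haveI : Nonempty {q : Sylow p G × Sylow p G // q.1 ≠ q.2 ∧ (q.1 : Subgroup G) ⊓ (q.2 : Subgroup G) ≠ ⊥} :=
    ⟨⟨(P, R), hPR, hne⟩⟩
  obtain ⟨⟨⟨P, R⟩, hPR, hne⟩, hmax⟩ := Finite.exists_max
    (fun q : {q : Sylow p G × Sylow p G // q.1 ≠ q.2 ∧ (q.1 : Subgroup G) ⊓ (q.2 : Subgroup G) ≠ ⊥} =>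
      Nat.card ↥((q.1.1 : Subgroup G) ⊓ (q.1.2 : Subgroup G)))
  set D := (P : Subgroup G) ⊓ (R : Subgroup G) with hD
  have hDp : IsPGroup p D := P.isPGroup'.to_le inf_le_left
  have hbig : ∀ S₁ S₂ : Sylow p G, S₁ ≠ S₂ → D ≤ (S₁ : Subgroup G) → D ≤ (S₂ : Subgroup G) →
      (S₁ : Subgroup G) ⊓ (S₂ : Subgroup G) = D := by
    intro S₁ S₂ h12 h1 h2
    have hle : D ≤ (S₁ : Subgroup G) ⊓ (S₂ : Subgroup G) := le_inf h1 h2
    have hne' : (S₁ : Subgroup G) ⊓ (S₂ : Subgroup G) ≠ ⊥ := fun e => hne (le_bot_iff.1 (e ▸ hle))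
    exact (Subgroup.eq_of_le_of_card_ge hle (hmax ⟨(S₁, S₂), h12, hne'⟩)).symm
  set M := Subgroup.normalizer (D : Set G) with hM
  have hMtop : M ≠ ⊤ := fun e =>
    hne (hT D (Subgroup.normalizer_eq_top_iff.1 e) (solvable_of_pGroup hDp))
  have hex : ∃ T₁ T₂ : Sylow p M, T₁ ≠ T₂ := by
    by_contra hc
    push Not at hc
    obtain ⟨T⟩ : Nonempty (Sylow p M) := inferInstance
    obtain ⟨S, hS⟩ := (T.isPGroup'.map M.subtype).exists_le_sylow
    have hgrow : ∀ Q : Sylow p G, D < (Q : Subgroup G) → (Q : Subgroup G) = (S : Subgroup G) := by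
      intro Q hQ
      haveI : Group.IsNilpotent (Q : Subgroup G) := Q.isPGroup'.isNilpotent
      have hlt : D.subgroupOf Q < ⊤ := lt_top_iff_ne_top.2 fun e =>
        hQ.not_ge (Subgroup.subgroupOf_eq_top.1 e)
      obtain ⟨x, hx, hxn⟩ := SetLike.exists_of_lt
        (Group.normalizerCondition_of_isNilpotent _ hlt)
      have hxM : (x : G) ∈ M := by
        rw [hM, Subgroup.mem_normalizer_iff]
        intro d
        have hh := Subgroup.mem_normalizer_iff.1 hx
        constructor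
        · intro hd
          exact (hh ⟨d, hQ.le hd⟩).1 hd
        · intro hd
          have hdQ : d ∈ (Q : Subgroup G) := by
            have := (Q : Subgroup G).mul_mem ((Q : Subgroup G).mul_mem ((Q : Subgroup G).inv_mem x.2) (hQ.le hd)) x.2
            simpa [mul_assoc] using this
          exact (hh ⟨d, hdQ⟩).2 hd
      have hQM : ((Q : Subgroup G).comap M.subtype) ≤ (T : Subgroup M) := by
        obtain ⟨T', hT'⟩ := (Q.isPGroup'.comap_of_injective M.subtype
          M.subtype_injective).exists_le_sylow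
        rwa [hc T' T] at hT'
      by_contra hne'
      have hSD : D ≤ (S : Subgroup G) := fun d hd =>
        hS ⟨⟨d, Subgroup.le_normalizer hd⟩, hQM (show d ∈ (Q : Subgroup G) from hQ.le hd), rfl⟩
      have h := hbig Q S (fun e => hne' (by rw [e])) hQ.le hSD
      apply hxn
      show (x : G) ∈ D
      rw [← h]
      exact ⟨x.2, hS ⟨⟨x, hxM⟩, hQM (show (x : G) ∈ (Q : Subgroup G) from x.2), rfl⟩⟩
    have hPD : D < (P : Subgroup G) := lt_of_le_of_ne inf_le_left fun e =>
      hPR (Sylow.ext (P.3 R.isPGroup' (inf_eq_left.1 e)).symm)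
    have hRD : D < (R : Subgroup G) := lt_of_le_of_ne inf_le_right fun e =>
      hPR (Sylow.ext (R.3 P.isPGroup' (inf_eq_right.1 e)))
    exact hPR (Sylow.ext ((hgrow P hPD).trans (hgrow R hRD).symm))
  refine ⟨D, hne, hDp, hMtop, hex, ?_⟩
  intro K hKn hKp
  by_contra hK
  obtain ⟨T₁, T₂, h12⟩ := hex
  obtain ⟨S₁, hS₁⟩ := (T₁.isPGroup'.map M.subtype).exists_le_sylow
  obtain ⟨S₂, hS₂⟩ := (T₂.isPGroup'.map M.subtype).exists_le_sylow
  have hS12 : S₁ ≠ S₂ := by
    rintro rfl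
    apply h12
    have hp' : IsPGroup p ((S₁ : Subgroup G).comap M.subtype) :=
      S₁.isPGroup'.comap_of_injective M.subtype M.subtype_injective
    have e1 := T₁.3 hp' (fun t ht => hS₁ ⟨t, ht, rfl⟩)
    have e2 := T₂.3 hp' (fun t ht => hS₂ ⟨t, ht, rfl⟩)
    exact Sylow.ext (e1.symm.trans e2)
  haveI hDn : (D.subgroupOf M).Normal := Subgroup.normal_in_normalizer
  have hDm : IsPGroup p (D.subgroupOf M) := hDp.comap_of_injective M.subtype M.subtype_injective
  have hall : ∀ (T : Sylow p M) (S : Sylow p G),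
      (T : Subgroup M).map M.subtype ≤ (S : Subgroup G) →
      D ≤ (S : Subgroup G) ∧ K.map M.subtype ≤ (S : Subgroup G) := fun T S h =>
    ⟨fun d hd => h ⟨⟨d, Subgroup.le_normalizer hd⟩,
      le_sylow_of_normal hDn hDm T (show d ∈ D from hd), rfl⟩,
     (Subgroup.map_mono (le_sylow_of_normal hKn hKp T)).trans h⟩
  have h1 := hall T₁ S₁ hS₁
  have h2 := hall T₂ S₂ hS₂
  refine hK fun k hk => ?_
  show (k : G) ∈ D
  exact (hbig S₁ S₂ hS12 h1.1 h2.1).le ⟨h1.2 ⟨k, hk, rfl⟩, h2.2 ⟨k, hk, rfl⟩⟩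

end CfsgLib.Recognition.OneToFive
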