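import Cfsg.Agent.Lib.Recognition.OneToFive.TwoCount
import Cfsg.Agent.Lib.Recognition.OneToFive.Arith

/-!
Nonsoluble groups with element orders at most five.
-/

set_option autoImplicit false
set_option linter.style.haveILetI false

namespace CfsgLib.Recognition.OneToFive

universe u

variable {G : Type u} [Group G] [Finite G]

/-- The order of a group with trivial radical. -/
theorem card_of_trivial_radical (hG : Small G) (hI : Ind G) (hns : ¬ Group.IsSolvable G)
    (hT : ∀ K : Subgroup G, K.Normal → Group.IsSolvable K → K = ⊥) :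
    Nat.card G = 60 ∨ Nat.card G = 360 := by
  classical
  haveI : Fact (Nat.Prime 2) := ⟨Nat.prime_two⟩
  haveI : Fact (Nat.Prime 3) := ⟨Nat.prime_three⟩
  haveI : Fact (Nat.Prime 5) := ⟨by norm_num⟩
  obtain ⟨a, b, c, ha, hb, hc, hcard⟩ := hG.exponents hns
  have hfac : ∀ (p k m : ℕ), p.Prime → Nat.card G = p ^ k * m → ¬ p ∣ m → m ≠ 0 →
      (Nat.card G).factorization p = k := by
    intro p k m hp h hnd hm
    rw [h, Nat.factorization_mul (pow_ne_zero k hp.ne_zero) hm, Finsupp.add_apply,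
      hp.factorization_pow, Finsupp.single_eq_same, Nat.factorization_eq_zero_of_not_dvd hnd, add_zero]
  have hnd : ∀ p q r i j : ℕ, p.Prime → q.Prime → r.Prime → p ≠ q → p ≠ r → ¬ p ∣ q ^ i * r ^ j := by
    intro p q r i j hp hq hr hpq hpr h
    rcases hp.dvd_mul.1 h with h | h
    · exact hpq ((Nat.prime_dvd_prime_iff_eq hp hq).1 (hp.dvd_of_dvd_pow h))
    · exact hpr ((Nat.prime_dvd_prime_iff_eq hp hr).1 (hp.dvd_of_dvd_pow h))
  obtain ⟨S₀⟩ : Nonempty (Sylow 2 G) := inferInstance
  obtain ⟨P⟩ : Nonempty (Sylow 3 G) := inferInstance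
  obtain ⟨Q⟩ : Nonempty (Sylow 5 G) := inferInstance
  have hS : ∀ S : Sylow 2 G, Nat.card (S : Subgroup G) = 2 ^ a := fun S => by
    rw [S.card_eq_multiplicity, hfac 2 a (3 ^ b * 5 ^ c) Nat.prime_two (by rw [hcard, mul_assoc])
      (hnd 2 3 5 b c Nat.prime_two Nat.prime_three (by norm_num) (by norm_num) (by norm_num))
      (by positivity)]
  have hP : Nat.card (P : Subgroup G) = 3 ^ b := by
    rw [P.card_eq_multiplicity, hfac 3 b (2 ^ a * 5 ^ c) Nat.prime_three (by rw [hcard]; ring)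
      (hnd 3 2 5 a c Nat.prime_three Nat.prime_two (by norm_num) (by norm_num) (by norm_num))
      (by positivity)]
  have hQ : Nat.card (Q : Subgroup G) = 5 ^ c := by
    rw [Q.card_eq_multiplicity, hfac 5 c (2 ^ a * 3 ^ b) (by norm_num) (by rw [hcard]; ring)
      (hnd 5 2 3 a b (by norm_num) Nat.prime_two Nat.prime_three (by norm_num) (by norm_num))
      (by positivity)]
  have hd3 : 3 ∣ Nat.card G :=
    (dvd_pow_self 3 (by omega : b ≠ 0)).trans (hP ▸ Subgroup.card_subgroup_dvd_card _)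
  have hd5 : 5 ∣ Nat.card G :=
    (dvd_pow_self 5 (by omega : c ≠ 0)).trans (hQ ▸ Subgroup.card_subgroup_dvd_card _)
  have hd2 : 2 ∣ Nat.card G :=
    (dvd_pow_self 2 (by omega : a ≠ 0)).trans (hS S₀ ▸ Subgroup.card_subgroup_dvd_card _)
  have hTI3 : ∀ A B : Sylow 3 G, A ≠ B → (A : Subgroup G) ⊓ (B : Subgroup G) = ⊥ :=
    fun A B h => ti_odd hG hI hT (by norm_num) h
  have hTI5 : ∀ A B : Sylow 5 G, A ≠ B → (A : Subgroup G) ⊓ (B : Subgroup G) = ⊥ :=
    fun A B h => ti_odd hG hI hT (by norm_num) h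
  obtain ⟨e₃, he3, hl3, hdv3, hev3⟩ := automiser hG (p := 3) (q := 5) (by norm_num) (by norm_num)
    (by norm_num) (fun r hr hd => hG.prime_mem hr hd) hTI3 hd3 P
  obtain ⟨e₅, he5, hl5, hdv5, hev5⟩ := automiser hG (p := 5) (q := 3) (by norm_num) (by norm_num)
    (by norm_num) (fun r hr hd => by rcases hG.prime_mem hr hd with h | h | h <;> simp [h]) hTI5 hd5 Q
  have hn3 := card_orderOf_eq hG (p := 3) (by norm_num) hTI3 P
  have hn5 := card_orderOf_eq hG (p := 5) (by norm_num) hTI5 Q
  have hsplit := card_split hG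
  rw [hn3, hn5] at hsplit
  -- inverting elements make the automisers even
  have heven : ∀ (p : ℕ) [Fact p.Prime] (R : Sylow p G) (e : ℕ),
      (∀ u x : G, x ∈ (R : Subgroup G) → x ≠ 1 → u * x * u⁻¹ = x⁻¹ → 2 ∣ e) →
      (∃ u x : G, orderOf x = p ∧ u * x * u⁻¹ = x⁻¹) → 2 ∣ e := by
    rintro p hp R e he ⟨u, x, hx, hux⟩
    obtain ⟨R', hR'⟩ := (IsPGroup.of_card (n := 1) (by rw [Nat.card_zpowers, hx, pow_one]) :
      IsPGroup p (Subgroup.zpowers x)).exists_le_sylow
    obtain ⟨g, rfl⟩ := MulAction.exists_smul_eq G R R'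
    have hmem := hR' (Subgroup.mem_zpowers x)
    rw [Sylow.coe_subgroup_smul, Subgroup.mem_pointwise_smul_iff_inv_smul_mem] at hmem
    have hxg : g⁻¹ * x * g ∈ (R : Subgroup G) := by simpa [MulAut.conj_inv_apply] using hmem
    refine he (g⁻¹ * u * g) _ hxg (fun e' => ?_) ?_
    · have : x = 1 := by
        calc x = g * (g⁻¹ * x * g) * g⁻¹ := by group
          _ = 1 := by rw [e']; group
      rw [this, orderOf_one] at hx
      exact hp.out.ne_one hx.symm
    · calc g⁻¹ * u * g * (g⁻¹ * x * g) * (g⁻¹ * u * g)⁻¹ = g⁻¹ * (u * x * u⁻¹) * g := by group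
        _ = (g⁻¹ * x * g)⁻¹ := by rw [hux]; group
  have hpos3 : 1 ≤ 3 ^ b := Nat.one_le_pow _ _ (by norm_num)
  have hpos5 : 1 ≤ 5 ^ c := Nat.one_le_pow _ _ (by norm_num)
  rw [hP] at he3 hdv3
  rw [hQ] at he5 hdv5
  rw [hP, hQ] at hsplit
  set N₂ := Nat.card {g : G // g ≠ 1 ∧ g ^ 4 = 1}
  set m₃ := Nat.card (Sylow 3 G)
  set m₅ := Nat.card (Sylow 5 G)
  have c3 : (m₃ : ℤ) * (3 ^ b * e₃) = Nat.card G := by exact_mod_cast he3
  have c5 : (m₅ : ℤ) * (5 ^ c * e₅) = Nat.card G := by exact_mod_cast he5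
  have csplit : (Nat.card G : ℤ) = 1 + N₂ + m₃ * (3 ^ b - 1) + m₅ * (5 ^ c - 1) := by
    have := congrArg (Nat.cast : ℕ → ℤ) hsplit
    push_cast [Nat.cast_sub hpos3, Nat.cast_sub hpos5] at this
    exact this
  by_cases hint : ∃ A B : Sylow 2 G, A ≠ B ∧ (A : Subgroup G) ⊓ (B : Subgroup G) ≠ ⊥
  · obtain ⟨S, hcase⟩ := two_equation hG hI hT hint
    rcases hcase with ⟨h3, hS8, hnS, hN2⟩ | ⟨h3, h5, h, hh, hS64, hnS, hN2⟩
    · right
      have hG8 : (Nat.card G : ℤ) = 8 * (3 ^ b * 5 ^ c) := by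
        rw [hcard, ← hS S, hS8]; push_cast; ring
      have cS : (Nat.card (Sylow 2 G) : ℤ) * 8 = Nat.card G := by exact_mod_cast hnS
      have cN : (N₂ : ℤ) = Nat.card (Sylow 2 G) * 3 := by exact_mod_cast hN2
      have hsolve := Arith.dihedral_eight (e₃ := e₃) (e₅ := e₅) (P := 3 ^ b) (Q := 5 ^ c) hl3 hl5
        (heven 3 P e₃ hev3 h3) hb hc rfl rfl hdv3 hdv5 (by
          push_cast
          have a3 : (m₃ : ℤ) * e₃ = 8 * 5 ^ c := mul_left_cancel₀ (pow_ne_zero b three_ne_zero)
            (by linear_combination c3 + hG8)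
          have a5 : (m₅ : ℤ) * e₅ = 8 * 3 ^ b := mul_left_cancel₀ (pow_ne_zero c (by norm_num : (5 : ℤ) ≠ 0))
            (by linear_combination c5 + hG8)
          have aS : (Nat.card (Sylow 2 G) : ℤ) = 3 ^ b * 5 ^ c := by linarith
          rw [hG8, cN, aS] at csplit
          linear_combination (-(e₃ : ℤ) * e₅) * csplit - (e₅ : ℤ) * (3 ^ b - 1) * a3 -
            (e₃ : ℤ) * (5 ^ c - 1) * a5)
      rw [hcard, ← hS S, hS8, hsolve.1, hsolve.2]
    · exfalso
      have hl : ∀ e q : ℕ, e ∈ [1, 2, 4, 8, q] → ¬ 2 ∣ q → 2 ∣ e → e ∈ [2, 4, 8] := by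
        intro e q he hq h2
        simp only [List.mem_cons, List.not_mem_nil, or_false] at he ⊢
        rcases he with rfl | rfl | rfl | rfl | rfl <;> first | omega | exact absurd h2 hq
      have hG64 : (Nat.card G : ℤ) = 64 * (3 ^ b * 5 ^ c) := by
        rw [hcard, ← hS S, hS64]; push_cast; ring
      have cS : (Nat.card (Sylow 2 G) : ℤ) * (64 * h) = Nat.card G := by exact_mod_cast hnS
      have cN : (N₂ : ℤ) = Nat.card (Sylow 2 G) * 39 := by exact_mod_cast hN2
      refine Arith.sixty_four (e₃ := e₃) (e₅ := e₅) (h := h) (P := 3 ^ b) (Q := 5 ^ c)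
        (hl e₃ 5 hl3 (by norm_num) (heven 3 P e₃ hev3 h3)) (hl e₅ 3 hl5 (by norm_num) (heven 5 Q e₅ hev5 h5))
        hh hb hc rfl rfl hdv3 hdv5 ?_
      push_cast
      have a3 : (m₃ : ℤ) * e₃ = 64 * 5 ^ c := mul_left_cancel₀ (pow_ne_zero b three_ne_zero)
        (by linear_combination c3 + hG64)
      have a5 : (m₅ : ℤ) * e₅ = 64 * 3 ^ b := mul_left_cancel₀ (pow_ne_zero c (by norm_num : (5 : ℤ) ≠ 0))
        (by linear_combination c5 + hG64)
      have aS : (Nat.card (Sylow 2 G) : ℤ) * h = 3 ^ b * 5 ^ c := by linarith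
      rw [hG64, cN] at csplit
      linear_combination (-(h : ℤ) * e₃ * e₅) * csplit - (39 * e₃ * e₅ : ℤ) * aS -
        (h : ℤ) * e₅ * (3 ^ b - 1) * a3 - (h : ℤ) * e₃ * (5 ^ c - 1) * a5
  · left
    push Not at hint
    obtain ⟨h, hh, hmod, hnS, hN2⟩ := two_equation_ti hG hT hint hd2 S₀
    rw [hS] at hmod hnS hN2
    have hpos2 : 1 ≤ 2 ^ a := Nat.one_le_pow _ _ (by norm_num)
    have hG' : (Nat.card G : ℤ) = 2 ^ a * 3 ^ b * 5 ^ c := by exact_mod_cast hcard
    have cS : (Nat.card (Sylow 2 G) : ℤ) * (2 ^ a * h) = Nat.card G := by exact_mod_cast hnS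
    have cN : (N₂ : ℤ) = Nat.card (Sylow 2 G) * (2 ^ a - 1) := by
      have := congrArg (Nat.cast : ℕ → ℤ) hN2
      push_cast [Nat.cast_sub hpos2] at this
      exact this
    have a3 : (m₃ : ℤ) * e₃ = 2 ^ a * 5 ^ c := mul_left_cancel₀ (pow_ne_zero b three_ne_zero)
      (by linear_combination c3 + hG')
    have a5 : (m₅ : ℤ) * e₅ = 2 ^ a * 3 ^ b := mul_left_cancel₀ (pow_ne_zero c (by norm_num : (5 : ℤ) ≠ 0))
      (by linear_combination c5 + hG')
    have aS : (Nat.card (Sylow 2 G) : ℤ) * h = 3 ^ b * 5 ^ c :=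
      mul_left_cancel₀ (pow_ne_zero a (two_ne_zero (α := ℤ))) (by linear_combination cS + hG')
    rw [hG', cN] at csplit
    simp only [List.mem_cons, List.not_mem_nil, or_false] at hh
    rcases hh with rfl | rfl
    · exfalso
      refine Arith.ti_one (e₃ := e₃) (e₅ := e₅) (S := 2 ^ a) (P := 3 ^ b) (Q := 5 ^ c) hl3 hl5
        ha hb hc rfl rfl rfl hdv3 hdv5 ?_
      push_cast at aS ⊢
      linear_combination ((e₃ : ℤ) * e₅) * csplit + ((e₃ : ℤ) * e₅ * (2 ^ a - 1)) * aS +
        (e₅ : ℤ) * (3 ^ b - 1) * a3 + (e₃ : ℤ) * (5 ^ c - 1) * a5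
    · have hsolve := Arith.ti_three (e₃ := e₃) (e₅ := e₅) (S := 2 ^ a) (P := 3 ^ b) (Q := 5 ^ c) hl3 hl5
        ha (hmod rfl) hb hc rfl rfl rfl hdv3 hdv5 (by
          push_cast at aS ⊢
          linear_combination (3 * (e₃ : ℤ) * e₅) * csplit + ((e₃ : ℤ) * e₅ * (2 ^ a - 1)) * aS +
            3 * (e₅ : ℤ) * (3 ^ b - 1) * a3 + 3 * (e₃ : ℤ) * (5 ^ c - 1) * a5)
      rw [hcard, hsolve.1, hsolve.2.1, hsolve.2.2]

/-- An elementary subgroup of a quotient by a nontrivial normal subgroup of coprime prime power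
order is cyclic. -/
theorem quotient_card_le {M : Type u} [Group M] [Finite M] (hM : Small M) {p q : ℕ} [Fact p.Prime]
    [Fact q.Prime] (hpq : p ≠ q) (D : Subgroup M) [D.Normal] (hD : IsPGroup p D) (hD1 : D ≠ ⊥)
    {L : Subgroup (M ⧸ D)} (hLexp : ∀ x ∈ L, x ^ q = 1) : Nat.card L ≤ q := by
  set K := L.comap (QuotientGroup.mk' D)
  have hle : D ≤ K := fun d hd => by
    show (QuotientGroup.mk' D) d ∈ L
    rw [show (QuotientGroup.mk' D) d = 1 from (QuotientGroup.eq_one_iff d).2 hd]
    exact one_mem L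
  have hidx : (D.subgroupOf K).index = Nat.card L := by
    have hker : ((QuotientGroup.mk' D).comp K.subtype).ker = D.subgroupOf K := by
      rw [← MonoidHom.comap_ker, QuotientGroup.ker_mk']; rfl
    rw [← hker, Subgroup.index_ker, MonoidHom.range_comp, Subgroup.range_subtype,
      Subgroup.map_comap_eq_self_of_surjective (QuotientGroup.mk'_surjective D)]
  have hcopr : Nat.Coprime (Nat.card (D.subgroupOf K)) (D.subgroupOf K).index := by
    rw [hidx, Nat.card_congr (Subgroup.subgroupOfEquivOfLe hle).toEquiv]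
    obtain ⟨i, hi⟩ := IsPGroup.iff_card.1 hD
    obtain ⟨j, hj⟩ := IsPGroup.iff_card.1 (show IsPGroup q L from fun x => ⟨1, Subtype.ext (by
      simpa using hLexp x x.2)⟩)
    rw [hi, hj]
    exact Nat.Coprime.pow i j ((Nat.coprime_primes Fact.out Fact.out).2 hpq)
  haveI : (D.subgroupOf K).Normal := inferInstance
  obtain ⟨C, hC⟩ := Subgroup.exists_right_complement'_of_coprime hcopr
  have hcard : Nat.card L = Nat.card C := by
    have h1 := hC.card_mul
    have h2 := Subgroup.card_mul_index (D.subgroupOf K)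
    rw [hidx, ← h1] at h2
    exact mul_left_cancel₀ Nat.card_pos.ne' h2
  have hCexp : ∀ x ∈ C.map K.subtype, x ^ q = 1 := by
    rintro _ ⟨c, hc, rfl⟩
    have h1 : c ^ q ∈ D.subgroupOf K := (QuotientGroup.eq_one_iff ((c ^ q : K) : M)).1 (by
      show (QuotientGroup.mk' D) (((c ^ q : K)) : M) = 1
      rw [SubgroupClass.coe_pow, map_pow]
      exact hLexp _ c.2)
    have h2 := hC.disjoint.le_bot ⟨h1, C.pow_mem hc q⟩
    exact congrArg Subtype.val (Subgroup.mem_bot.1 h2)
  have hle' : Nat.card (C.map K.subtype) ≤ q := hM.card_le_prime hpq hD hD1 hCexp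
    (by rw [Subgroup.normalizer_eq_top]; exact le_top)
  rwa [hcard, ← Subgroup.card_map_of_injective (K := C) K.subtype_injective]

theorem five_commuting : ∃ a b : FiveFacts.A5,
    a * a = 1 ∧ b * b = 1 ∧ a ≠ 1 ∧ b ≠ 1 ∧ a ≠ b ∧ a * b = b * a :=
  ⟨⟨Equiv.swap 0 1 * Equiv.swap 2 3, Equiv.Perm.mem_alternatingGroup.2 (by decide +kernel)⟩,
   ⟨Equiv.swap 0 2 * Equiv.swap 1 3, Equiv.Perm.mem_alternatingGroup.2 (by decide +kernel)⟩,
   by decide +kernel⟩

theorem four_le {Q A : Type*} [Group Q] [Group A] [Finite Q] (φ : Q ≃* A)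
    (h : ∃ a b : A, a * a = 1 ∧ b * b = 1 ∧ a ≠ 1 ∧ b ≠ 1 ∧ a ≠ b ∧ a * b = b * a) :
    ∃ L : Subgroup Q, (∀ x ∈ L, x ^ 2 = 1) ∧ 2 < Nat.card L := by
  obtain ⟨a, b, ha, hb, ha1, hb1, hab, hcomm⟩ := h
  have hφ : ∀ {x : A}, x ≠ 1 → φ.symm x ≠ 1 := fun {x} hx e =>
    hx (by have := congrArg φ e; simpa using this)
  have hk : ∀ x ∈ Subgroup.closure ({φ.symm a, φ.symm b} : Set Q), x * x = 1 ∧
      x * φ.symm a = φ.symm a * x ∧ x * φ.symm b = φ.symm b * x := by
    intro x hx
    induction hx using Subgroup.closure_induction with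
    | mem x hx =>
      rcases hx with rfl | rfl
      · exact ⟨by rw [← map_mul, ha, map_one], rfl, by rw [← map_mul, ← map_mul, hcomm]⟩
      · exact ⟨by rw [← map_mul, hb, map_one], by rw [← map_mul, ← map_mul, hcomm], rfl⟩
    | one => simp
    | mul x y hx hy ihx ihy =>
      have hxy : x * y = y * x := by
        clear ihy
        induction hy using Subgroup.closure_induction with
        | mem y hy => rcases hy with rfl | rfl; exacts [ihx.2.1, ihx.2.2]
        | one => simp
        | mul y z _ _ h1 h2 => rw [← mul_assoc, h1, mul_assoc, h2, ← mul_assoc]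
        | inv y _ h1 => exact (Commute.inv_right h1).eq
      refine ⟨?_, ?_, ?_⟩
      · calc x * y * (x * y) = x * (y * x) * y := by group
          _ = (x * x) * (y * y) := by rw [← hxy]; group
          _ = 1 := by rw [ihx.1, ihy.1, one_mul]
      · exact (Commute.mul_left ihx.2.1 ihy.2.1).eq
      · exact (Commute.mul_left ihx.2.2 ihy.2.2).eq
    | inv x _ ih =>
      rw [inv_eq_of_mul_eq_one_right ih.1]
      exact ih
  refine ⟨_, fun x hx => by rw [pow_two]; exact (hk x hx).1, ?_⟩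
  let L := Subgroup.closure ({φ.symm a, φ.symm b} : Set Q)
  haveI : Fintype L := Fintype.ofFinite L
  rw [Nat.card_eq_fintype_card (α := L)]
  refine Fintype.two_lt_card_iff.2 ⟨1, ⟨φ.symm a, Subgroup.subset_closure (Or.inl rfl)⟩,
    ⟨φ.symm b, Subgroup.subset_closure (Or.inr rfl)⟩, ?_, ?_, ?_⟩
  · exact fun e => hφ ha1 (congrArg Subtype.val e).symm
  · exact fun e => hφ hb1 (congrArg Subtype.val e).symm
  · exact fun e => hab (φ.symm.injective (congrArg Subtype.val e))

/-- The classification. -/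
theorem classify : ∀ (n : ℕ) (G : Type u) [Group G] [Finite G], Nat.card G = n → Small G →
    ¬ Group.IsSolvable G → Concl G := by
  intro n
  induction n using Nat.strong_induction_on with
  | _ n ih =>
    intro G _ _ hn hG hns
    classical
    have hI : Ind G := fun H _ _ hlt hS hns' => ih _ (hn ▸ hlt) H rfl hS hns'
    obtain ⟨R, hRn, hRs, hRmax⟩ := exists_radical G
    haveI := hRn
    by_cases hR1 : R = ⊥
    · have hT : ∀ K : Subgroup G, K.Normal → Group.IsSolvable K → K = ⊥ :=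
        fun K hK hKs => le_bot_iff.1 (hR1 ▸ hRmax K hK hKs)
      refine ⟨⊥, inferInstance, IsPGroup.of_bot, fun K hK hKs => (hT K hK hKs).le, ?_⟩
      rcases card_of_trivial_radical hG hI hns hT with h | h
      · exact Or.inl (by rw [Subgroup.index_bot, h])
      · exact Or.inr ⟨rfl, h⟩
    haveI := hRs
    obtain ⟨V, hVn, hV1, hVR, hVmin⟩ :=
      CfsgLib.Solvable.Basic.exists_minimal_normal_le (G := G) (H := R) hR1
    haveI := hVn
    haveI : Group.IsSolvable V := Group.isSolvable_of_isSolvable_injective (Subgroup.inclusion_injective hVR)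
    obtain ⟨-, p, hp, -, hVp⟩ := CfsgLib.Solvable.Basic.minimal_normal_solvable V hV1 hVmin
    haveI := Fact.mk hp
    obtain ⟨P, hVP, ⟨hPn, hPp, hPR⟩, hPmax⟩ := Finite.exists_le_maximal
      (p := fun K : Subgroup G => K.Normal ∧ IsPGroup p K ∧ K ≤ R) (a := V) ⟨hVn, hVp, hVR⟩
    haveI := hPn
    have hP1 : P ≠ ⊥ := fun e => hV1 (le_bot_iff.1 (e ▸ hVP))
    have hPR' : P = R := by
      by_contra hne
      have hQns : ¬ Group.IsSolvable (G ⧸ P) := fun h => hns (by
        haveI := h
        haveI := solvable_of_pGroup hPp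
        exact solvable_of_ker_le_range P.subtype (QuotientGroup.mk' P) (by simp))
      have hRb : R.map (QuotientGroup.mk' P) ≠ ⊥ := by
        rw [ne_eq, Subgroup.map_eq_bot_iff, QuotientGroup.ker_mk']
        exact fun h => hne (le_antisymm hPR h)
      haveI : (R.map (QuotientGroup.mk' P)).Normal :=
        hRn.map _ (QuotientGroup.mk'_surjective P)
      obtain ⟨W, hWn, hW1, hWR, hWmin⟩ :=
        CfsgLib.Solvable.Basic.exists_minimal_normal_le (G := G ⧸ P) hRb
      haveI := hWn
      haveI : Group.IsSolvable W := by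
        haveI : Group.IsSolvable (R.map (QuotientGroup.mk' P)) :=
          Group.isSolvable_of_surjective ((QuotientGroup.mk' P).subgroupMap_surjective R)
        exact Group.isSolvable_of_isSolvable_injective (Subgroup.inclusion_injective hWR)
      obtain ⟨-, q, hq, hWexp, hWq⟩ := CfsgLib.Solvable.Basic.minimal_normal_solvable W hW1 hWmin
      haveI := Fact.mk hq
      have hqp : p ≠ q := by
        rintro rfl
        refine hW1 (le_bot_iff.1 fun x hx => ?_)
        have hle : P ≤ W.comap (QuotientGroup.mk' P) := fun y hy => by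
          show (QuotientGroup.mk' P) y ∈ W
          rw [show (QuotientGroup.mk' P) y = 1 from (QuotientGroup.eq_one_iff y).2 hy]
          exact one_mem W
        have hWle := hPmax ⟨inferInstance,
          hWq.comap_of_ker_isPGroup _ (by rwa [QuotientGroup.ker_mk']), fun y hy => by
            obtain ⟨r, hr, hry⟩ := hWR hy
            have hmem : r⁻¹ * y ∈ P := QuotientGroup.eq.1 hry
            have := R.mul_mem hr (hPR hmem)
            rwa [mul_inv_cancel_left] at this⟩ hle
        obtain ⟨y, rfl⟩ := QuotientGroup.mk'_surjective P x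
        exact Subgroup.mem_bot.2 ((QuotientGroup.eq_one_iff y).2 (hWle hx))
      have hle := quotient_card_le hG hqp P hPp hP1 hWexp
      have hWc : Nat.card W = q := by
        obtain ⟨k, hk⟩ := IsPGroup.iff_card.1 hWq
        rw [hk] at hle ⊢
        rcases k with _ | k
        · exact absurd (Subgroup.card_eq_one.1 (by simpa using hk)) hW1
        · exact le_antisymm hle (Nat.le_self_pow k.succ_ne_zero q)
      haveI : IsCyclic W := isCyclic_of_prime_card hWc
      obtain ⟨w, hw, hw1⟩ := W.bot_or_exists_ne_one.resolve_left hW1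
      have hCp := (hG.quotient P).pGroup_centralizer (p := q) hw1
        ⟨1, by rw [pow_one]; exact orderOf_eq_prime (hWexp w hw) hw1⟩
      have hker : IsPGroup q (MulAut.conjNormal : G ⧸ P →* MulAut W).ker := by
        refine hCp.to_le fun g hg => Subgroup.mem_centralizer_singleton_iff.2 ?_
        have := congrArg Subtype.val (DFunLike.congr_fun hg ⟨w, hw⟩)
        rw [MulAut.conjNormal_apply, MulAut.one_apply] at this
        exact mul_inv_eq_iff_eq_mul.1 this
      apply hQns
      haveI := solvable_of_pGroup hker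
      letI : CommGroup (MulAut W) :=
        { (inferInstance : Group (MulAut W)) with
          mul_comm := fun x y => (IsCyclic.mulAutMulEquiv W).injective
            (by rw [map_mul, map_mul, mul_comm]) }
      exact solvable_of_ker_le_range (MulAut.conjNormal : G ⧸ P →* MulAut W).ker.subtype
        (MulAut.conjNormal : G ⧸ P →* MulAut W) (by simp)
    subst hPR'
    -- the quotient
    have hQlt : Nat.card (G ⧸ P) < Nat.card G := by
      rw [Subgroup.card_eq_card_quotient_mul_card_subgroup P]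
      exact lt_mul_of_one_lt_right Nat.card_pos ((P.one_lt_card_iff_ne_bot).2 hP1)
    have hQs := hG.quotient P
    have hQns : ¬ Group.IsSolvable (G ⧸ P) := fun h => hns (by
      haveI := h
      exact solvable_of_ker_le_range P.subtype (QuotientGroup.mk' P) (by simp))
    have hQT : ∀ K : Subgroup (G ⧸ P), K.Normal → Group.IsSolvable K → K = ⊥ := by
      intro K hK hKs
      have hle : P ≤ K.comap (QuotientGroup.mk' P) := fun y hy => by
        show (QuotientGroup.mk' P) y ∈ K
        rw [show (QuotientGroup.mk' P) y = 1 from (QuotientGroup.eq_one_iff y).2 hy]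
        exact one_mem K
      haveI := hKs
      have hs : Group.IsSolvable (K.comap (QuotientGroup.mk' P)) :=
        solvable_of_ker_le_range (Subgroup.inclusion hle) ((QuotientGroup.mk' P).subgroupComap K)
          (fun x hx => ⟨⟨x, (QuotientGroup.eq_one_iff (x : G)).1 (congrArg Subtype.val hx)⟩, rfl⟩)
      have := hRmax _ (hK.comap _) hs
      refine le_bot_iff.1 fun x hx => ?_
      obtain ⟨y, rfl⟩ := QuotientGroup.mk'_surjective P x
      exact Subgroup.mem_bot.2 ((QuotientGroup.eq_one_iff y).2 (this hx))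
    obtain ⟨R', hR'n, hR'2, -, hR'⟩ := hI _ hQlt hQs hQns
    haveI : Fact (Nat.Prime 2) := ⟨Nat.prime_two⟩
    rw [hQT R' hR'n (solvable_of_pGroup hR'2), Subgroup.index_bot] at hR'
    have h60 : Nat.card (G ⧸ P) = 60 ∨ Nat.card (G ⧸ P) = 360 := hR'.imp id And.right
    -- the prime is two
    have hp2 : p = 2 := by
      by_contra hp2
      obtain ⟨L, hL, hLc⟩ : ∃ L : Subgroup (G ⧸ P), (∀ x ∈ L, x ^ 2 = 1) ∧ 2 < Nat.card L := by
        rcases h60 with h | h
        · obtain ⟨φ⟩ := iso_A5 hI hQlt.le hQs h hQT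
          exact four_le φ five_commuting
        · obtain ⟨φ⟩ := iso_A6 hI hQlt.le hQs h hQT
          exact four_le φ FiveFacts.six_commuting
      have := quotient_card_le hG hp2 P hPp hP1 hL
      omega
    subst hp2
    refine ⟨P, hPn, hPp, hRmax, Or.inl ?_⟩
    rcases h60 with h | h
    · rw [Subgroup.index_eq_card, h]
    · exfalso
      haveI : Fact (Nat.Prime 3) := ⟨Nat.prime_three⟩
      obtain ⟨L⟩ : Nonempty (Sylow 3 (G ⧸ P)) := inferInstance
      have hL9 : Nat.card (L : Subgroup (G ⧸ P)) = 9 := by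
        rw [L.card_eq_multiplicity, h, show (360 : ℕ) = 3 ^ 2 * 40 from rfl,
          Nat.factorization_mul (by norm_num) (by norm_num), Finsupp.add_apply,
          Nat.prime_three.factorization_pow, Finsupp.single_eq_same,
          Nat.factorization_eq_zero_of_not_dvd (by norm_num)]
        norm_num
      have := quotient_card_le hG (q := 3) (by norm_num) P hPp hP1
        (fun x hx => hQs.pow_prime Nat.prime_three (by norm_num) L.isPGroup' hx)
      omega

/-- A soluble group with element orders at most five is not divisible by thirty. -/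
theorem not_solvable_of_thirty : ∀ (n : ℕ) (G : Type u) [Group G] [Finite G], Nat.card G = n →
    Small G → 30 ∣ Nat.card G → ¬ Group.IsSolvable G := by
  intro n
  induction n using Nat.strong_induction_on with
  | _ n ih =>
    intro G _ _ hn hG h30 hs
    classical
    haveI := hs
    haveI : Nontrivial G := Finite.one_lt_card_iff_nontrivial.1
      (by have := Nat.le_of_dvd Nat.card_pos h30; omega)
    obtain ⟨N, hNn, hN1, -, hNmin⟩ :=
      CfsgLib.Solvable.Basic.exists_minimal_normal_le (G := G) (H := ⊤) top_ne_bot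
    haveI := hNn
    obtain ⟨-, p, hp, -, hNp⟩ := CfsgLib.Solvable.Basic.minimal_normal_solvable N hN1 hNmin
    haveI := Fact.mk hp
    have hlt : Nat.card (G ⧸ N) < n := by
      rw [← hn, Subgroup.card_eq_card_quotient_mul_card_subgroup N]
      exact lt_mul_of_one_lt_right Nat.card_pos ((N.one_lt_card_iff_ne_bot).2 hN1)
    have hQs := hG.quotient N
    have hQsol : Group.IsSolvable (G ⧸ N) :=
      Group.isSolvable_of_surjective (QuotientGroup.mk'_surjective N)
    -- other primes divide the quotient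
    have hdiv : ∀ r : ℕ, r.Prime → r ∣ 30 → r ≠ p → r ∣ Nat.card (G ⧸ N) := by
      intro r hr hr30 hrp
      have h := hr30.trans h30
      rw [Subgroup.card_eq_card_quotient_mul_card_subgroup N] at h
      refine (hr.dvd_mul.1 h).resolve_right fun h' => hrp ?_
      obtain ⟨k, hk⟩ := IsPGroup.iff_card.1 hNp
      rw [hk] at h'
      exact (Nat.prime_dvd_prime_iff_eq hr hp).1 (hr.dvd_of_dvd_pow h')
    have hp35 : p = 2 ∨ p = 3 ∨ p = 5 := hG.prime_mem hp (by
      obtain ⟨k, hk⟩ := IsPGroup.iff_card.1 hNp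
      rcases k with _ | k
      · exact absurd (Subgroup.card_eq_one.1 (by simpa using hk)) hN1
      · exact (dvd_pow_self p k.succ_ne_zero).trans (hk ▸ Subgroup.card_subgroup_dvd_card N))
    have hnp : ¬ p ∣ Nat.card (G ⧸ N) := by
      intro hd
      refine ih _ hlt (G ⧸ N) rfl hQs ?_ hQsol
      have h2 : 2 ∣ Nat.card (G ⧸ N) := by
        rcases hp35 with rfl | rfl | rfl <;>
          first | exact hd | exact hdiv 2 Nat.prime_two (by norm_num) (by norm_num)
      have h3 : 3 ∣ Nat.card (G ⧸ N) := by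
        rcases hp35 with rfl | rfl | rfl <;>
          first | exact hd | exact hdiv 3 Nat.prime_three (by norm_num) (by norm_num)
      have h5 : 5 ∣ Nat.card (G ⧸ N) := by
        rcases hp35 with rfl | rfl | rfl <;>
          first | exact hd | exact hdiv 5 (by norm_num) (by norm_num) (by norm_num)
      exact Nat.Coprime.mul_dvd_of_dvd_of_dvd (by norm_num : Nat.Coprime 6 5)
        (Nat.Coprime.mul_dvd_of_dvd_of_dvd (by norm_num : Nat.Coprime 2 3) h2 h3) h5
    haveI : Nontrivial (G ⧸ N) := by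
      refine Finite.one_lt_card_iff_nontrivial.1 ?_
      have h2 : 2 ∣ Nat.card (G ⧸ N) ∨ 3 ∣ Nat.card (G ⧸ N) := by
        by_cases h : p = 2
        · exact Or.inr (hdiv 3 Nat.prime_three (by norm_num) (by omega))
        · exact Or.inl (hdiv 2 Nat.prime_two (by norm_num) (Ne.symm h))
      have := Nat.card_pos (α := G ⧸ N)
      rcases h2 with h | h <;> have := Nat.le_of_dvd (by omega) h <;> omega
    haveI := hQsol
    obtain ⟨W, hWn, hW1, -, hWmin⟩ :=
      CfsgLib.Solvable.Basic.exists_minimal_normal_le (G := G ⧸ N) (H := ⊤) top_ne_bot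
    haveI := hWn
    obtain ⟨-, q, hq, hWexp, hWq⟩ := CfsgLib.Solvable.Basic.minimal_normal_solvable W hW1 hWmin
    haveI := Fact.mk hq
    obtain ⟨k, hk⟩ := IsPGroup.iff_card.1 hWq
    have hk0 : k ≠ 0 := fun e => hW1 (Subgroup.card_eq_one.1 (by rw [hk, e, pow_zero]))
    have hqd : q ∣ Nat.card (G ⧸ N) :=
      (dvd_pow_self q hk0).trans (hk ▸ Subgroup.card_subgroup_dvd_card W)
    have hpq : p ≠ q := fun e => hnp (e ▸ hqd)
    have hWc : Nat.card W = q := le_antisymm (quotient_card_le hG hpq N hNp hN1 hWexp)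
      (hk ▸ Nat.le_self_pow hk0 q)
    have hq35 := hG.prime_mem hq (hqd.trans (Subgroup.card_quotient_dvd_card N))
    haveI : IsCyclic W := isCyclic_of_prime_card hWc
    obtain ⟨w, hw, hw1⟩ := W.bot_or_exists_ne_one.resolve_left hW1
    have hwq : orderOf w = q := orderOf_eq_prime (hWexp w hw) hw1
    -- a third prime acts faithfully
    obtain ⟨r, hr, hr30, hrp, hrq⟩ : ∃ r : ℕ, r.Prime ∧ r ∣ 30 ∧ r ≠ p ∧ r ≠ q := by
      rcases hp35 with rfl | rfl | rfl <;> rcases hq35 with rfl | rfl | rfl <;>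
        first
          | exact absurd rfl hpq
          | (solve | (refine ⟨2, Nat.prime_two, ?_, ?_, ?_⟩ <;> norm_num))
          | (solve | (refine ⟨3, Nat.prime_three, ?_, ?_, ?_⟩ <;> norm_num))
          | (solve | (refine ⟨5, ?_, ?_, ?_, ?_⟩ <;> norm_num))
    haveI := Fact.mk hr
    obtain ⟨t, ht⟩ := exists_prime_orderOf_dvd_card' (G := G ⧸ N) r (hdiv r hr hr30 hrp)
    let φ : G ⧸ N →* MulAut W := MulAut.conjNormal
    have hφ : φ t ≠ 1 := by
      intro e
      have h := congrArg Subtype.val (DFunLike.congr_fun e ⟨w, hw⟩)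
      rw [MulAut.one_apply] at h
      simp only [φ, MulAut.conjNormal_apply] at h
      refine hQs.no_comm (fun e' => ?_) hw1 (mul_inv_eq_iff_eq_mul.1 h) ?_
      · rw [e', orderOf_one] at ht; exact hr.ne_one ht.symm
      · rw [ht, hwq]; exact (Nat.coprime_primes hr hq).2 hrq
    have hrd : r ∣ q - 1 := by
      have h1 : orderOf (φ t) = r := orderOf_eq_prime (by rw [← map_pow, ← ht, pow_orderOf_eq_one, map_one]) hφ
      have h2 := orderOf_dvd_natCard (φ t)
      rw [h1, Nat.card_congr (IsCyclic.mulAutMulEquiv W).toEquiv, hWc, Nat.card_eq_fintype_card,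
        ZMod.card_units q] at h2
      exact h2
    have hr2 : r = 2 := by
      have hr35 := hG.prime_mem hr (hr30.trans h30)
      have := Nat.le_of_dvd (by have := hq.two_le; omega) hrd
      rcases hr35 with h | h | h <;> rcases hq35 with h' | h' | h' <;> subst h <;> subst h' <;>
        first | rfl | omega | norm_num at hrd
    subst hr2
    -- an involution inverts `N`
    obtain ⟨u, hu⟩ := exists_prime_orderOf_dvd_card' (G := G) 2 (hr30.trans h30)
    have hu2 : u * u = 1 := by
      have h0 := pow_orderOf_eq_one u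
      rwa [hu, pow_two] at h0
    have huinv : ∀ x ∈ N, u * x * u⁻¹ = x⁻¹ := by
      refine fun x hx => inverts_of_fpf (fun y hy => hNn.conj_mem y hy u) hu2 (fun y hy hc => ?_) hx
      by_contra hy1
      obtain ⟨j, hj⟩ := IsPGroup.iff_orderOf.1 hNp ⟨y, hy⟩
      rw [← Subgroup.orderOf_coe] at hj
      refine hG.no_comm (fun e => ?_) hy1 hc ?_
      · rw [e, orderOf_one] at hu; omega
      · rw [hu, hj]
        exact Nat.Coprime.pow_right j ((Nat.coprime_primes Nat.prime_two hp).2 hrp)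
    obtain ⟨s, rfl⟩ := QuotientGroup.mk'_surjective N w
    obtain ⟨x, hx, hx1⟩ := N.bot_or_exists_ne_one.resolve_left hN1
    have hy : IsPGroup p (Subgroup.centralizer ({x} : Set G)) := by
      obtain ⟨j, hj⟩ := IsPGroup.iff_orderOf.1 hNp ⟨x, hx⟩
      rw [← Subgroup.orderOf_coe] at hj
      exact hG.pGroup_centralizer hx1 ⟨j, hj⟩
    have hmem : u * s * u⁻¹ * s⁻¹ ∈ Subgroup.centralizer ({x} : Set G) := by
      refine Subgroup.mem_centralizer_singleton_iff.2 (mul_inv_eq_iff_eq_mul.1 ?_)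
      have e1 : u⁻¹ * x * u = x⁻¹ := by
        have := huinv x hx
        rwa [inv_eq_of_mul_eq_one_right hu2] at this ⊢
      have hm : s⁻¹ * x * s ∈ N := by
        have := hNn.conj_mem x hx s⁻¹
        rwa [inv_inv] at this
      calc u * s * u⁻¹ * s⁻¹ * x * (u * s * u⁻¹ * s⁻¹)⁻¹
          = u * (s * (u⁻¹ * (s⁻¹ * x * s) * u) * s⁻¹) * u⁻¹ := by group
        _ = u * (s * (s⁻¹ * x * s)⁻¹ * s⁻¹) * u⁻¹ := by
          have e2 : u⁻¹ * (s⁻¹ * x * s) * u = (s⁻¹ * x * s)⁻¹ := by
            have := huinv _ hm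
            rwa [inv_eq_of_mul_eq_one_right hu2] at this ⊢
          rw [e2]
        _ = u * x⁻¹ * u⁻¹ := by group
        _ = x := by rw [huinv _ (N.inv_mem hx), inv_inv]
    obtain ⟨j, hj⟩ := IsPGroup.iff_orderOf.1 hy ⟨_, hmem⟩
    rw [← Subgroup.orderOf_coe] at hj
    have hone : (QuotientGroup.mk' N) (u * s * u⁻¹ * s⁻¹) = 1 := by
      have h1 := (orderOf_map_dvd (QuotientGroup.mk' N) (u * s * u⁻¹ * s⁻¹)).trans (dvd_of_eq hj)
      have h2 := orderOf_dvd_natCard ((QuotientGroup.mk' N) (u * s * u⁻¹ * s⁻¹))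
      have hcop : Nat.Coprime (p ^ j) (Nat.card (G ⧸ N)) :=
        Nat.Coprime.pow_left j (hp.coprime_iff_not_dvd.2 hnp)
      exact orderOf_eq_one_iff.1 (Nat.dvd_one.1 (hcop.gcd_eq_one ▸ Nat.dvd_gcd h1 h2))
    rw [map_mul, map_mul, map_mul, map_inv, map_inv, mul_inv_eq_one] at hone
    have hu1 : orderOf ((QuotientGroup.mk' N) u) = 2 := by
      refine orderOf_eq_prime (by rw [← map_pow, pow_two, hu2, map_one]) fun e => ?_
      obtain ⟨i, hi⟩ := IsPGroup.iff_orderOf.1 hNp ⟨u, (QuotientGroup.eq_one_iff u).1 e⟩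
      rw [← Subgroup.orderOf_coe, hu] at hi
      exact hrp ((Nat.prime_dvd_prime_iff_eq Nat.prime_two hp).1 (Nat.prime_two.dvd_of_dvd_pow (dvd_of_eq hi)))
    refine hQs.no_comm (fun e => ?_) hw1 (mul_inv_eq_iff_eq_mul.1 hone) ?_
    · rw [e, orderOf_one] at hu1; omega
    · rw [hu1, hwq]; exact (Nat.coprime_primes Nat.prime_two hq).2 hrq

end CfsgLib.Recognition.OneToFive
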