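import Cfsg.Agent.Lib.Recognition.OneToFive.Local

/-!
The local subgroups are small, odd Sylow subgroups intersect trivially, and their automisers.
-/

set_option autoImplicit false
set_option linter.style.haveILetI false

namespace CfsgLib.Recognition.OneToFive

universe u

variable {G : Type u} [Group G] [Finite G]

/-- A soluble group with a normal `p`-subgroup `D` containing all others has, modulo `D`, a
self-centralising cyclic normal subgroup of another prime order. -/
theorem solvable_shape {p : ℕ} [Fact p.Prime] {M : Type u} [Group M] [Finite M] (hM : Small M)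
    (hsol : Group.IsSolvable M) (D : Subgroup M) [D.Normal] (hD : IsPGroup p D) (hD1 : D ≠ ⊥)
    (hmax : ∀ K : Subgroup M, K.Normal → IsPGroup p K → K ≤ D)
    (h2 : ∃ T₁ T₂ : Sylow p M, T₁ ≠ T₂) :
    ∃ (q : ℕ) (F : Subgroup (M ⧸ D)), q.Prime ∧ q ≠ p ∧ F.Normal ∧ Nat.card F = q ∧
      IsPGroup q (Subgroup.centralizer (F : Set (M ⧸ D))) ∧ p ∣ q - 1 ∧ p ∣ Nat.card (M ⧸ D) ∧
      (q ≠ 2 → Subgroup.centralizer (F : Set (M ⧸ D)) = F ∧ (Nat.card (M ⧸ D)) ∣ q * (q - 1)) := by
  have hp : p.Prime := Fact.out
  have hpd : p ∣ Nat.card (M ⧸ D) := by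
    by_contra hnd
    obtain ⟨T₁, T₂, hne⟩ := h2
    have hfull : ∀ T : Sylow p M, (T : Subgroup M) = D := by
      intro T
      refine le_antisymm (fun t ht => ?_) (le_sylow_of_normal inferInstance hD T)
      have h1 : IsPGroup p ((T : Subgroup M).map (QuotientGroup.mk' D)) := T.isPGroup'.map _
      obtain ⟨k, hk⟩ := IsPGroup.iff_card.1 h1
      have hdvd := Subgroup.card_subgroup_dvd_card ((T : Subgroup M).map (QuotientGroup.mk' D))
      rcases k with _ | k
      · rw [pow_zero, Subgroup.card_eq_one] at hk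
        exact (QuotientGroup.eq_one_iff t).1
          (Subgroup.mem_bot.1 (hk ▸ Subgroup.mem_map_of_mem (QuotientGroup.mk' D) ht))
      · exact absurd ((dvd_pow_self p k.succ_ne_zero).trans (hk ▸ hdvd)) hnd
    exact hne (Sylow.ext ((hfull T₁).trans (hfull T₂).symm))
  haveI : Nontrivial (M ⧸ D) := Finite.one_lt_card_iff_nontrivial.1
    (lt_of_lt_of_le hp.one_lt (Nat.le_of_dvd Nat.card_pos hpd))
  haveI := hsol
  obtain ⟨F, hFn, hF1, -, hFmin⟩ :=
    CfsgLib.Solvable.Basic.exists_minimal_normal_le (G := M ⧸ D) (H := ⊤) top_ne_bot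
  haveI := hFn
  obtain ⟨-, q, hq, hexp, hFq⟩ := CfsgLib.Solvable.Basic.minimal_normal_solvable F hF1 hFmin
  haveI := Fact.mk hq
  have hqp : q ≠ p := by
    rintro rfl
    refine hF1 ?_
    have hK := hmax (F.comap (QuotientGroup.mk' D)) inferInstance
      (hFq.comap_of_ker_isPGroup _ (by rwa [QuotientGroup.ker_mk']))
    refine le_bot_iff.1 fun x hx => ?_
    induction x using QuotientGroup.induction_on with
    | H g => exact Subgroup.mem_bot.2 ((QuotientGroup.eq_one_iff g).2 (hK hx))
  -- elementary subgroups of the quotient lift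
  have hbound : ∀ L : Subgroup (M ⧸ D), IsPGroup q L → (∀ x ∈ L, x ^ q = 1) → Nat.card L ≤ q := by
    intro L hL hLexp
    have hcopr : Nat.Coprime (Nat.card (D.subgroupOf (L.comap (QuotientGroup.mk' D))))
        (D.subgroupOf (L.comap (QuotientGroup.mk' D))).index := by
      have hle : D ≤ L.comap (QuotientGroup.mk' D) := fun d hd => by
        show (QuotientGroup.mk' D) d ∈ L
        rw [show (QuotientGroup.mk' D) d = 1 from (QuotientGroup.eq_one_iff d).2 hd]
        exact one_mem L
      have hidx : (D.subgroupOf (L.comap (QuotientGroup.mk' D))).index = Nat.card L := by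
        have hker : ((QuotientGroup.mk' D).comp (L.comap (QuotientGroup.mk' D)).subtype).ker =
            D.subgroupOf (L.comap (QuotientGroup.mk' D)) := by
          rw [← MonoidHom.comap_ker, QuotientGroup.ker_mk']; rfl
        rw [← hker, Subgroup.index_ker, MonoidHom.range_comp, Subgroup.range_subtype,
          Subgroup.map_comap_eq_self_of_surjective (QuotientGroup.mk'_surjective D)]
      rw [hidx, Nat.card_congr (Subgroup.subgroupOfEquivOfLe hle).toEquiv]
      obtain ⟨i, hi⟩ := IsPGroup.iff_card.1 hD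
      obtain ⟨j, hj⟩ := IsPGroup.iff_card.1 hL
      rw [hi, hj]
      exact Nat.Coprime.pow i j ((Nat.coprime_primes hp hq).2 hqp.symm)
    obtain ⟨C, hC⟩ := Subgroup.exists_right_complement'_of_coprime hcopr
    let ι : C →* M ⧸ D :=
      ((QuotientGroup.mk' D).comp (L.comap (QuotientGroup.mk' D)).subtype).comp C.subtype
    have hιinj : Function.Injective ι := by
      rw [injective_iff_map_eq_one]
      intro c hc
      have h1 : (c : L.comap (QuotientGroup.mk' D)) ∈ D.subgroupOf (L.comap (QuotientGroup.mk' D)) :=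
        (QuotientGroup.eq_one_iff ((c : L.comap (QuotientGroup.mk' D)) : M)).1 hc
      exact Subtype.ext (Subgroup.mem_bot.1 (hC.disjoint.le_bot ⟨h1, c.2⟩))
    let C' : Subgroup M := C.map (L.comap (QuotientGroup.mk' D)).subtype
    have hCexp : ∀ x ∈ C', x ^ q = 1 := by
      rintro _ ⟨c, hc, rfl⟩
      have h1 : ι (⟨c, hc⟩ ^ q) = 1 := by rw [map_pow]; exact hLexp _ c.2
      exact congrArg (fun z : C => ((z : L.comap (QuotientGroup.mk' D)) : M))
        (hιinj (h1.trans ι.map_one.symm))
    have hle : Nat.card C' ≤ q := hM.card_le_prime hqp.symm hD hD1 hCexp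
      (by rw [Subgroup.normalizer_eq_top]; exact le_top)
    have hcard : Nat.card L = Nat.card C := by
      have h1 := hC.card_mul
      have h2 := Subgroup.card_mul_index (D.subgroupOf (L.comap (QuotientGroup.mk' D)))
      have hidx : (D.subgroupOf (L.comap (QuotientGroup.mk' D))).index = Nat.card L := by
        have hker : ((QuotientGroup.mk' D).comp (L.comap (QuotientGroup.mk' D)).subtype).ker =
            D.subgroupOf (L.comap (QuotientGroup.mk' D)) := by
          rw [← MonoidHom.comap_ker, QuotientGroup.ker_mk']; rfl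
        rw [← hker, Subgroup.index_ker, MonoidHom.range_comp, Subgroup.range_subtype,
          Subgroup.map_comap_eq_self_of_surjective (QuotientGroup.mk'_surjective D)]
      rw [hidx, ← h1] at h2
      exact mul_left_cancel₀ Nat.card_pos.ne' h2
    rwa [hcard, ← Subgroup.card_map_of_injective (K := C)
      (L.comap (QuotientGroup.mk' D)).subtype_injective]
  have hFcard : Nat.card F = q := by
    obtain ⟨k, hk⟩ := IsPGroup.iff_card.1 hFq
    have h1 := hbound F hFq hexp
    rw [hk] at h1 ⊢
    rcases k with _ | _ | k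
    · exact absurd (Subgroup.card_eq_one.1 (by simpa using hk)) hF1
    · simp
    · exfalso
      have : q ^ 2 ≤ q ^ (k + 2) := Nat.pow_le_pow_right hq.pos (by omega)
      have := hq.two_le
      nlinarith
  haveI : IsCyclic F := isCyclic_of_prime_card hFcard
  have hMD := hM.quotient D
  have hCq : IsPGroup q (Subgroup.centralizer (F : Set (M ⧸ D))) := by
    obtain ⟨f, hf, hf1⟩ := (F.bot_or_exists_ne_one).resolve_left hF1
    refine (hMD.pGroup_centralizer (p := q) hf1 ⟨1, ?_⟩).to_le
      (Subgroup.centralizer_le (Set.singleton_subset_iff.2 hf))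
    rw [pow_one]
    exact orderOf_eq_prime (hexp f hf) hf1
  have hindex : (Subgroup.centralizer (F : Set (M ⧸ D))).index ∣ q - 1 := by
    have hker : (MulAut.conjNormal : M ⧸ D →* MulAut F).ker = Subgroup.centralizer (F : Set (M ⧸ D)) := by
      ext g
      rw [MonoidHom.mem_ker, Subgroup.mem_centralizer_iff]
      constructor
      · intro h f hf
        have := congrArg Subtype.val (DFunLike.congr_fun h ⟨f, hf⟩)
        rw [MulAut.conjNormal_apply, MulAut.one_apply] at this
        exact (mul_inv_eq_iff_eq_mul.1 this).symm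
      · intro h
        refine MulEquiv.ext fun f => Subtype.ext ?_
        rw [MulAut.conjNormal_apply, ← h f f.2, mul_inv_cancel_right, MulAut.one_apply]
    rw [← hker, Subgroup.index_ker]
    refine (Subgroup.card_subgroup_dvd_card _).trans (dvd_of_eq ?_)
    rw [Nat.card_congr (IsCyclic.mulAutMulEquiv F).toEquiv, hFcard, Nat.card_eq_fintype_card,
      ZMod.card_units q]
  have hpq : p ∣ q - 1 := by
    rw [← Subgroup.card_mul_index (Subgroup.centralizer (F : Set (M ⧸ D)))] at hpd
    refine ((hp.dvd_mul).1 hpd).resolve_left (fun h => ?_) |>.trans hindex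
    obtain ⟨k, hk⟩ := IsPGroup.iff_card.1 hCq
    rw [hk] at h
    exact hqp ((Nat.prime_dvd_prime_iff_eq hp hq).1 (hp.dvd_of_dvd_pow h)).symm
  refine ⟨q, F, hq, hqp, hFn, hFcard, hCq, hpq, hpd, fun hq2 => ?_⟩
  have hFC : F ≤ Subgroup.centralizer (F : Set (M ⧸ D)) := fun x hx =>
    Subgroup.mem_centralizer_iff.2 fun y hy => congrArg Subtype.val
      (mul_comm' (⟨y, hy⟩ : F) ⟨x, hx⟩)
  have hC : Subgroup.centralizer (F : Set (M ⧸ D)) = F := by
    refine (Subgroup.eq_of_le_of_card_ge hFC ?_).symm
    rw [hFcard]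
    exact hbound _ hCq fun x hx => hMD.pow_prime hq hq2 hCq hx
  refine ⟨hC, ?_⟩
  rw [← Subgroup.card_mul_index (Subgroup.centralizer (F : Set (M ⧸ D)))]
  rw [hC] at hindex ⊢
  rw [hFcard]
  exact Nat.mul_dvd_mul_left q hindex

/-- In a proper nonsolvable subgroup a normal subgroup of odd prime power order is trivial. -/
theorem concl_odd_normal {M : Type u} [Group M] (hM : Concl M) {p : ℕ} [Fact p.Prime] (hp2 : p ≠ 2)
    [Finite M] {D : Subgroup M} (hDn : D.Normal) (hD : IsPGroup p D) : D = ⊥ := by
  obtain ⟨R, -, hR2, hmax, -⟩ := hM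
  exact disjoint_self.1 (IsPGroup.disjoint_of_ne p 2 hp2 D D hD
    (hR2.to_le (hmax D hDn (solvable_of_pGroup hD))))

theorem card_lt_of_ne_top {M : Subgroup G} (h : M ≠ ⊤) : Nat.card M < Nat.card G := by
  rw [← M.card_mul_index]
  exact lt_mul_of_one_lt_right Nat.card_pos (Subgroup.one_lt_index_of_ne_top h)

/-- Sylow subgroups for odd primes meet trivially. -/
theorem ti_odd (hG : Small G) (hI : Ind G)
    (hT : ∀ K : Subgroup G, K.Normal → Group.IsSolvable K → K = ⊥) {p : ℕ} [hp : Fact p.Prime]
    (hp2 : p ≠ 2) {P R : Sylow p G} (hPR : P ≠ R) : (P : Subgroup G) ⊓ (R : Subgroup G) = ⊥ := by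
  by_contra hne
  obtain ⟨D, hD1, hDp, hMtop, h2, hmax⟩ := exists_local hT ⟨P, R, hPR, hne⟩
  haveI hDn : (D.subgroupOf (Subgroup.normalizer (D : Set G))).Normal := Subgroup.normal_in_normalizer
  have hDm : IsPGroup p (D.subgroupOf (Subgroup.normalizer (D : Set G))) :=
    hDp.comap_of_injective _ (Subgroup.subtype_injective _)
  have hD1' : D.subgroupOf (Subgroup.normalizer (D : Set G)) ≠ ⊥ := fun e => hD1 (by
    have := Subgroup.subgroupOf_eq_bot.1 e
    exact le_bot_iff.1 (this.le_bot.trans' (le_inf le_rfl Subgroup.le_normalizer)))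
  by_cases hsol : Group.IsSolvable (Subgroup.normalizer (D : Set G))
  · obtain ⟨q, F, hq, hqp, -, hFc, -, hpq, -, -⟩ :=
      solvable_shape (hG.subgroup _) hsol _ hDm hD1' hmax h2
    have h3 : 3 ≤ p := by have := hp.out.two_le; omega
    have hq5 : q ≤ 5 := by
      have hd : q ∣ Nat.card G := by
        have h1 : q ∣ Nat.card (↥(Subgroup.normalizer (D : Set G)) ⧸
            D.subgroupOf (Subgroup.normalizer (D : Set G))) := hFc ▸ Subgroup.card_subgroup_dvd_card F
        exact h1.trans ((Subgroup.card_quotient_dvd_card _).trans (Subgroup.card_subgroup_dvd_card _))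
      rcases hG.prime_mem hq hd with h | h | h <;> omega
    have := Nat.le_of_dvd (by have := hq.two_le; omega) hpq
    interval_cases q <;> interval_cases p <;> simp_all (config := { decide := true })
  · exact hD1' (concl_odd_normal
      (hI _ (card_lt_of_ne_top hMtop) (hG.subgroup _) hsol) hp2 hDn hDm)

end CfsgLib.Recognition.OneToFive
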