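import Cfsg.Agent.Lib.Recognition.OneToFive.Automiser
import Cfsg.Agent.S0494
import Cfsg.Agent.S0497

/-!
The quotients of order sixty and three hundred and sixty, and facts about the alternating group of
degree five.
-/

set_option autoImplicit false
set_option linter.style.haveILetI false
set_option maxRecDepth 40000

namespace CfsgLib.Recognition.OneToFive

universe u

namespace FiveFacts

abbrev A5 := ↥(alternatingGroup (Fin 5))

theorem sq_of_four : ∀ g : A5, g * g * (g * g) = 1 → g * g = 1 := by decide +kernel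

theorem inv_three : ∀ a : A5, a * a = 1 → a ≠ 1 →
    ∃ s : A5, s * s * s = 1 ∧ s ≠ 1 ∧ a * s * a * s = 1 := by decide +kernel

theorem inv_five : ∀ a : A5, a * a = 1 → a ≠ 1 →
    ∃ s : A5, s * s * (s * s) * s = 1 ∧ s ≠ 1 ∧ a * s * a * s = 1 := by decide +kernel

set_option synthInstance.maxSize 4000 in
set_option synthInstance.maxHeartbeats 200000 in
theorem rot : ∀ a : A5, a * a = 1 → a ≠ 1 → ∀ b : A5, b * b = 1 → b ≠ 1 → b ≠ a → a * b = b * a →
    ∃ r : A5, r * r * r = 1 ∧ r ≠ 1 ∧ r * a = b * r ∧ r * b = a * b * r := by decide +kernel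

/-- An involution fixing the given point. -/
def inv : Fin 5 → A5 :=
  ![⟨Equiv.swap 1 2 * Equiv.swap 3 4, Equiv.Perm.mem_alternatingGroup.2 (by decide +kernel)⟩,
    ⟨Equiv.swap 0 2 * Equiv.swap 3 4, Equiv.Perm.mem_alternatingGroup.2 (by decide +kernel)⟩,
    ⟨Equiv.swap 0 1 * Equiv.swap 3 4, Equiv.Perm.mem_alternatingGroup.2 (by decide +kernel)⟩,
    ⟨Equiv.swap 0 1 * Equiv.swap 2 4, Equiv.Perm.mem_alternatingGroup.2 (by decide +kernel)⟩,
    ⟨Equiv.swap 0 1 * Equiv.swap 2 3, Equiv.Perm.mem_alternatingGroup.2 (by decide +kernel)⟩]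

theorem inv_spec : ∀ i : Fin 5, inv i * inv i = 1 ∧ inv i ≠ 1 ∧
    ∀ j : Fin 5, inv i * inv j = inv j * inv i → i = j := by decide +kernel

theorem card_eq : Nat.card A5 = 60 := by
  show Nat.card ↥(alternatingGroup (Fin 5)) = 60
  have h := two_mul_nat_card_alternatingGroup (α := Fin 5)
  rw [Nat.card_perm, Nat.card_fin, show Nat.factorial 5 = 120 by decide] at h
  omega

theorem six_commuting : ∃ a b : ↥(alternatingGroup (Fin 6)),
    a * a = 1 ∧ b * b = 1 ∧ a ≠ 1 ∧ b ≠ 1 ∧ a ≠ b ∧ a * b = b * a :=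
  ⟨⟨Equiv.swap 0 1 * Equiv.swap 2 3, Equiv.Perm.mem_alternatingGroup.2 (by decide +kernel)⟩,
   ⟨Equiv.swap 0 2 * Equiv.swap 1 3, Equiv.Perm.mem_alternatingGroup.2 (by decide +kernel)⟩,
   by decide +kernel⟩

end FiveFacts

variable {G : Type u} [Group G] [Finite G]

theorem solvable_lt_sixty (hI : Ind G) (H : Type u) [Group H] [Finite H]
    (hlt : Nat.card H < Nat.card G) (hS : Small H) (h60 : Nat.card H < 60) :
    Group.IsSolvable H := by
  by_contra hns
  obtain ⟨R, -, -, -, hR⟩ := hI H hlt hS hns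
  rcases hR with h | ⟨-, h⟩
  · have := Nat.le_of_dvd Nat.card_pos (h ▸ R.index_dvd_card)
    omega
  · omega

/-- A normal subgroup of a group with trivial radical has trivial radical. -/
theorem normal_radical {Q : Type u} [Group Q] [Finite Q]
    (hT : ∀ K : Subgroup Q, K.Normal → Group.IsSolvable K → K = ⊥) (N : Subgroup Q) [N.Normal]
    (R : Subgroup N) (hRn : R.Normal) (hRs : Group.IsSolvable R)
    (hmax : ∀ K : Subgroup N, K.Normal → Group.IsSolvable K → K ≤ R) : R = ⊥ := by
  haveI := hRn
  haveI := hRs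
  have hinv : ∀ g : Q, R.map (MulAut.conjNormal g : MulAut N).toMonoidHom ≤ R := fun g =>
    hmax _ (hRn.map _ (MulAut.conjNormal g : MulAut N).surjective)
      (Group.isSolvable_of_surjective
        ((MulAut.conjNormal g : MulAut N).toMonoidHom.subgroupMap_surjective R))
  have hn : (R.map N.subtype).Normal := ⟨by
    rintro _ ⟨r, hr, rfl⟩ g
    exact ⟨_, hinv g ⟨r, hr, rfl⟩, by simp [MulAut.conjNormal_apply]⟩⟩
  exact (Subgroup.map_eq_bot_iff_of_injective _ N.subtype_injective).1
    (hT _ hn (Group.isSolvable_of_surjective (N.subtype.subgroupMap_surjective R)))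

/-- The quotient of order sixty. -/
theorem iso_A5 (hI : Ind G) {Q : Type u} [Group Q] [Finite Q] (hle : Nat.card Q ≤ Nat.card G)
    (hQ : Small Q) (h60 : Nat.card Q = 60)
    (hT : ∀ K : Subgroup Q, K.Normal → Group.IsSolvable K → K = ⊥) :
    Nonempty (Q ≃* alternatingGroup (Fin 5)) := by
  haveI : Nontrivial Q := Finite.one_lt_card_iff_nontrivial.1 (by omega)
  haveI : IsSimpleGroup Q := by
    refine ⟨fun N hN => ?_⟩
    by_cases htop : N = ⊤
    · exact Or.inr htop
    have hlt := card_lt_of_ne_top htop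
    exact Or.inl (hT N hN
      (solvable_lt_sixty hI N (by omega) (hQ.subgroup N) (by omega)))
  exact Cfsg.Agent.S0494.result h60

/-- The quotient of order three hundred and sixty. -/
theorem iso_A6 (hI : Ind G) {Q : Type u} [Group Q] [Finite Q] (hle : Nat.card Q ≤ Nat.card G)
    (hQ : Small Q) (h360 : Nat.card Q = 360)
    (hT : ∀ K : Subgroup Q, K.Normal → Group.IsSolvable K → K = ⊥) :
    Nonempty (Q ≃* alternatingGroup (Fin 6)) := by
  classical
  haveI : Nontrivial Q := Finite.one_lt_card_iff_nontrivial.1 (by omega)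
  haveI : IsSimpleGroup Q := by
    refine ⟨fun N hN => ?_⟩
    by_contra hc
    push Not at hc
    haveI := hN
    have hlt := card_lt_of_ne_top hc.2
    have hns : ¬ Group.IsSolvable N := fun h => hc.1 (hT N hN h)
    obtain ⟨R, hRn, hR2, hmax, hR⟩ := hI N (by omega) (hQ.subgroup N) hns
    have hRb : R = ⊥ := normal_radical hT N R hRn (solvable_of_pGroup hR2) hmax
    rw [hRb, Subgroup.index_bot] at hR
    have hN60 : Nat.card N = 60 := by rcases hR with h | ⟨-, h⟩ <;> omega
    have hNidx : N.index = 6 := by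
      have := N.card_mul_index
      rw [hN60, h360] at this
      omega
    haveI : Fact (Nat.Prime 5) := ⟨by norm_num⟩
    haveI : Fact (Nat.Prime 3) := ⟨by norm_num⟩
    obtain ⟨P⟩ : Nonempty (Sylow 5 Q) := inferInstance
    have hP : ∀ R' : Sylow 5 Q, Nat.card (R' : Subgroup Q) = 5 := by
      intro R'
      rw [R'.card_eq_multiplicity, h360, show (360 : ℕ) = 5 * 72 from rfl,
        Nat.factorization_mul (by norm_num) (by norm_num), Finsupp.add_apply,
        Nat.Prime.factorization_self Fact.out, Nat.factorization_eq_zero_of_not_dvd (by norm_num)]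
      norm_num
    have hTI : ∀ A B : Sylow 5 Q, A ≠ B → (A : Subgroup Q) ⊓ (B : Subgroup Q) = ⊥ := by
      intro A B hAB
      have hd := Subgroup.card_dvd_of_le (inf_le_left (a := (A : Subgroup Q)) (b := (B : Subgroup Q)))
      rw [hP] at hd
      rcases (Nat.dvd_prime (Fact.out : Nat.Prime 5)).1 hd with h | h
      · exact Subgroup.card_eq_one.1 h
      · exfalso
        have e1 := Subgroup.eq_of_le_of_card_ge (inf_le_left (a := (A : Subgroup Q)) (b := (B : Subgroup Q)))
          (by rw [h, hP])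
        have e2 := Subgroup.eq_of_le_of_card_ge (inf_le_right (a := (A : Subgroup Q)) (b := (B : Subgroup Q)))
          (by rw [h, hP])
        exact hAB (Sylow.ext (e1.symm.trans e2))
    obtain ⟨e, he, -, hed, -⟩ := automiser hQ (p := 5) (q := 3) (by norm_num) (by norm_num)
      (by norm_num) (fun r hr hd => by rcases hQ.prime_mem hr hd with h | h | h <;> simp [h]) hTI
      (by rw [h360]; norm_num) P
    rw [hP, h360] at he
    rw [hP] at hed
    have hcount := card_orderOf_eq hQ (p := 5) (by norm_num) hTI P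
    rw [hP] at hcount
    have hle' : Nat.card {g : Q // orderOf g = 5} ≤ Nat.card N := by
      refine Nat.card_le_card_of_injective (fun g => ⟨g.1, ?_⟩) ?_
      · have h1 := orderOf_map_dvd (QuotientGroup.mk' N) g.1
        rw [g.2] at h1
        have h2 := orderOf_dvd_natCard (QuotientGroup.mk' N g.1)
        rw [← Subgroup.index_eq_card, hNidx] at h2
        have h3 : orderOf (QuotientGroup.mk' N g.1) ∣ 1 := (Nat.dvd_gcd h1 h2).trans (by norm_num)
        exact (QuotientGroup.eq_one_iff _).1 (orderOf_eq_one_iff.1 (Nat.dvd_one.1 h3))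
      · intro a b hab
        exact Subtype.ext (congrArg (fun x : N => (x : Q)) hab)
    rw [hcount, hN60] at hle'
    have he4 : e ≤ 4 := Nat.le_of_dvd (by norm_num) hed
    have : Nat.card (Sylow 5 Q) * (5 * e) ≤ 15 * (5 * 4) :=
      Nat.mul_le_mul (by omega) (by omega)
    omega
  exact Cfsg.Agent.S0497.result h360

end CfsgLib.Recognition.OneToFive
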