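import Cfsg.Agent.Lib.Recognition.OneToFive.TwoFacts

/-!
The structure of a Sylow two-subgroup when two of them meet nontrivially.
-/

set_option autoImplicit false
set_option linter.style.haveILetI false

namespace CfsgLib.Recognition.OneToFive

universe u

variable {G : Type u} [Group G] [Finite G]

theorem mem_smul_sylow {p : ℕ} {S : Sylow p G} {g x : G} :
    x ∈ ((g • S : Sylow p G) : Subgroup G) ↔ g⁻¹ * x * g ∈ (S : Subgroup G) := by
  rw [Sylow.coe_subgroup_smul, Subgroup.mem_pointwise_smul_iff_inv_smul_mem]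
  simp [MulAut.conj_inv_apply]

theorem Small.pow_four_of_mem (hG : Small G) {S : Subgroup G} (hS : IsPGroup 2 S) {x : G}
    (hx : x ∈ S) : x ^ 4 = 1 := by
  obtain ⟨k, hk⟩ := IsPGroup.iff_orderOf.1 hS ⟨x, hx⟩
  rw [← Subgroup.orderOf_coe] at hk
  rcases k with _ | k
  · rw [show x = 1 from orderOf_eq_one_iff.1 (by simpa using hk), one_pow]
  · exact hG.pow_four (hk ▸ dvd_pow_self 2 k.succ_ne_zero)

theorem sq_one_comm {x y : G} (hx : x * x = 1) (hy : y * y = 1) (hxy : x * y * (x * y) = 1) :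
    x * y = y * x := by
  calc x * y = (x * y)⁻¹ := (inv_eq_of_mul_eq_one_right hxy).symm
    _ = y * x := by rw [mul_inv_rev, inv_eq_of_mul_eq_one_right hx, inv_eq_of_mul_eq_one_right hy]

theorem involutions_conj_or_commute {t v : G} (ht : t * t = 1) (hv : v * v = 1)
    (hne : ∀ g : G, g * v * g⁻¹ ≠ t) :
    ∃ z : G, z ≠ 1 ∧ z * z = 1 ∧ Commute z t ∧ Commute z v := by
  set c := t * v with hc
  have hvc : v * c * v⁻¹ = c⁻¹ := by
    rw [hc, mul_inv_rev, inv_eq_of_mul_eq_one_right hv, inv_eq_of_mul_eq_one_right ht]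
    calc v * (t * v) * v = v * t * (v * v) := by group
      _ = v * t := by rw [hv, mul_one]
  have htc : t * c * t⁻¹ = c⁻¹ := by
    rw [hc, mul_inv_rev, inv_eq_of_mul_eq_one_right hv, inv_eq_of_mul_eq_one_right ht]
    calc t * (t * v) * t = (t * t) * (v * t) := by group
      _ = v * t := by rw [ht, one_mul]
  rcases Nat.even_or_odd (orderOf c) with ⟨m, hm⟩ | ⟨k, hk⟩
  · have hpos := orderOf_pos c
    have hz2 : c ^ m * c ^ m = 1 := by rw [← pow_add, ← hm, pow_orderOf_eq_one]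
    refine ⟨c ^ m, fun e => ?_, hz2, ?_, ?_⟩
    · exact Nat.not_dvd_of_pos_of_lt (by omega) (by omega) (orderOf_dvd_of_pow_eq_one e)
    · refine (mul_inv_eq_iff_eq_mul.1 ?_ : t * c ^ m = c ^ m * t).symm
      rw [← conj_pow, htc, inv_pow, inv_eq_of_mul_eq_one_right hz2]
    · refine (mul_inv_eq_iff_eq_mul.1 ?_ : v * c ^ m = c ^ m * v).symm
      rw [← conj_pow, hvc, inv_pow, inv_eq_of_mul_eq_one_right hz2]
  · refine absurd ?_ (hne (c ^ (k + 1)))
    have h1 : v * c ^ (k + 1) * v⁻¹ = (c ^ (k + 1))⁻¹ := by rw [← conj_pow, hvc, inv_pow]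
    calc c ^ (k + 1) * v * (c ^ (k + 1))⁻¹ = c ^ (k + 1) * v * (v * c ^ (k + 1) * v⁻¹) := by rw [h1]
      _ = c ^ (k + 1) * (v * v) * c ^ (k + 1) * v⁻¹ := by group
      _ = c ^ (2 * k + 1 + 1) * v := by
        rw [hv, mul_one, inv_eq_of_mul_eq_one_right hv, ← pow_add]
        ring_nf
      _ = t := by rw [pow_succ, ← hk, pow_orderOf_eq_one, one_mul, hc, mul_assoc, hv, mul_one]

/-- Decomposition along a subgroup of full relative index. -/
theorem decomp {S D A : Subgroup G} (hDS : D ≤ S) (hAS : A ≤ S)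
    (hn : S ≤ Subgroup.normalizer (D : Set G)) (hidx : D.relIndex A = D.relIndex S) {x : G}
    (hx : x ∈ S) : ∃ d ∈ D, ∃ a ∈ A, x = a * d := by
  haveI : (D.subgroupOf S).Normal := Subgroup.normal_subgroupOf_of_le_normalizer hn
  have h2 : (D.subgroupOf S).relIndex (A.subgroupOf S ⊔ D.subgroupOf S) = (D.subgroupOf S).index := by
    rw [Subgroup.relIndex_sup_right, Subgroup.relIndex_subgroupOf hAS, hidx]
    rfl
  have h3 := Subgroup.relIndex_mul_index
    (le_sup_right : D.subgroupOf S ≤ A.subgroupOf S ⊔ D.subgroupOf S)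
  rw [h2] at h3
  have h4 : A.subgroupOf S ⊔ D.subgroupOf S = ⊤ := Subgroup.index_eq_one.1
    (mul_left_cancel₀ Subgroup.index_ne_zero_of_finite (h3.trans (mul_one _).symm))
  have h5 : (⟨x, hx⟩ : S) ∈ A.subgroupOf S ⊔ D.subgroupOf S := h4 ▸ Subgroup.mem_top _
  obtain ⟨a, ha, d, hd, had⟩ := Subgroup.mem_sup_of_normal_right.1 h5
  exact ⟨d, hd, a, ha, (congrArg Subtype.val had).symm⟩

theorem card_eq_inf_mul (A D : Subgroup G) : Nat.card A = Nat.card ↥(D ⊓ A) * D.relIndex A := by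
  rw [← (D.subgroupOf A).card_mul_index, ← Subgroup.inf_subgroupOf_right D A,
    Nat.card_congr (Subgroup.subgroupOfEquivOfLe inf_le_right).toEquiv]
  rw [Subgroup.inf_subgroupOf_right]
  rfl

variable {D T I : Subgroup G} {n : ℕ}

theorem LocalData.I_le (h : LocalData G D T I n) : I ≤ D := by
  obtain ⟨t, ht, htD, -⟩ := h.invol
  exact h.out t ht htD ▸ inf_le_left

theorem LocalData.D_comm (h : LocalData G D T I n) : ∀ a ∈ D, ∀ b ∈ D, a * b = b * a :=
  fun a ha b hb => sq_one_comm (h.D_sq a ha) (h.D_sq b hb) (h.D_sq _ (D.mul_mem ha hb))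

theorem LocalData.commute_I (h : LocalData G D T I n) {i : G} (hi : i ∈ I) {x : G} (hx : x ∈ T) :
    i * x = x * i := by
  by_cases hxD : x ∈ D
  · exact h.D_comm _ (h.I_le hi) _ hxD
  · rw [← h.out x hx hxD] at hi
    exact Subgroup.mem_centralizer_singleton_iff.1 hi.2

theorem LocalData.mem_I (h : LocalData G D T I n) {d x : G} (hd : d ∈ D) (hx : x ∈ T) (hxD : x ∉ D)
    (hc : d * x = x * d) : d ∈ I := by
  rw [← h.out x hx hxD]
  exact ⟨hd, Subgroup.mem_centralizer_singleton_iff.2 hc⟩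

theorem LocalData.I_card_bounds (h : LocalData G D T I n) :
    2 ≤ n ∧ n ≤ Nat.card I ∧ Nat.card I < Nat.card D ∧ 2 ≤ Nat.card I := by
  have hD : 1 < Nat.card D := (D.one_lt_card_iff_ne_bot).2 h.D_ne
  have hq := h.I_card
  have h2 : 2 ≤ Nat.card I := by
    by_contra hc
    have : Nat.card I = 1 := by have := Nat.card_pos (α := I); omega
    rw [this] at hq
    omega
  have h3 : Nat.card I < Nat.card D := by rw [← hq, pow_two]; nlinarith
  rcases h.cases with ⟨hn, -⟩ | ⟨hn, -, -, h4⟩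
  · exact ⟨by omega, by omega, h3, h2⟩
  · have := Nat.le_of_dvd (by omega) h4
    exact ⟨by omega, by omega, h3, h2⟩

theorem LocalData.central_mem (h : LocalData G D T I n) {z : G} (hz : z ∈ T)
    (hc : ∀ x ∈ T, z * x = x * z) : z ∈ I := by
  by_cases hzD : z ∈ D
  · obtain ⟨t, ht, htD, -⟩ := h.invol
    exact h.mem_I hzD ht htD (hc t ht)
  · exfalso
    have h1 : D ≤ I := fun d hd => h.mem_I hd hz hzD (hc d (h.D_le hd)).symm
    have := Subgroup.card_le_of_le h1
    have := h.I_card_bounds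
    omega

theorem LocalData.D_relIndex (h : LocalData G D T I n) : D.relIndex T = n := by
  have h1 := card_eq_inf_mul T D
  rw [inf_eq_left.2 h.D_le, h.T_card, mul_comm n] at h1
  exact (mul_left_cancel₀ Nat.card_pos.ne' h1).symm

/-- The local Sylow subgroup is a Sylow subgroup. -/
theorem LocalData.sylow (h : LocalData G D T I n) (hG : Small G) : ∃ S : Sylow 2 G, (S : Subgroup G) = T := by
  classical
  haveI : Fact (Nat.Prime 2) := ⟨Nat.prime_two⟩
  obtain ⟨S, hTS⟩ := h.T_two.exists_le_sylow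
  refine ⟨S, le_antisymm (fun x hxS => ?_) hTS⟩
  by_contra hxT
  haveI : Group.IsNilpotent (S : Subgroup G) := S.isPGroup'.isNilpotent
  have hlt : T.subgroupOf (S : Subgroup G) < ⊤ := lt_top_iff_ne_top.2 fun e =>
    hxT (Subgroup.subgroupOf_eq_top.1 e hxS)
  obtain ⟨y, hy, hyT⟩ := SetLike.exists_of_lt (Group.normalizerCondition_of_isNilpotent _ hlt)
  have hyn : ∀ z ∈ T, (y : G) * z * (y : G)⁻¹ ∈ T := fun z hz =>
    (Subgroup.mem_normalizer_iff.1 hy ⟨z, hTS hz⟩).1 hz
  have hy4 := hG.pow_four_of_mem S.isPGroup' y.2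
  -- an element squaring into `T`
  obtain ⟨s, hsS, hsT, hsn, hs2, hs4⟩ : ∃ s, s ∈ (S : Subgroup G) ∧ s ∉ T ∧
      (∀ z ∈ T, s * z * s⁻¹ ∈ T) ∧ s * s ∈ T ∧ (s * s) * (s * s) = 1 := by
    have e4 : ∀ z ∈ (S : Subgroup G), (z * z) * (z * z) = 1 := fun z hz => by
      have := hG.pow_four_of_mem S.isPGroup' hz
      rwa [pow_succ, pow_succ, pow_succ, pow_one, mul_assoc (z * z)] at this
    by_cases h2 : (y : G) * y ∈ T
    · exact ⟨y, y.2, hyT, hyn, h2, e4 _ y.2⟩
    · refine ⟨(y : G) * y, (S : Subgroup G).mul_mem y.2 y.2, h2, fun z hz => ?_, ?_, ?_⟩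
      · have := hyn _ (hyn z hz)
        rw [show (y : G) * y * z * ((y : G) * y)⁻¹ = y * (y * z * (y : G)⁻¹) * (y : G)⁻¹ by group]
        exact this
      · rw [e4 _ y.2]; exact T.one_mem
      · rw [e4 _ y.2, one_mul]
  set D' : Subgroup G := D.map (MulAut.conj s).toMonoidHom with hD'
  have hmem : ∀ {x : G}, x ∈ D' ↔ s⁻¹ * x * s ∈ D := by
    intro x
    constructor
    · rintro ⟨d, hd, rfl⟩
      have : s⁻¹ * (MulAut.conj s d) * s = d := by rw [MulAut.conj_apply]; group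
      exact this.symm ▸ hd
    · intro hx
      exact ⟨_, hx, by simp [MulAut.conj_apply, mul_assoc]⟩
  have hD'T : D' ≤ T := by
    rintro _ ⟨d, hd, rfl⟩
    exact hsn d (h.D_le hd)
  have hD'c : Nat.card D' = Nat.card D :=
    Subgroup.card_map_of_injective (MulAut.conj s).injective
  have hnle : ¬ D' ≤ D := by
    intro hle
    have heq := Subgroup.eq_of_le_of_card_ge hle hD'c.ge
    have hsD : s ∈ Subgroup.normalizer (D : Set G) := by
      rw [Subgroup.mem_normalizer_iff]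
      intro d
      constructor
      · intro hd
        exact heq ▸ (⟨d, hd, rfl⟩ : s * d * s⁻¹ ∈ D')
      · intro hd
        rw [← heq, hmem] at hd
        simpa [mul_assoc] using hd
    have hU := h.T_max (T ⊔ Subgroup.zpowers s)
      (S.isPGroup'.to_le (sup_le hTS (Subgroup.zpowers_le.2 hsS)))
      (sup_le h.T_le (Subgroup.zpowers_le.2 hsD)) le_sup_left
    exact hsT (hU ▸ le_sup_right (a := T) (Subgroup.mem_zpowers s))
  obtain ⟨a, haD', haD⟩ := SetLike.not_le_iff_exists.1 hnle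
  have hD'sq : ∀ x ∈ D', x * x = 1 := by
    rintro _ ⟨d, hd, rfl⟩
    show MulAut.conj s d * MulAut.conj s d = 1
    rw [← map_mul, h.D_sq d hd, map_one]
  have hinf : D ⊓ D' ≤ I := fun x hx => h.mem_I hx.1 (hD'T haD') haD
    (sq_one_comm (hD'sq x hx.2) (hD'sq a haD') (hD'sq _ (D'.mul_mem hx.2 haD')))
  obtain ⟨hn2, hnI, hID, hI2⟩ := h.I_card_bounds
  have hrel : D.relIndex D' = n ∧ D ⊓ D' = I := by
    have h1 := card_eq_inf_mul D' D
    have h2 : D.relIndex D' ≤ n := by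
      rw [← h.D_relIndex]
      exact Subgroup.relIndex_le_of_le_right hD'T (by
        rw [h.D_relIndex]; omega)
    have h3 := Subgroup.card_le_of_le hinf
    rw [hD'c, ← h.I_card, pow_two] at h1
    have h4 : Nat.card ↥(D ⊓ D') = Nat.card I := by
      by_contra hne
      have h5 : Nat.card ↥(D ⊓ D') * D.relIndex D' < Nat.card I * Nat.card I := by
        calc Nat.card ↥(D ⊓ D') * D.relIndex D' ≤ Nat.card ↥(D ⊓ D') * Nat.card I :=
              Nat.mul_le_mul_left _ (h2.trans hnI)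
          _ < Nat.card I * Nat.card I := Nat.mul_lt_mul_of_pos_right (by omega) (by omega)
      omega
    refine ⟨?_, Subgroup.eq_of_le_of_card_ge hinf h4.ge⟩
    rw [h4] at h1
    have h6 : Nat.card I = D.relIndex D' := mul_left_cancel₀ Nat.card_pos.ne' h1
    omega
  have hID' : ∀ {i : G}, i ∈ I → i ∈ D' := fun hi => (hrel.2.symm ▸ hi : _ ∈ D ⊓ D').2
  set t := s * s with ht
  have hst : s⁻¹ * t * s = t := by rw [ht]; group
  -- the square lies in `I`
  have htI : t ∈ I := by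
    by_cases htD : t ∈ D
    · rw [← hrel.2]
      exact ⟨htD, hmem.2 (hst.symm ▸ htD)⟩
    · exfalso
      obtain ⟨d, hd, b, hb, hbd⟩ := decomp h.D_le hD'T h.T_le (hrel.1.trans h.D_relIndex.symm) hs2
      have hbD : b ∉ D := fun hb' => htD (hbd ▸ D.mul_mem hb' hd)
      have hcomm : b * d = d * b := sq_one_comm (hD'sq b hb) (h.D_sq d hd) (by rw [← hbd]; exact hs4)
      have hdI := h.mem_I hd (hD'T hb) hbD hcomm.symm
      have htD' : t ∈ D' := hbd ▸ D'.mul_mem hb (hID' hdI)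
      exact htD (hst ▸ hmem.1 htD')
  obtain ⟨d, hd, hdI⟩ := SetLike.not_le_iff_exists.1
    (fun hle : D ≤ I => by have := Subgroup.card_le_of_le hle; omega)
  set d' := s * d * s⁻¹ with hd'
  have hd'T : d' ∈ T := hsn d (h.D_le hd)
  have hd'D' : d' ∈ D' := ⟨d, hd, rfl⟩
  have hd'D : d' ∉ D := by
    intro hd''
    apply hdI
    refine h.central_mem (h.D_le hd) fun x hx => ?_
    have hI' : d' ∈ I := hrel.2 ▸ ⟨hd'', hd'D'⟩
    have e := h.commute_I hI' (hsn x hx)
    calc d * x = s⁻¹ * (d' * (s * x * s⁻¹)) * s := by rw [hd']; group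
      _ = x * d := by rw [e, hd']; group
  have h4 := hG.pow_four_of_mem S.isPGroup' ((S : Subgroup G).mul_mem hsS (hTS (h.D_le hd)))
  have hsq : (s * d) * (s * d) = d' * d * t := by
    calc (s * d) * (s * d) = d' * (s * s) * d := by rw [hd']; group
      _ = d' * d * t := by rw [← ht, mul_assoc, h.commute_I htI (h.D_le hd), ← mul_assoc]
  rw [pow_succ, pow_succ, pow_succ, pow_one, mul_assoc (s * d * (s * d)), hsq] at h4
  have htc : t * (d' * d) = d' * d * t := h.commute_I htI (T.mul_mem hd'T (h.D_le hd))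
  have h5 : d' * d * (d' * d) = 1 := by
    calc d' * d * (d' * d) = d' * d * (t * (d' * d)) * t := by
          rw [htc, mul_assoc (d' * d), mul_assoc (d' * d), hs4, mul_one]
      _ = 1 := by rw [← mul_assoc (d' * d) t, mul_assoc (d' * d * t), h4]
  exact hdI (h.mem_I hd hd'T hd'D (sq_one_comm (hD'sq d' hd'D') (h.D_sq d hd) h5).symm)

theorem normal_le_bot (hT : ∀ K : Subgroup G, K.Normal → Group.IsSolvable K → K = ⊥) {w : G}
    {S : Subgroup G} (hS : IsPGroup 2 S) (hw : ∀ g : G, g * w * g⁻¹ ∈ S) : w = 1 := by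
  haveI : Fact (Nat.Prime 2) := ⟨Nat.prime_two⟩
  have hle : Subgroup.normalClosure {w} ≤ S := by
    refine (Subgroup.closure_le _).2 fun x hx => ?_
    obtain ⟨a, ha, hax⟩ := Group.mem_conjugatesOfSet_iff.1 hx
    rw [Set.mem_singleton_iff] at ha
    subst ha
    obtain ⟨g, hg⟩ := isConj_iff.1 hax
    exact hg ▸ hw g
  have h := hT _ Subgroup.normalClosure_normal (solvable_of_pGroup (hS.to_le hle))
  have hmem : w ∈ Subgroup.normalClosure {w} := Subgroup.subset_normalClosure rfl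
  rwa [h, Subgroup.mem_bot] at hmem

/-- The structure of a Sylow two-subgroup. -/
structure TwoData (G : Type u) [Group G] (S : Sylow 2 G) (D E I : Subgroup G) (n : ℕ) : Prop where
  D_le : D ≤ (S : Subgroup G)
  E_le : E ≤ (S : Subgroup G)
  D_sq : ∀ d ∈ D, d * d = 1
  E_sq : ∀ e ∈ E, e * e = 1
  inf_eq : D ⊓ E = I
  D_card : Nat.card D = n * n
  E_card : Nat.card E = n * n
  I_card : Nat.card I = n
  S_card : Nat.card (S : Subgroup G) = n * (n * n)
  cover : ∀ x ∈ (S : Subgroup G), x * x = 1 → x ∈ D ∨ x ∈ E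
  central : ∀ i ∈ I, ∀ x ∈ (S : Subgroup G), i * x = x * i
  center : ∀ z ∈ (S : Subgroup G), (∀ x ∈ (S : Subgroup G), z * x = x * z) → z ∈ I
  sq_mem : ∀ x ∈ (S : Subgroup G), x * x ∈ I
  conj : ∀ x : G, x * x = 1 → x ≠ 1 → ∃ g : G, g * x * g⁻¹ ∈ I
  cases : (n = 2 ∧ ∃ u x : G, orderOf x = 3 ∧ u * x * u⁻¹ = x⁻¹) ∨
    (n = 4 ∧ (∃ u x : G, orderOf x = 3 ∧ u * x * u⁻¹ = x⁻¹) ∧
      ∃ u x : G, orderOf x = 5 ∧ u * x * u⁻¹ = x⁻¹)

theorem exists_twoData (hG : Small G) (hI : Ind G)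
    (hT : ∀ K : Subgroup G, K.Normal → Group.IsSolvable K → K = ⊥)
    (hint : ∃ P R : Sylow 2 G, P ≠ R ∧ (P : Subgroup G) ⊓ (R : Subgroup G) ≠ ⊥) :
    ∃ (S : Sylow 2 G) (D E I : Subgroup G) (n : ℕ), TwoData G S D E I n := by
  classical
  haveI : Fact (Nat.Prime 2) := ⟨Nat.prime_two⟩
  obtain ⟨D, T, I, n, h⟩ := exists_localData hG hI hT hint
  obtain ⟨S, hST⟩ := h.sylow hG
  obtain ⟨hn2, hnI, hID, hI2⟩ := h.I_card_bounds
  have hIT : ∀ {i : G}, i ∈ I → i ∈ T := fun hi => h.D_le (h.I_le hi)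
  have hcent : ∀ i ∈ I, i ≠ 1 → Subgroup.centralizer ({i} : Set G) = (S : Subgroup G) := by
    intro i hi hi1
    refine S.3 (hG.pGroup_centralizer hi1 ⟨1, ?_⟩) fun x hx => ?_
    · rw [pow_one]
      exact orderOf_eq_prime (by rw [pow_two]; exact h.D_sq i (h.I_le hi)) hi1
    · exact Subgroup.mem_centralizer_singleton_iff.2 (h.commute_I hi (hST ▸ hx)).symm
  obtain ⟨w, hw, hw1⟩ : ∃ w ∈ I, w ≠ 1 := by
    refine (I.bot_or_exists_ne_one).resolve_left fun e => ?_
    rw [e, Subgroup.card_bot] at hI2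
    omega
  -- an involution with centraliser outside `S`
  obtain ⟨t, ht, htD, ht2, htC⟩ : ∃ t ∈ T, t ∉ D ∧ t * t = 1 ∧
      ¬ Subgroup.centralizer ({t} : Set G) ≤ (S : Subgroup G) := by
    by_contra hc
    push Not at hc
    obtain ⟨t, ht, htD, ht2⟩ := h.invol
    refine hw1 (normal_le_bot hT S.isPGroup' fun g => ?_)
    have hcs := hc t ht htD ht2
    have hv2 : g * w * g⁻¹ * (g * w * g⁻¹) = 1 := by
      calc g * w * g⁻¹ * (g * w * g⁻¹) = g * (w * w) * g⁻¹ := by group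
        _ = 1 := by rw [h.D_sq w (h.I_le hw), mul_one, mul_inv_cancel]
    by_cases hconj : ∃ a : G, a * (g * w * g⁻¹) * a⁻¹ = t
    · exfalso
      obtain ⟨a, ha⟩ := hconj
      have hta : t = (a * g) * w * (a * g)⁻¹ := by rw [← ha]; group
      have hle : ((a * g) • S : Sylow 2 G).1 ≤ Subgroup.centralizer ({t} : Set G) := by
        intro x hx
        have hx' := mem_smul_sylow.1 (show x ∈ (((a * g) • S : Sylow 2 G) : Subgroup G) from hx)
        rw [← hcent w hw hw1, Subgroup.mem_centralizer_singleton_iff] at hx'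
        refine Subgroup.mem_centralizer_singleton_iff.2 ?_
        rw [hta]
        calc x * (a * g * w * (a * g)⁻¹) = a * g * (((a * g)⁻¹ * x * (a * g)) * w) * (a * g)⁻¹ := by group
          _ = _ := by rw [hx']; group
      have heq := ((a * g) • S : Sylow 2 G).3 S.isPGroup' (hle.trans hcs)
      refine htD (h.I_le (h.central_mem ht fun x hx => ?_))
      have hxS : x ∈ ((a * g) • S : Sylow 2 G).1 := heq ▸ (hST.symm ▸ hx : x ∈ (S : Subgroup G))
      exact (Subgroup.mem_centralizer_singleton_iff.1 (hle hxS)).symm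
    · push Not at hconj
      obtain ⟨z, hz1, hz2, hzt, hzv⟩ := involutions_conj_or_commute ht2 hv2 hconj
      have hzS : z ∈ T := hST ▸ hcs (Subgroup.mem_centralizer_singleton_iff.2 hzt.eq)
      have hv : g * w * g⁻¹ ∈ Subgroup.centralizer ({z} : Set G) :=
        Subgroup.mem_centralizer_singleton_iff.2 hzv.eq.symm
      by_cases hzD : z ∈ D
      · rw [hcent z (h.mem_I hzD ht htD hzt.eq) hz1] at hv
        exact hv
      · exact hc z hzS hzD hz2 hv
  -- a subgroup normalising the intersection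
  haveI : Group.IsNilpotent (Subgroup.centralizer ({t} : Set G)) := by
    refine (hG.pGroup_centralizer (p := 2) (fun e => htD (by rw [e]; exact D.one_mem)) ⟨1, ?_⟩).isNilpotent
    rw [pow_one]
    exact orderOf_eq_prime (by rw [pow_two]; exact ht2) (fun e => htD (by rw [e]; exact D.one_mem))
  set E := (S : Subgroup G) ⊓ Subgroup.centralizer ({t} : Set G) with hE
  have hlt : E.subgroupOf (Subgroup.centralizer ({t} : Set G)) < ⊤ := lt_top_iff_ne_top.2 fun e =>
    htC fun x hx => (Subgroup.subgroupOf_eq_top.1 e hx).1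
  obtain ⟨y, hy, hyE⟩ := SetLike.exists_of_lt (Group.normalizerCondition_of_isNilpotent _ hlt)
  have hyS : (y : G) ∉ (S : Subgroup G) := fun h' => hyE ⟨h', y.2⟩
  have hyn : ∀ z ∈ E, (y : G) * z * (y : G)⁻¹ ∈ E := fun z hz =>
    (Subgroup.mem_normalizer_iff.1 hy ⟨z, hz.2⟩).1 hz
  have hIE : I ≤ E := fun i hi => ⟨hST.symm ▸ hIT hi,
    Subgroup.mem_centralizer_singleton_iff.2 (h.commute_I hi ht)⟩
  set J := I.map (MulAut.conj (y : G)).toMonoidHom with hJ
  have hJE : J ≤ E := by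
    rintro _ ⟨i, hi, rfl⟩
    exact hyn i (hIE hi)
  have hED : D ⊓ E ≤ I := fun x hx =>
    h.mem_I hx.1 ht htD (Subgroup.mem_centralizer_singleton_iff.1 hx.2.2)
  have hIJ : I ⊓ J = ⊥ := by
    rw [eq_bot_iff]
    rintro _ ⟨hxI, i, hi, rfl⟩
    rw [Subgroup.mem_bot]
    by_contra hne
    have hi1 : i ≠ 1 := fun e => hne (by rw [e, map_one])
    have hC := hcent _ hxI hne
    have hSy : ∀ s ∈ (S : Subgroup G), (y : G)⁻¹ * s * y ∈ (S : Subgroup G) := by
      intro s hs
      rw [← hC, Subgroup.mem_centralizer_singleton_iff] at hs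
      rw [← hcent i hi hi1, Subgroup.mem_centralizer_singleton_iff]
      rw [show (MulAut.conj (y : G)).toMonoidHom i = (y : G) * i * (y : G)⁻¹ from rfl] at hs
      calc (y : G)⁻¹ * s * y * i = (y : G)⁻¹ * (s * ((y : G) * i * (y : G)⁻¹)) * y := by group
        _ = _ := by rw [hs]; group
    have hyN : Subgroup.zpowers (y : G) ≤ Subgroup.normalizer ((S : Subgroup G) : Set G) := by
      refine Subgroup.zpowers_le.2 ?_
      have hfix : y.1⁻¹ • S = S := by
        refine Sylow.ext (S.3 (((y : G)⁻¹ • S : Sylow 2 G).isPGroup') fun s hs => ?_)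
        rw [mem_smul_sylow]
        have hall : ∀ k : ℕ, ∀ s ∈ (S : Subgroup G), ((y : G) ^ k)⁻¹ * s * (y : G) ^ k ∈ (S : Subgroup G) := by
          intro k
          induction k with
          | zero => intro s hs; simpa using hs
          | succ k ih =>
            intro s hs
            have := hSy _ (ih s hs)
            rw [pow_succ, mul_inv_rev]
            simpa [mul_assoc] using this
        have h3 := hall (orderOf (y : G) - 1) s hs
        have hinv : (y : G) ^ (orderOf (y : G) - 1) = (y : G)⁻¹ :=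
          eq_inv_of_mul_eq_one_left (by
            rw [← pow_succ, Nat.sub_add_cancel (orderOf_pos _), pow_orderOf_eq_one])
        rwa [hinv] at h3
      exact inv_mem_iff.1 (Sylow.smul_eq_iff_mem_normalizer.1 hfix)
    have hp : IsPGroup 2 (Subgroup.zpowers (y : G)) :=
      (hG.pGroup_centralizer (p := 2) (fun e => htD (by rw [e]; exact D.one_mem)) ⟨1, by
        rw [pow_one]
        exact orderOf_eq_prime (by rw [pow_two]; exact ht2) (fun e => htD (by rw [e]; exact D.one_mem))⟩).to_le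
        (Subgroup.zpowers_le.2 y.2)
    have hU := S.3 (hp.to_sup_of_normal_right' S.isPGroup' hyN) le_sup_right
    exact hyS (hU.le (le_sup_left (b := (S : Subgroup G)) (Subgroup.mem_zpowers _)))
  have hJc : Nat.card J = Nat.card I := Subgroup.card_map_of_injective (MulAut.conj (y : G)).injective
  have hJD : D ⊓ J = ⊥ := le_bot_iff.1 fun x hx => hIJ.le ⟨hED ⟨hx.1, hJE hx.2⟩, hx.2⟩
  have hET : E ≤ T := fun x hx => hST ▸ hx.1
  have hne0 : D.relIndex T ≠ 0 := by rw [h.D_relIndex]; omega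
  have hJrel : D.relIndex J = Nat.card I := by
    have h1 := card_eq_inf_mul J D
    rw [hJD, Subgroup.card_bot, one_mul, hJc] at h1
    exact h1.symm
  have hqn : Nat.card I = n := le_antisymm
    (hJrel ▸ h.D_relIndex ▸ Subgroup.relIndex_le_of_le_right (hJE.trans hET) hne0) hnI
  have hDEI : D ⊓ E = I := le_antisymm hED fun i hi => ⟨h.I_le hi, hIE hi⟩
  have hErel : D.relIndex E = n := le_antisymm
    (h.D_relIndex ▸ Subgroup.relIndex_le_of_le_right hET hne0)
    (hqn ▸ hJrel ▸ Subgroup.relIndex_le_of_le_right hJE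
      (fun e => hne0 (Subgroup.relIndex_eq_zero_of_le_right hET e)))
  have hEc : Nat.card E = n * n := by
    rw [card_eq_inf_mul E D, hDEI, hErel, hqn]
  -- `E` is the product of `I` and `J`
  have hEIJ : ∀ e ∈ E, ∃ i ∈ I, ∃ j ∈ J, e = i * j := by
    let f : I × J → E := fun p => ⟨p.1 * p.2, E.mul_mem (hIE p.1.2) (hJE p.2.2)⟩
    have hf : Function.Injective f := by
      intro a b hab
      have h1 : (a.1 : G) * a.2 = b.1 * b.2 := congrArg Subtype.val hab
      have h2 : (b.1 : G)⁻¹ * a.1 = b.2 * (a.2 : G)⁻¹ := by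
        calc (b.1 : G)⁻¹ * a.1 = (b.1 : G)⁻¹ * ((a.1 : G) * a.2) * (a.2 : G)⁻¹ := by group
          _ = b.2 * (a.2 : G)⁻¹ := by rw [h1]; group
      have h3 : (b.1 : G)⁻¹ * a.1 ∈ I ⊓ J :=
        ⟨I.mul_mem (I.inv_mem b.1.2) a.1.2, h2 ▸ J.mul_mem b.2.2 (J.inv_mem a.2.2)⟩
      rw [hIJ, Subgroup.mem_bot] at h3
      have ea : (a.1 : G) = b.1 := (inv_mul_eq_one.1 h3).symm
      rw [ea] at h1
      exact Prod.ext (Subtype.ext ea) (Subtype.ext (mul_left_cancel h1))
    have hb := (Nat.bijective_iff_injective_and_card f).2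
      ⟨hf, by rw [Nat.card_prod, hJc, hqn, hEc]⟩
    intro e he
    obtain ⟨p, hp⟩ := hb.2 ⟨e, he⟩
    exact ⟨p.1, p.1.2, p.2, p.2.2, (congrArg Subtype.val hp).symm⟩
  have hEsq : ∀ e ∈ E, e * e = 1 := by
    intro e he
    obtain ⟨i, hi, j, hj, rfl⟩ := hEIJ e he
    have hj2 : j * j = 1 := by
      obtain ⟨k, hk, rfl⟩ := hj
      show MulAut.conj (y : G) k * MulAut.conj (y : G) k = 1
      rw [← map_mul, h.D_sq k (h.I_le hk), map_one]
    calc i * j * (i * j) = i * (j * i) * j := by group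
      _ = (i * i) * (j * j) := by rw [← h.commute_I hi (hET (hJE hj))]; group
      _ = 1 := by rw [h.D_sq i (h.I_le hi), hj2, one_mul]
  have hDc : Nat.card D = n * n := by rw [← h.I_card, hqn, pow_two]
  have hcover : ∀ x ∈ T, x * x = 1 → x ∈ D ∨ x ∈ E := by
    intro x hx hx2
    obtain ⟨d, hd, e, he, rfl⟩ := decomp h.D_le hET h.T_le (hErel.trans h.D_relIndex.symm) hx
    by_cases heD : e ∈ D
    · exact Or.inl (D.mul_mem heD hd)
    · exact Or.inr (E.mul_mem he (hIE (h.mem_I hd (hET he) heD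
        (sq_one_comm (hEsq e he) (h.D_sq d hd) hx2).symm)))
  -- the involutions are conjugate to elements of `I`
  obtain ⟨m, hmM, hm⟩ := h.conjs
  let f : Fin (n + 1) × {i : I // i ≠ 1} → {d : D // d ≠ 1} := fun p =>
    ⟨⟨m p.1 * p.2.1 * (m p.1)⁻¹,
      (Subgroup.mem_normalizer_iff.1 (hmM p.1) _).1 (h.I_le p.2.1.2)⟩,
      fun e => p.2.2 (Subtype.ext (conj_eq_one_iff.1 (congrArg Subtype.val e)))⟩
  have hf : Function.Injective f := by
    rintro ⟨a, i, hi1⟩ ⟨b, k, hk1⟩ hab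
    have e : m a * i * (m a)⁻¹ = m b * k * (m b)⁻¹ :=
      congrArg (fun z : {d : D // d ≠ 1} => ((z.1 : D) : G)) hab
    have hS : ∀ (c : Fin (n + 1)) (i : I), i ≠ 1 → T.map (MulAut.conj (m c)).toMonoidHom =
        Subgroup.centralizer ({m c * i * (m c)⁻¹} : Set G) := by
      intro c i hi1
      ext x
      rw [Subgroup.mem_centralizer_singleton_iff, ← hST,
        ← hcent i i.2 (fun e => hi1 (Subtype.ext e))]
      constructor
      · rintro ⟨s, hs, rfl⟩
        have hs' := Subgroup.mem_centralizer_singleton_iff.1 hs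
        show m c * s * (m c)⁻¹ * (m c * i * (m c)⁻¹) = m c * i * (m c)⁻¹ * (m c * s * (m c)⁻¹)
        calc m c * s * (m c)⁻¹ * (m c * i * (m c)⁻¹) = m c * (s * i) * (m c)⁻¹ := by group
          _ = _ := by rw [hs']; group
      · intro hx
        refine ⟨(m c)⁻¹ * x * m c, Subgroup.mem_centralizer_singleton_iff.2 ?_,
          show m c * ((m c)⁻¹ * x * m c) * (m c)⁻¹ = x by group⟩
        calc (m c)⁻¹ * x * m c * i = (m c)⁻¹ * (x * (m c * i * (m c)⁻¹)) * m c := by group
          _ = _ := by rw [hx]; group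
    have hab' : a = b := hm a b (by rw [hS a i hi1, hS b k hk1, e])
    subst hab'
    rw [Prod.mk.injEq]
    exact ⟨rfl, Subtype.ext (Subtype.ext (mul_left_cancel (mul_right_cancel e)))⟩
  have hcard1 : ∀ H : Subgroup G, Nat.card {i : H // i ≠ 1} = Nat.card H - 1 := by
    intro H
    haveI : Fintype H := Fintype.ofFinite _
    rw [Nat.card_eq_fintype_card, Fintype.card_subtype_compl, Fintype.card_subtype_eq,
      ← Nat.card_eq_fintype_card]
  have hfb := (Nat.bijective_iff_injective_and_card f).2 ⟨hf, by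
    rw [Nat.card_prod, Nat.card_fin, hcard1, hcard1, hqn, hDc]
    obtain ⟨k, rfl⟩ : ∃ k, n = k + 1 := ⟨n - 1, by omega⟩
    rw [Nat.add_sub_cancel,
      show (k + 1) * (k + 1) = (k + 1 + 1) * k + 1 by ring, Nat.add_sub_cancel]⟩
  have hconjS : ∀ x ∈ T, x * x = 1 → x ≠ 1 → ∃ g : G, g * x * g⁻¹ ∈ I := by
    intro x hx hx2 hx1
    by_cases hxD : x ∈ D
    · obtain ⟨⟨c, i⟩, hp⟩ := hfb.2 ⟨⟨x, hxD⟩, fun e => hx1 (congrArg Subtype.val e)⟩
      refine ⟨(m c)⁻¹, ?_⟩
      rw [show x = m c * i.1 * (m c)⁻¹ from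
        (congrArg (fun z : {d : D // d ≠ 1} => ((z.1 : D) : G)) hp).symm]
      rw [show (m c)⁻¹ * (m c * i.1 * (m c)⁻¹) * (m c)⁻¹⁻¹ = (i.1 : G) by group]
      exact i.1.2
    obtain ⟨i, hi, j, hj, hxij⟩ := hEIJ x ((hcover x hx hx2).resolve_left hxD)
    have hjD : j ∉ D := fun hj' => hxD (hxij ▸ D.mul_mem (h.I_le hi) hj')
    have hj2 := hEsq j (hJE hj)
    obtain ⟨d, hd, hdi⟩ := h.onto j (hET (hJE hj)) hjD i hi
    obtain ⟨k, hk, hky⟩ := hj
    change (y : G) * k * (y : G)⁻¹ = j at hky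
    refine ⟨(d * y)⁻¹, ?_⟩
    have hx' : x = d * j * d⁻¹ := by
      have hii : j * d * j * d = i := by
        rw [inv_eq_of_mul_eq_one_right hj2] at hdi; exact hdi
      rw [hxij, h.commute_I hi (hET (hJE ⟨k, hk, hky⟩)), ← hii,
        inv_eq_of_mul_eq_one_right (h.D_sq d hd)]
      calc j * (j * d * j * d) = (j * j) * (d * j * d) := by group
        _ = d * j * d := by rw [hj2, one_mul]
    rw [hx', ← hky]
    rw [show (d * (y : G))⁻¹ * (d * ((y : G) * k * (y : G)⁻¹) * d⁻¹) * (d * (y : G))⁻¹⁻¹ = k by group]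
    exact hk
  refine ⟨S, D, E, I, n, ⟨hST.symm ▸ h.D_le, inf_le_left, h.D_sq, hEsq, hDEI, hDc, hEc, hqn, ?_, ?_,
    ?_, ?_, ?_, ?_, ?_⟩⟩
  · rw [hST, h.T_card, hDc]
  · rw [hST]; exact hcover
  · rw [hST]; exact fun i hi x hx => h.commute_I hi hx
  · rw [hST]; exact fun z hz hc => h.central_mem hz hc
  · rw [hST]
    intro x hx
    by_cases hxD : x ∈ D
    · rw [h.D_sq x hxD]; exact I.one_mem
    · exact h.mem_I (h.T_sq x hx) hx hxD (mul_assoc x x x)
  · intro x hx2 hx1
    have hp : IsPGroup 2 (Subgroup.zpowers x) := IsPGroup.of_card (n := 1) (by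
      rw [Nat.card_zpowers, pow_one]
      exact orderOf_eq_prime (by rw [pow_two]; exact hx2) hx1)
    obtain ⟨R, hR⟩ := hp.exists_le_sylow
    obtain ⟨g, rfl⟩ := MulAction.exists_smul_eq G S R
    have hmem := mem_smul_sylow.1 (hR (Subgroup.mem_zpowers x))
    rw [hST] at hmem
    obtain ⟨a, ha⟩ := hconjS _ hmem (by
      calc g⁻¹ * x * g * (g⁻¹ * x * g) = g⁻¹ * (x * x) * g := by group
        _ = 1 := by rw [hx2]; group)
      (fun e => hx1 (by
        calc x = g * (g⁻¹ * x * g) * g⁻¹ := by group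
          _ = 1 := by rw [e]; group))
    refine ⟨a * g⁻¹, ?_⟩
    rwa [show a * g⁻¹ * x * (a * g⁻¹)⁻¹ = a * (g⁻¹ * x * g) * a⁻¹ by group]
  · rcases h.cases with ⟨hn, h3 | h5⟩ | ⟨hn, h3, h5, -⟩
    · exact Or.inl ⟨hn, h3⟩
    · exfalso
      rw [hDc, hn] at h5
      norm_num at h5
    · exact Or.inr ⟨hn, h3, h5⟩

end CfsgLib.Recognition.OneToFive
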