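import Cfsg.Agent.Lib.Recognition.OneToFive.TwoConfig

/-!
The number of elements of order dividing four and the automiser of a Sylow two-subgroup.
-/

set_option autoImplicit false
set_option linter.style.haveILetI false

namespace CfsgLib.Recognition.OneToFive

universe u

variable {G : Type u} [Group G] [Finite G]

/-- Counting the elements distributed uniquely over the Sylow subgroups. -/
theorem card_sylow_fibre {p : ℕ} [Fact p.Prime] {Q : G → Prop} {A : Sylow p G → G → Prop} {c : ℕ}
    (huniq : ∀ R R' g, A R g → A R' g → R = R') (hex : ∀ g, Q g ↔ ∃ R, A R g)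
    (hc : ∀ R, Nat.card {g : G // A R g} = c) :
    Nat.card {g : G // Q g} = Nat.card (Sylow p G) * c := by
  classical
  haveI : Fintype (Sylow p G) := Fintype.ofFinite _
  have e : (Σ R : Sylow p G, {g : G // A R g}) ≃ {g : G // Q g} := by
    refine Equiv.ofBijective (fun s => ⟨s.2.1, (hex _).2 ⟨s.1, s.2.2⟩⟩) ⟨?_, ?_⟩
    · rintro ⟨R, g, hg⟩ ⟨R', g', hg'⟩ h
      have hgg : g = g' := congrArg Subtype.val h
      subst hgg
      obtain rfl := huniq R R' g hg hg'
      rfl
    · rintro ⟨g, hg⟩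
      obtain ⟨R, hR⟩ := (hex g).1 hg
      exact ⟨⟨R, g, hR⟩, rfl⟩
  rw [← Nat.card_congr e, Nat.card_sigma, Finset.sum_congr rfl (fun R _ => hc R), Finset.sum_const,
    Finset.card_univ, smul_eq_mul, Nat.card_eq_fintype_card (α := Sylow p G)]

theorem normalizer_index (P : Sylow 2 G) :
    Nat.card (Sylow 2 G) * (Nat.card (P : Subgroup G) *
      ((P : Subgroup G).subgroupOf (Subgroup.normalizer ((P : Subgroup G) : Set G))).index) = Nat.card G ∧
    ¬ 2 ∣ ((P : Subgroup G).subgroupOf (Subgroup.normalizer ((P : Subgroup G) : Set G))).index := by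
  haveI : Fact (Nat.Prime 2) := ⟨Nat.prime_two⟩
  set N := Subgroup.normalizer ((P : Subgroup G) : Set G) with hN
  set PN := (P : Subgroup G).subgroupOf N with hPN
  constructor
  · rw [P.card_eq_index_normalizer]
    have h1 : Nat.card PN = Nat.card (P : Subgroup G) :=
      Nat.card_congr (Subgroup.subgroupOfEquivOfLe Subgroup.le_normalizer).toEquiv
    rw [← h1, Subgroup.card_mul_index, mul_comm]
    exact Subgroup.card_mul_index N
  · intro hd
    have h1 : (P : Subgroup G).index = PN.index * N.index :=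
      (Subgroup.relIndex_mul_index (Subgroup.le_normalizer)).symm
    exact P.not_dvd_index' (by rw [Subgroup.relIndex]; exact Subgroup.index_ne_zero_of_finite)
      (h1 ▸ hd.mul_right _)

theorem conj_mem_normalizer {P : Sylow 2 G} {g : G}
    (h : ∀ x ∈ (P : Subgroup G), g * x * g⁻¹ ∈ (P : Subgroup G)) :
    g ∈ Subgroup.normalizer ((P : Subgroup G) : Set G) := by
  haveI : Fact (Nat.Prime 2) := ⟨Nat.prime_two⟩
  refine Sylow.smul_eq_iff_mem_normalizer.1 (Sylow.ext ((g • P : Sylow 2 G).3 P.isPGroup' fun x hx => ?_).symm)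
  have := h _ (mem_smul_sylow.1 hx)
  rwa [show g * (g⁻¹ * x * g) * g⁻¹ = x by group] at this

/-- Sylow two-subgroups meeting nontrivially. -/
theorem two_equation (hG : Small G) (hI : Ind G)
    (hT : ∀ K : Subgroup G, K.Normal → Group.IsSolvable K → K = ⊥)
    (hint : ∃ P R : Sylow 2 G, P ≠ R ∧ (P : Subgroup G) ⊓ (R : Subgroup G) ≠ ⊥) :
    ∃ S : Sylow 2 G,
      ((∃ u x : G, orderOf x = 3 ∧ u * x * u⁻¹ = x⁻¹) ∧ Nat.card (S : Subgroup G) = 8 ∧
        Nat.card (Sylow 2 G) * 8 = Nat.card G ∧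
        Nat.card {g : G // g ≠ 1 ∧ g ^ 4 = 1} = Nat.card (Sylow 2 G) * 3) ∨
      ((∃ u x : G, orderOf x = 3 ∧ u * x * u⁻¹ = x⁻¹) ∧ (∃ u x : G, orderOf x = 5 ∧ u * x * u⁻¹ = x⁻¹) ∧
        ∃ h, h ∈ [1, 3] ∧ Nat.card (S : Subgroup G) = 64 ∧
        Nat.card (Sylow 2 G) * (64 * h) = Nat.card G ∧
        Nat.card {g : G // g ≠ 1 ∧ g ^ 4 = 1} = Nat.card (Sylow 2 G) * 39) := by
  classical
  haveI : Fact (Nat.Prime 2) := ⟨Nat.prime_two⟩
  obtain ⟨S, D, E, I, n, h⟩ := exists_twoData hG hI hT hint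
  have hn : n = 2 ∨ n = 4 := by rcases h.cases with ⟨e, -⟩ | ⟨e, -⟩ <;> simp [e]
  have hIS : I ≤ (S : Subgroup G) := h.inf_eq ▸ inf_le_left.trans h.D_le
  have hID : I ≤ D := h.inf_eq ▸ inf_le_left
  have hcentI : ∀ i ∈ I, i ≠ 1 → Subgroup.centralizer ({i} : Set G) = (S : Subgroup G) := by
    intro i hi hi1
    refine S.3 (hG.pGroup_centralizer hi1 ⟨1, ?_⟩) fun x hx => ?_
    · rw [pow_one]
      exact orderOf_eq_prime (by rw [pow_two]; exact h.D_sq i (hID hi)) hi1
    · exact Subgroup.mem_centralizer_singleton_iff.2 (h.central i hi x hx).symm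
  -- central involutions determine the Sylow subgroup
  have hdet : ∀ (R : Sylow 2 G) (z : G), z * z = 1 → z ≠ 1 → z ∈ (R : Subgroup G) →
      (∀ y ∈ (R : Subgroup G), z * y = y * z) → Subgroup.centralizer ({z} : Set G) = (R : Subgroup G) := by
    intro R z hz2 hz1 hzR hc
    refine R.3 (hG.pGroup_centralizer hz1 ⟨1, ?_⟩) fun y hy =>
      Subgroup.mem_centralizer_singleton_iff.2 (hc y hy).symm
    rw [pow_one]
    exact orderOf_eq_prime (by rw [pow_two]; exact hz2) hz1
  have hsqc : ∀ (R : Sylow 2 G) (g : G), g ∈ (R : Subgroup G) → ∀ y ∈ (R : Subgroup G),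
      g * g * y = y * (g * g) := by
    intro R g hg y hy
    obtain ⟨a, rfl⟩ := MulAction.exists_smul_eq G S R
    rw [mem_smul_sylow] at hg hy
    have e := h.central _ (h.sq_mem _ hg) _ hy
    calc g * g * y = a * ((a⁻¹ * g * a) * (a⁻¹ * g * a) * (a⁻¹ * y * a)) * a⁻¹ := by group
      _ = _ := by rw [e]; group
  let A : Sylow 2 G → G → Prop := fun R g =>
    g ∈ (R : Subgroup G) ∧ g ≠ 1 ∧ (g * g = 1 → ∀ y ∈ (R : Subgroup G), g * y = y * g)
  have huniq : ∀ R R' g, A R g → A R' g → R = R' := by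
    intro R R' g hg hg'
    refine Sylow.ext ?_
    by_cases h2 : g * g = 1
    · rw [← hdet R g h2 hg.2.1 hg.1 (hg.2.2 h2), ← hdet R' g h2 hg'.2.1 hg'.1 (hg'.2.2 h2)]
    · have h4 : g * g * (g * g) = 1 := by
        have := hG.pow_four_of_mem R.isPGroup' hg.1
        rwa [pow_succ, pow_succ, pow_succ, pow_one, mul_assoc (g * g)] at this
      rw [← hdet R _ h4 h2 ((R : Subgroup G).mul_mem hg.1 hg.1) (hsqc R g hg.1),
        ← hdet R' _ h4 h2 ((R' : Subgroup G).mul_mem hg'.1 hg'.1) (hsqc R' g hg'.1)]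
  have hex : ∀ g : G, (g ≠ 1 ∧ g ^ 4 = 1) ↔ ∃ R, A R g := by
    intro g
    constructor
    · rintro ⟨hg1, hg4⟩
      by_cases h2 : g * g = 1
      · obtain ⟨a, ha⟩ := h.conj g h2 hg1
        refine ⟨a⁻¹ • S, mem_smul_sylow.2 (by rw [inv_inv]; exact hIS ha), hg1, fun _ y hy => ?_⟩
        rw [mem_smul_sylow, inv_inv] at hy
        have e := h.central _ ha _ hy
        calc g * y = a⁻¹ * ((a * g * a⁻¹) * (a * y * a⁻¹)) * a := by group
          _ = _ := by rw [e]; group
      · obtain ⟨k, hk, hk'⟩ := (Nat.dvd_prime_pow Nat.prime_two).1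
          (show orderOf g ∣ 2 ^ 2 from orderOf_dvd_of_pow_eq_one hg4)
        obtain ⟨R, hR⟩ := (IsPGroup.of_card (n := k) (by
          rw [Nat.card_zpowers, hk']) : IsPGroup 2 (Subgroup.zpowers g)).exists_le_sylow
        exact ⟨R, hR (Subgroup.mem_zpowers g), hg1, fun e => absurd e h2⟩
    · rintro ⟨R, hgR, hg1, -⟩
      exact ⟨hg1, hG.pow_four_of_mem R.isPGroup' hgR⟩
  have hS0 : Nat.card {g : G // A S g} + 2 * (n * n) + 1 = n * (n * n) + n + n := by
    have hset : {g : G | A S g} =
        ((S : Subgroup G) : Set G) \ ((D : Set G) ∪ E) ∪ ((I : Set G) \ {1}) := by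
      ext g
      simp only [Set.mem_setOf_eq, Set.mem_union, Set.mem_sdiff, SetLike.mem_coe, Set.mem_singleton_iff, A]
      constructor
      · rintro ⟨hgS, hg1, hc⟩
        by_cases h2 : g * g = 1
        · exact Or.inr ⟨h.center g hgS (hc h2), hg1⟩
        · refine Or.inl ⟨hgS, ?_⟩
          rintro (hd | he)
          · exact h2 (h.D_sq g hd)
          · exact h2 (h.E_sq g he)
      · rintro (⟨hgS, hn'⟩ | ⟨hgI, hg1⟩)
        · refine ⟨hgS, fun e => hn' (Or.inl (e ▸ D.one_mem)), fun h2 => absurd (h.cover g hgS h2) hn'⟩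
        · exact ⟨hIS hgI, hg1, fun _ => h.central g hgI⟩
    have hdisj : Disjoint (((S : Subgroup G) : Set G) \ ((D : Set G) ∪ E)) ((I : Set G) \ {1}) := by
      rw [Set.disjoint_left]
      rintro g ⟨-, hg⟩ ⟨hgI, -⟩
      exact hg (Or.inl (hID hgI))
    rw [← Set.coe_setOf, Nat.card_coe_set_eq, hset, Set.ncard_union_eq hdisj]
    have hsub : (D : Set G) ∪ E ⊆ ((S : Subgroup G) : Set G) := Set.union_subset h.D_le h.E_le
    have e1 := Set.ncard_sdiff_add_ncard_of_subset hsub (Set.toFinite _)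
    have e2 := Set.ncard_sdiff_singleton_add_one (show (1 : G) ∈ (I : Set G) from I.one_mem)
      (Set.toFinite _)
    have e3 := Set.ncard_union_add_ncard_inter (D : Set G) (E : Set G)
    rw [← Subgroup.coe_inf, h.inf_eq] at e3
    simp only [← Nat.card_coe_set_eq, SetLike.coe_sort_coe, h.S_card, h.D_card, h.E_card,
      h.I_card] at e1 e2 e3 ⊢
    omega
  have hAconst : ∀ R, Nat.card {g : G // A R g} = Nat.card {g : G // A S g} := by
    intro R
    obtain ⟨a, rfl⟩ := MulAction.exists_smul_eq G S R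
    refine Nat.card_congr ((MulAut.conj a⁻¹).toEquiv.subtypeEquiv fun g => ?_)
    show A (a • S) g ↔ A S (a⁻¹ * g * a⁻¹⁻¹)
    rw [inv_inv]
    simp only [A, mem_smul_sylow]
    refine and_congr_right fun _ => and_congr ?_ ?_
    · constructor
      · exact fun hg e => hg (by
          calc g = a * (a⁻¹ * g * a) * a⁻¹ := by group
            _ = 1 := by rw [e]; group)
      · exact fun hg e => hg (by rw [e]; group)
    · constructor
      · intro hc h2 y hy
        have h2' : g * g = 1 := by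
          calc g * g = a * ((a⁻¹ * g * a) * (a⁻¹ * g * a)) * a⁻¹ := by group
            _ = 1 := by rw [h2]; group
        have e := hc h2' (a * y * a⁻¹) (by rw [show a⁻¹ * (a * y * a⁻¹) * a = y by group]; exact hy)
        calc a⁻¹ * g * a * y = a⁻¹ * (g * (a * y * a⁻¹)) * a := by group
          _ = _ := by rw [e]; group
      · intro hc h2 y hy
        have h2' : a⁻¹ * g * a * (a⁻¹ * g * a) = 1 := by
          calc a⁻¹ * g * a * (a⁻¹ * g * a) = a⁻¹ * (g * g) * a := by group
            _ = 1 := by rw [h2]; group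
        have e := hc h2' _ hy
        calc g * y = a * ((a⁻¹ * g * a) * (a⁻¹ * y * a)) * a⁻¹ := by group
          _ = _ := by rw [e]; group
  have hN2 := card_sylow_fibre (p := 2) huniq hex hAconst
  obtain ⟨hcard, hodd⟩ := normalizer_index S
  set N := Subgroup.normalizer ((S : Subgroup G) : Set G) with hN
  set PN := (S : Subgroup G).subgroupOf N with hPN
  -- the index is at most `n - 1`
  have hh : PN.index ≤ n - 1 := by
    obtain ⟨w, hw, hw1⟩ : ∃ w ∈ I, w ≠ 1 := by
      refine (I.bot_or_exists_ne_one).resolve_left fun e => ?_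
      have := h.I_card
      rw [e, Subgroup.card_bot] at this
      omega
    have hmem : ∀ g : N, (g : G) * w * (g : G)⁻¹ ∈ I := by
      intro g
      have hgN := Subgroup.mem_normalizer_iff.1 g.2
      refine h.center _ ((hgN w).1 (hIS hw)) fun x hx => ?_
      have hx' : (g : G)⁻¹ * x * g ∈ (S : Subgroup G) :=
        (hgN _).2 (by rw [show (g : G) * ((g : G)⁻¹ * x * g) * (g : G)⁻¹ = x by group]; exact hx)
      have e := h.central w hw _ hx'
      calc (g : G) * w * (g : G)⁻¹ * x = g * (w * ((g : G)⁻¹ * x * g)) * (g : G)⁻¹ := by group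
        _ = _ := by rw [e]; group
    let f : N ⧸ PN → {i : I // i ≠ 1} := fun q =>
      ⟨⟨_, hmem q.out⟩, fun e => hw1 (conj_eq_one_iff.1 (congrArg Subtype.val e))⟩
    have hf : Function.Injective f := by
      intro q r hqr
      have e : (q.out : G) * w * (q.out : G)⁻¹ = r.out * w * (r.out : G)⁻¹ :=
        congrArg (fun z : {i : I // i ≠ 1} => ((z.1 : I) : G)) hqr
      rw [← QuotientGroup.out_eq' q, ← QuotientGroup.out_eq' r, QuotientGroup.eq]
      show ((q.out : G))⁻¹ * r.out ∈ (S : Subgroup G)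
      rw [← hcentI w hw hw1, Subgroup.mem_centralizer_singleton_iff]
      calc (q.out : G)⁻¹ * r.out * w = (q.out : G)⁻¹ * ((r.out : G) * w * (r.out : G)⁻¹) * r.out := by group
        _ = _ := by rw [← e]; group
    have hle := Nat.card_le_card_of_injective f hf
    haveI : Fintype I := Fintype.ofFinite _
    rwa [← Subgroup.index_eq_card, Nat.card_eq_fintype_card (α := {i : I // i ≠ 1}),
      Fintype.card_subtype_compl, Fintype.card_subtype_eq, ← Nat.card_eq_fintype_card, h.I_card] at hle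
  have hpos : 0 < PN.index := Nat.pos_of_ne_zero Subgroup.index_ne_zero_of_finite
  refine ⟨S, ?_⟩
  rcases h.cases with ⟨rfl, h3⟩ | ⟨rfl, h3, h5⟩
  · refine Or.inl ⟨h3, by rw [h.S_card], ?_, ?_⟩
    · rw [show PN.index = 1 by omega, h.S_card] at hcard
      simpa using hcard
    · rw [show Nat.card {g : G // A S g} = 3 by omega] at hN2
      exact hN2
  · refine Or.inr ⟨h3, h5, PN.index, ?_, by rw [h.S_card], ?_, ?_⟩
    · have : PN.index = 1 ∨ PN.index = 3 := by omega
      rcases this with e | e <;> simp [e]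
    · rw [h.S_card] at hcard
      exact hcard
    · rw [show Nat.card {g : G // A S g} = 39 by omega] at hN2
      exact hN2

/-- A group of order fifteen has an element of order fifteen. -/
theorem no_fifteen {Q : Type u} [Group Q] [Finite Q] (hQ : Small Q) (h15 : Nat.card Q = 15) : False := by
  classical
  have key : ∀ (p m : ℕ), p.Prime → p * m = 15 → p ≠ 2 → (∀ d, d ∣ m → d % p = 1 → d = 1) →
      Nat.card {g : Q // orderOf g = p} = p - 1 := by
    intro p m hp hpm hp2 hm
    haveI := Fact.mk hp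
    obtain ⟨P⟩ : Nonempty (Sylow p Q) := inferInstance
    have hPc : Nat.card (P : Subgroup Q) = p := by
      rw [P.card_eq_multiplicity, h15, ← hpm, Nat.factorization_mul hp.ne_zero
        (fun e => by rw [e] at hpm; simp at hpm), Finsupp.add_apply, hp.factorization_self,
        Nat.factorization_eq_zero_of_not_dvd (fun hd => by
          have := hm p hd
          have h1 : p * p ∣ 15 := hpm ▸ Nat.mul_dvd_mul_left p hd
          have := Nat.le_of_dvd (by norm_num) h1
          have := hp.two_le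
          have : p < 4 := by nlinarith
          interval_cases p <;> first | omega | norm_num at h1)]
      simp
    have hidx : (P : Subgroup Q).index = m := by
      have := (P : Subgroup Q).card_mul_index
      rw [hPc, h15, ← hpm] at this
      exact mul_left_cancel₀ hp.ne_zero this
    have hone : Nat.card (Sylow p Q) = 1 := hm _ (hidx ▸ P.card_dvd_index) (by
      have := card_sylow_modEq_one p Q
      unfold Nat.ModEq at this
      rwa [Nat.one_mod_eq_one.2 hp.ne_one] at this)
    haveI := (Nat.card_eq_one_iff_unique.1 hone).1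
    rw [card_orderOf_eq hQ hp2 (fun A B hAB => absurd (Subsingleton.elim A B) hAB) P, hone, hPc, one_mul]
  have h3 := key 3 5 Nat.prime_three (by norm_num) (by norm_num)
    (fun d hd he => by have := Nat.le_of_dvd (by norm_num) hd; interval_cases d <;> omega)
  have h5 := key 5 3 (by norm_num) (by norm_num) (by norm_num)
    (fun d hd he => by have := Nat.le_of_dvd (by norm_num) hd; interval_cases d <;> omega)
  have h4 : Nat.card {g : Q // g ≠ 1 ∧ g ^ 4 = 1} = 0 := by
    haveI : IsEmpty {g : Q // g ≠ 1 ∧ g ^ 4 = 1} := ⟨fun g => g.2.1 (orderOf_eq_one_iff.1 (Nat.dvd_one.1 (by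
      have := Nat.dvd_gcd (orderOf_dvd_of_pow_eq_one g.2.2) (h15 ▸ orderOf_dvd_natCard (g : Q))
      simpa using this)))⟩
    exact Nat.card_of_isEmpty
  have := card_split hQ
  rw [h15, h3, h4, h5] at this
  norm_num at this

/-- Sylow two-subgroups meeting trivially. -/
theorem two_equation_ti (hG : Small G)
    (hT : ∀ K : Subgroup G, K.Normal → Group.IsSolvable K → K = ⊥)
    (hTI : ∀ P R : Sylow 2 G, P ≠ R → (P : Subgroup G) ⊓ (R : Subgroup G) = ⊥)
    (h2 : 2 ∣ Nat.card G) (S : Sylow 2 G) :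
    ∃ h, h ∈ [1, 3] ∧ (h = 3 → Nat.card (S : Subgroup G) % 3 = 1) ∧
      Nat.card (Sylow 2 G) * (Nat.card (S : Subgroup G) * h) = Nat.card G ∧
      Nat.card {g : G // g ≠ 1 ∧ g ^ 4 = 1} =
        Nat.card (Sylow 2 G) * (Nat.card (S : Subgroup G) - 1) := by
  classical
  haveI : Fact (Nat.Prime 2) := ⟨Nat.prime_two⟩
  have hN2 : Nat.card {g : G // g ≠ 1 ∧ g ^ 4 = 1} =
      Nat.card (Sylow 2 G) * (Nat.card (S : Subgroup G) - 1) := by
    refine card_sylow_fibre (p := 2) (A := fun R g => g ∈ (R : Subgroup G) ∧ g ≠ 1) ?_ ?_ ?_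
    · intro R R' g hg hg'
      by_contra hne
      exact hg.2 (Subgroup.mem_bot.1 (hTI R R' hne ▸ ⟨hg.1, hg'.1⟩))
    · intro g
      constructor
      · rintro ⟨hg1, hg4⟩
        obtain ⟨k, hk, hk'⟩ := (Nat.dvd_prime_pow Nat.prime_two).1
          (show orderOf g ∣ 2 ^ 2 from orderOf_dvd_of_pow_eq_one hg4)
        obtain ⟨R, hR⟩ := (IsPGroup.of_card (n := k) (by
          rw [Nat.card_zpowers, hk']) : IsPGroup 2 (Subgroup.zpowers g)).exists_le_sylow
        exact ⟨R, hR (Subgroup.mem_zpowers g), hg1⟩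
      · rintro ⟨R, hgR, hg1⟩
        exact ⟨hg1, hG.pow_four_of_mem R.isPGroup' hgR⟩
    · intro R
      haveI : Fintype (R : Subgroup G) := Fintype.ofFinite _
      rw [← Nat.card_congr (Equiv.subtypeSubtypeEquivSubtypeInter (· ∈ (R : Subgroup G)) (· ≠ 1))]
      rw [show Nat.card (S : Subgroup G) = Nat.card (R : Subgroup G) from
        Nat.card_congr (Sylow.equiv S R).toEquiv]
      have : Nat.card {x : (R : Subgroup G) // x ≠ 1} = Nat.card (R : Subgroup G) - 1 := by
        rw [Nat.card_eq_fintype_card, Fintype.card_subtype_compl, Fintype.card_subtype_eq,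
          ← Nat.card_eq_fintype_card]
      rw [← this]
      exact Nat.card_congr (Equiv.subtypeEquivRight fun x => by
        rw [ne_eq, ne_eq, OneMemClass.coe_eq_one])
  have hsub : ∀ (R : Sylow 2 G) (t z : G), t ∈ (R : Subgroup G) → t ≠ 1 → z * t = t * z →
      z ∈ (R : Subgroup G) := fun R t z ht ht1 hc =>
    cent_le hG hTI R ht ht1 (Subgroup.mem_centralizer_singleton_iff.2 hc)
  have hout : ∀ (R : Sylow 2 G) (v : G), v ≠ 1 → ∃ g : G, g * v * g⁻¹ ∉ (R : Subgroup G) := by
    intro R v hv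
    by_contra hc
    push Not at hc
    exact hv (normal_le_bot hT R.isPGroup' hc)
  -- one class of involutions
  have hclass : ∀ t v : G, t * t = 1 → t ≠ 1 → v * v = 1 → v ≠ 1 → ∃ a : G, a * v * a⁻¹ = t := by
    intro t v ht ht1 hv hv1
    have step : ∀ (R : Sylow 2 G) (t v : G), t * t = 1 → t ≠ 1 → v * v = 1 → t ∈ (R : Subgroup G) →
        v ∉ (R : Subgroup G) → ∃ a : G, a * v * a⁻¹ = t := by
      intro R t v ht ht1 hv htR hvR
      by_contra hc
      push Not at hc
      obtain ⟨z, hz1, -, hzt, hzv⟩ := involutions_conj_or_commute ht hv hc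
      exact hvR (hsub R z v (hsub R t z htR ht1 hzt.eq) hz1 hzv.eq.symm)
    obtain ⟨R, hR⟩ := (IsPGroup.of_card (n := 1) (by
      rw [Nat.card_zpowers, pow_one]
      exact orderOf_eq_prime (by rw [pow_two]; exact ht) ht1) :
        IsPGroup 2 (Subgroup.zpowers t)).exists_le_sylow
    obtain ⟨g, hg⟩ := hout R v hv1
    obtain ⟨a, ha⟩ := step R t (g * v * g⁻¹) ht ht1 (by
      calc g * v * g⁻¹ * (g * v * g⁻¹) = g * (v * v) * g⁻¹ := by group
        _ = 1 := by rw [hv]; group) (hR (Subgroup.mem_zpowers t)) hg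
    exact ⟨a * g, by rw [← ha]; group⟩
  -- all involutions of `S` are central
  have hS1 : (S : Subgroup G) ≠ ⊥ := S.ne_bot_of_dvd_card h2
  haveI : Nontrivial (S : Subgroup G) := (Subgroup.nontrivial_iff_ne_bot _).2 hS1
  obtain ⟨z₀, hz₀S, hz₀2, hz₀1, hz₀c⟩ : ∃ z ∈ (S : Subgroup G), z * z = 1 ∧ z ≠ 1 ∧
      ∀ y ∈ (S : Subgroup G), z * y = y * z := by
    haveI := S.isPGroup'.center_nontrivial
    obtain ⟨z, hz⟩ := exists_prime_orderOf_dvd_card' (G := Subgroup.center (S : Subgroup G)) 2 (by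
      obtain ⟨k, hk, hc⟩ := (S.isPGroup'.to_subgroup
        (Subgroup.center (S : Subgroup G))).nontrivial_iff_card.1 inferInstance
      exact hc ▸ dvd_pow_self 2 hk.ne')
    refine ⟨_, (z : (S : Subgroup G)).2, ?_, fun e => ?_, fun y hy => ?_⟩
    · have : z * z = 1 := by have h0 := pow_orderOf_eq_one z; rwa [hz, pow_two] at h0
      exact congrArg (fun y : Subgroup.center (S : Subgroup G) => ((y : (S : Subgroup G)) : G)) this
    · have : z = 1 := Subtype.ext (Subtype.ext e)
      rw [this, orderOf_one] at hz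
      omega
    · exact (congrArg Subtype.val (Subgroup.mem_center_iff.1 z.2 ⟨y, hy⟩)).symm
  have hcentral : ∀ t ∈ (S : Subgroup G), t * t = 1 → ∀ y ∈ (S : Subgroup G), t * y = y * t := by
    intro t htS ht y hy
    by_cases ht1 : t = 1
    · rw [ht1, one_mul, mul_one]
    obtain ⟨a, rfl⟩ := hclass t z₀ ht ht1 hz₀2 hz₀1
    have haS : (a • S : Sylow 2 G) = S := by
      by_contra hne
      refine ht1 (Subgroup.mem_bot.1 (hTI _ _ hne ▸ ⟨mem_smul_sylow.2 ?_, htS⟩))
      rwa [show a⁻¹ * (a * z₀ * a⁻¹) * a = z₀ by group]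
    rw [← haS, mem_smul_sylow] at hy
    have e := hz₀c _ hy
    calc a * z₀ * a⁻¹ * y = a * (z₀ * (a⁻¹ * y * a)) * a⁻¹ := by group
      _ = _ := by rw [e]; group
  let K : Subgroup G :=
    { carrier := {x | x ∈ (S : Subgroup G) ∧ x * x = 1}
      one_mem' := ⟨one_mem _, one_mul 1⟩
      mul_mem' := fun {a b} ha hb => ⟨mul_mem ha.1 hb.1, by
        calc a * b * (a * b) = a * (b * a) * b := by group
          _ = (a * a) * (b * b) := by rw [hcentral b hb.1 hb.2 a ha.1]; group
          _ = 1 := by rw [ha.2, hb.2, one_mul]⟩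
      inv_mem' := fun {a} ha => ⟨inv_mem ha.1, by rw [← mul_inv_rev, ha.2, inv_one]⟩ }
  obtain ⟨m, hm⟩ := IsPGroup.iff_card.1 (S.isPGroup'.to_le (show K ≤ (S : Subgroup G) from fun x hx => hx.1))
  obtain ⟨hcard, hodd⟩ := normalizer_index S
  set N := Subgroup.normalizer ((S : Subgroup G) : Set G) with hN
  set PN := (S : Subgroup G).subgroupOf N with hPN
  haveI : PN.Normal := Subgroup.normal_in_normalizer
  have hNK : ∀ g : N, (g : G) * z₀ * (g : G)⁻¹ ∈ K := fun g =>
    ⟨(Subgroup.mem_normalizer_iff.1 g.2 z₀).1 hz₀S, by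
      calc (g : G) * z₀ * (g : G)⁻¹ * (g * z₀ * (g : G)⁻¹) = g * (z₀ * z₀) * (g : G)⁻¹ := by group
        _ = 1 := by rw [hz₀2]; group⟩
  let f : N ⧸ PN → {i : K // i ≠ 1} := fun q =>
    ⟨⟨_, hNK q.out⟩, fun e => hz₀1 (conj_eq_one_iff.1 (congrArg Subtype.val e))⟩
  have hf : Function.Bijective f := by
    constructor
    · intro q r hqr
      have e : (q.out : G) * z₀ * (q.out : G)⁻¹ = r.out * z₀ * (r.out : G)⁻¹ :=
        congrArg (fun z : {i : K // i ≠ 1} => ((z.1 : K) : G)) hqr
      rw [← QuotientGroup.out_eq' q, ← QuotientGroup.out_eq' r, QuotientGroup.eq]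
      show ((q.out : G))⁻¹ * r.out ∈ (S : Subgroup G)
      refine hsub S z₀ _ hz₀S hz₀1 ?_
      calc (q.out : G)⁻¹ * r.out * z₀ = (q.out : G)⁻¹ * ((r.out : G) * z₀ * (r.out : G)⁻¹) * r.out := by group
        _ = _ := by rw [← e]; group
    · rintro ⟨⟨v, hvS, hv2⟩, hv1⟩
      have hv1' : v ≠ 1 := fun e => hv1 (Subtype.ext e)
      obtain ⟨a, rfl⟩ := hclass v z₀ hv2 hv1' hz₀2 hz₀1
      have haS : (a • S : Sylow 2 G) = S := by
        by_contra hne
        refine hv1' (Subgroup.mem_bot.1 (hTI _ _ hne ▸ ⟨mem_smul_sylow.2 ?_, hvS⟩))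
        rwa [show a⁻¹ * (a * z₀ * a⁻¹) * a = z₀ by group]
      have haN : a ∈ N := Sylow.smul_eq_iff_mem_normalizer.1 haS
      refine ⟨QuotientGroup.mk ⟨a, haN⟩, ?_⟩
      obtain ⟨⟨s, hs⟩, hs'⟩ := QuotientGroup.mk_out_eq_mul PN (⟨a, haN⟩ : N)
      refine Subtype.ext (Subtype.ext ?_)
      show ((QuotientGroup.mk (⟨a, haN⟩ : N) : N ⧸ PN).out : G) * z₀ *
        ((QuotientGroup.mk (⟨a, haN⟩ : N) : N ⧸ PN).out : G)⁻¹ = a * z₀ * a⁻¹
      rw [hs']
      show a * (s : G) * z₀ * (a * (s : G))⁻¹ = a * z₀ * a⁻¹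
      rw [mul_assoc a (s : G), ← hz₀c _ (show (s : G) ∈ (S : Subgroup G) from hs)]
      group
  have hcardf : PN.index = Nat.card K - 1 := by
    haveI : Fintype K := Fintype.ofFinite _
    rw [Subgroup.index_eq_card, Nat.card_congr (Equiv.ofBijective f hf),
      Nat.card_eq_fintype_card (α := {i : K // i ≠ 1}), Fintype.card_subtype_compl,
      Fintype.card_subtype_eq, ← Nat.card_eq_fintype_card]
  -- subgroups of prime order acting semiregularly
  have hpart : ∀ r : ℕ, r.Prime → r ≠ 2 → PN.index.factorization r ≤ 1 ∧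
      (r ∣ PN.index → r ∣ Nat.card (S : Subgroup G) - 1) := by
    intro r hr hr2
    haveI := Fact.mk hr
    obtain ⟨L⟩ : Nonempty (Sylow r N) := inferInstance
    have hLp := L.isPGroup'.map N.subtype
    have hLN : (L : Subgroup N).map N.subtype ≤ N := Subgroup.map_subtype_le _
    have hLc : Nat.card ((L : Subgroup N).map N.subtype) = r ^ PN.index.factorization r := by
      rw [Subgroup.card_map_of_injective N.subtype_injective, L.card_eq_multiplicity,
        ← PN.card_mul_index, Nat.factorization_mul Nat.card_pos.ne'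
          Subgroup.index_ne_zero_of_finite, Finsupp.add_apply]
      rw [Nat.card_congr (Subgroup.subgroupOfEquivOfLe Subgroup.le_normalizer).toEquiv]
      obtain ⟨k, hk⟩ := IsPGroup.iff_card.1 S.isPGroup'
      rw [hk, Nat.prime_two.factorization_pow, Finsupp.single_apply, if_neg (Ne.symm hr2), zero_add]
    constructor
    · have h := hG.card_le_prime (p := 2) (r := r) (Ne.symm hr2) S.isPGroup' hS1
        (fun x hx => hG.pow_prime hr hr2 hLp hx) hLN
      rw [hLc] at h
      exact (Nat.pow_le_pow_iff_right hr.one_lt).1 (h.trans_eq (pow_one r).symm)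
    · intro hd
      have h := card_dvd_pred hG (Ne.symm hr2) S hLp hLN
      rw [hLc] at h
      refine (dvd_pow_self r ?_).trans h
      exact (hr.factorization_pos_of_dvd Subgroup.index_ne_zero_of_finite hd).ne'
  have h15 : PN.index ∣ 15 := by
    rw [← Nat.factorization_le_iff_dvd Subgroup.index_ne_zero_of_finite (by norm_num)]
    intro r
    by_cases hr : r.Prime
    · by_cases hd : r ∣ PN.index
      · have hdG : r ∣ Nat.card G := hcard ▸ (hd.mul_left _).mul_left _
        rcases hG.prime_mem hr hdG with rfl | rfl | rfl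
        · exact absurd hd hodd
        · exact (hpart 3 hr (by norm_num)).1.trans
            (hr.factorization_pos_of_dvd (by norm_num) (by norm_num))
        · exact (hpart 5 hr (by norm_num)).1.trans
            (hr.factorization_pos_of_dvd (by norm_num) (by norm_num))
      · rw [Nat.factorization_eq_zero_of_not_dvd hd]; exact Nat.zero_le _
    · rw [Nat.factorization_eq_zero_of_not_prime _ hr]; exact Nat.zero_le _
  have hne15 : PN.index ≠ 15 := fun e =>
    no_fifteen ((hG.subgroup N).quotient PN) (by rw [← Subgroup.index_eq_card, e])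
  have hle := Nat.le_of_dvd (by norm_num) h15
  have h13 : PN.index = 1 ∨ PN.index = 3 := by
    have hm5 : m ≤ 5 := by
      by_contra hc
      have : 2 ^ 6 ≤ 2 ^ m := Nat.pow_le_pow_right (by norm_num) (by omega)
      omega
    rw [hm] at hcardf
    generalize PN.index = k at hcardf h15 hne15 ⊢
    interval_cases m <;> norm_num at hcardf <;> subst hcardf <;> first | omega | norm_num at h15
  refine ⟨PN.index, by rcases h13 with e | e <;> simp [e], fun e => ?_, hcard, hN2⟩
  have h3 := (hpart 3 Nat.prime_three (by norm_num)).2 (by rw [e])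
  have := Nat.card_pos (α := (S : Subgroup G))
  omega

end CfsgLib.Recognition.OneToFive
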