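import Cfsg.Agent.Lib.Recognition.OneToFive.Sixty

/-!
The local subgroup at a largest intersection of two Sylow two-subgroups.
-/

set_option autoImplicit false
set_option linter.style.haveILetI false

namespace CfsgLib.Recognition.OneToFive

universe u

variable {G : Type u} [Group G] [Finite G]

/-- A subgroup acting without nontrivial fixed points. -/
theorem fpf_dvd (hG : Small G) {r : ℕ} [hr : Fact r.Prime] {X : Subgroup G} {g : G}
    (hg : orderOf g = r) (hgX : ∀ x ∈ X, g * x * g⁻¹ ∈ X)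
    (hfix : ∀ x ∈ X, Commute g x → x = 1) : r ∣ Nat.card X - 1 := by
  classical
  haveI : Fintype X := Fintype.ofFinite _
  let f : Function.End X := fun x => ⟨g * x * g⁻¹, hgX x x.2⟩
  have hfr : f ^ r ^ 1 = 1 := by
    have key : ∀ (n : ℕ) (x : X), ((f ^ n) x : G) = g ^ n * x * (g ^ n)⁻¹ := by
      intro n
      induction n with
      | zero => intro x; simp; rfl
      | succ n ih =>
        intro x
        rw [pow_succ']
        show g * ((f ^ n) x : G) * g⁻¹ = _
        rw [ih, pow_succ']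
        group
    funext x
    apply Subtype.ext
    rw [pow_one, key, ← hg, pow_orderOf_eq_one]
    simp
    rfl
  have hfixed : Function.fixedPoints f = {1} := by
    ext x
    refine ⟨fun hx => ?_, fun hx => ?_⟩
    · have : g * x * g⁻¹ = x := congrArg Subtype.val hx
      exact Subtype.ext (hfix x x.2 (mul_inv_eq_iff_eq_mul.1 this))
    · rw [Set.mem_singleton_iff] at hx
      subst hx
      exact Subtype.ext (by show g * ((1 : X) : G) * g⁻¹ = (1 : X); simp)
  have h := Equiv.Perm.card_fixedPoints_modEq (p := r) (n := 1) (f := f) hfr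
  rw [Fintype.card_congr (Equiv.setCongr hfixed), ← Nat.card_eq_fintype_card] at h
  simp only [Fintype.card_unique] at h
  exact (Nat.modEq_iff_dvd' Nat.card_pos).1 h.symm

/-- The facts about a local subgroup used in the fusion analysis. -/
structure LocalData (G : Type u) [Group G] (D T I : Subgroup G) (n : ℕ) : Prop where
  D_ne : D ≠ ⊥
  D_sq : ∀ d ∈ D, d * d = 1
  D_le : D ≤ T
  T_le : T ≤ Subgroup.normalizer (D : Set G)
  T_two : IsPGroup 2 T
  T_max : ∀ U : Subgroup G, IsPGroup 2 U → U ≤ Subgroup.normalizer (D : Set G) → T ≤ U → U = T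
  T_card : Nat.card T = n * Nat.card D
  T_sq : ∀ x ∈ T, x * x ∈ D
  I_card : Nat.card I ^ 2 = Nat.card D
  out : ∀ x ∈ T, x ∉ D → D ⊓ Subgroup.centralizer ({x} : Set G) = I
  onto : ∀ x ∈ T, x ∉ D → ∀ i ∈ I, ∃ d ∈ D, x * d * x⁻¹ * d = i
  conjs : ∃ m : Fin (n + 1) → G, (∀ j, m j ∈ Subgroup.normalizer (D : Set G)) ∧
    ∀ i j, T.map (MulAut.conj (m i)).toMonoidHom = T.map (MulAut.conj (m j)).toMonoidHom → i = j
  invol : ∃ t ∈ T, t ∉ D ∧ t * t = 1
  cases : (n = 2 ∧ ((∃ u x : G, orderOf x = 3 ∧ u * x * u⁻¹ = x⁻¹) ∨ 5 ∣ Nat.card D - 1)) ∨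
    (n = 4 ∧ (∃ u x : G, orderOf x = 3 ∧ u * x * u⁻¹ = x⁻¹) ∧
      (∃ u x : G, orderOf x = 5 ∧ u * x * u⁻¹ = x⁻¹) ∧ 3 ∣ Nat.card I - 1)

theorem orderOf_of_image {M : Type*} [Group M] [Finite M] (hM : Small M) (D : Subgroup M) [D.Normal]
    {g : M} {r : ℕ} (hr : r = 3 ∨ r = 4 ∨ r = 5) (hg : orderOf (g : M ⧸ D) = r) : orderOf g = r := by
  have h1 := orderOf_map_dvd (QuotientGroup.mk' D) g
  rw [show (QuotientGroup.mk' D) g = (g : M ⧸ D) from rfl, hg] at h1
  have h2 := hM g
  have h3 := orderOf_pos g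
  obtain ⟨k, hk⟩ := h1
  rcases k with _ | _ | k
  · omega
  · omega
  · exfalso
    have : r * (k + 2) = r * k + 2 * r := by ring
    rcases hr with rfl | rfl | rfl <;> omega

/-- Lifting an inversion modulo a subgroup without fixed points. -/
theorem lift_inversion {M : Type*} [Group M] [Finite M] (D : Subgroup M) [hD : D.Normal] {u s : M}
    (hrel : u * s * u⁻¹ * s ∈ D) (hcomm : ∀ a ∈ D, ∀ b ∈ D, a * b = b * a)
    (hfix : ∀ v ∈ D, s * v * s⁻¹ = v → v = 1) : ∃ w : M, w * s * w⁻¹ = s⁻¹ := by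
  let F : D → D := fun v => ⟨(v : M) * (s⁻¹ * (v : M)⁻¹ * s), D.mul_mem v.2 (by
    have := hD.conj_mem _ (D.inv_mem v.2) s⁻¹; rwa [inv_inv] at this)⟩
  have hinj : Function.Injective F := by
    intro a b hab
    have h1 : (a : M) * (s⁻¹ * (a : M)⁻¹ * s) = (b : M) * (s⁻¹ * (b : M)⁻¹ * s) :=
      congrArg Subtype.val hab
    have h2 : (b : M)⁻¹ * a = 1 := by
      refine hfix _ (D.mul_mem (D.inv_mem b.2) a.2) ?_
      have h3 : (b : M)⁻¹ * a = s⁻¹ * ((b : M)⁻¹ * a) * s := by
        calc (b : M)⁻¹ * a = (b : M)⁻¹ * ((a : M) * (s⁻¹ * (a : M)⁻¹ * s)) * (s⁻¹ * a * s) := by group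
          _ = _ := by rw [h1]; group
      calc s * ((b : M)⁻¹ * a) * s⁻¹ = s * (s⁻¹ * ((b : M)⁻¹ * a) * s) * s⁻¹ := by rw [← h3]
        _ = _ := by group
    exact Subtype.ext (inv_mul_eq_one.1 h2).symm
  obtain ⟨v, hv⟩ := Finite.injective_iff_surjective.1 hinj ⟨_, hrel⟩
  have hv' : (v : M) * (s⁻¹ * (v : M)⁻¹ * s) = u * s * u⁻¹ * s := congrArg Subtype.val hv
  refine ⟨(v : M)⁻¹ * u, ?_⟩
  calc (v : M)⁻¹ * u * s * ((v : M)⁻¹ * u)⁻¹ = (v : M)⁻¹ * (u * s * u⁻¹ * s) * s⁻¹ * v := by group
    _ = s⁻¹ := by rw [← hv']; group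

/-- A computation in an elementary two-group. -/
theorem four_sum {A : Type*} [CommGroup A] (sq : ∀ x : A, x * x = 1) {v a b c a' b' c' : A}
    (e1 : v * a' * (c * c') = 1) (e2 : v * b' * (a * a') = 1) (e3 : v * c' * (b * b') = 1) :
    c * a * (b * v) = 1 := by
  have hall : v * a' * (c * c') * (v * b' * (a * a')) * (v * c' * (b * b')) =
      (v * v) * (a' * a') * (b' * b') * (c' * c') * (c * a * (b * v)) := by
    ac_rfl
  rw [e1, e2, e3, sq v, sq a', sq b', sq c'] at hall
  simpa using hall.symm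

section Klein

variable {M : Type u} [Group M] [Finite M]

set_option maxHeartbeats 1000000 in
/-- The relation between the involutions of a four group normalised by an element of order three. -/
theorem four_relation (hM : Small M) (D : Subgroup M) [hDn : D.Normal] (hD : IsPGroup 2 D)
    (hsq : ∀ d ∈ D, d * d = 1) {a b r : M} (hab : (a : M ⧸ D) * b = b * a)
    (haa : (a : M ⧸ D) * a = 1) (hbb : (b : M ⧸ D) * b = 1)
    (hr : (r : M ⧸ D) * r * r = 1) (hr1 : (r : M ⧸ D) ≠ 1)
    (hra : (r : M ⧸ D) * a = b * r) (hrb : (r : M ⧸ D) * b = a * b * r) (hb1 : (b : M ⧸ D) ≠ 1) :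
    ∀ v ∈ D, a * (b * v * b⁻¹ * v) * a⁻¹ = b * v * b⁻¹ * v := by
  have hcomm : ∀ x ∈ D, ∀ y ∈ D, x * y = y * x := by
    intro x hx y hy
    calc x * y = (x * y)⁻¹ := (inv_eq_of_mul_eq_one_right (hsq _ (D.mul_mem hx hy))).symm
      _ = y * x := by rw [mul_inv_rev, inv_eq_of_mul_eq_one_right (hsq _ hy),
            inv_eq_of_mul_eq_one_right (hsq _ hx)]
  haveI : IsMulCommutative D := ⟨⟨fun x y => Subtype.ext (hcomm x x.2 y y.2)⟩⟩
  letI : CommGroup D := { (inferInstance : Group D) with mul_comm := (inferInstance : IsMulCommutative D).is_comm.comm }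
  let cj : M → D → D := fun g x => ⟨g * x * g⁻¹, hDn.conj_mem x x.2 g⟩
  have hmul : ∀ g x y, cj g (x * y) = cj g x * cj g y := fun g x y => Subtype.ext (by simp [cj, mul_assoc])
  have hcomp : ∀ g k x, cj g (cj k x) = cj (g * k) x := fun g k x => Subtype.ext (by simp [cj, mul_assoc])
  have hmod : ∀ (g k : M), (g : M ⧸ D) = k → ∀ x, cj g x = cj k x := by
    intro g k hgk x
    refine Subtype.ext ?_
    show g * (x : M) * g⁻¹ = k * x * k⁻¹
    have hd : k⁻¹ * g ∈ D := QuotientGroup.eq.1 hgk.symm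
    calc g * (x : M) * g⁻¹ = k * ((k⁻¹ * g) * x * (k⁻¹ * g)⁻¹) * k⁻¹ := by group
      _ = k * x * k⁻¹ := by rw [hcomm _ hd _ x.2, mul_inv_cancel_right]
  -- order three elements of the quotient act without fixed points
  have hnorm : ∀ g : M, orderOf (g : M ⧸ D) = 3 → ∀ x : D, x * cj g x * cj (g * g) x = 1 := by
    intro g hg x
    have hg3 := orderOf_of_image hM D (Or.inl rfl) hg
    have hgp : g ^ 3 = 1 := by rw [← hg3]; exact pow_orderOf_eq_one g
    by_contra hne
    set y := x * cj g x * cj (g * g) x with hy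
    have hfix : cj g y = y := by
      rw [hy, hmul, hmul, hcomp, hcomp, show g * (g * g) = 1 by rw [← hgp, pow_succ, pow_two]; group,
        show cj 1 x = x from Subtype.ext (by simp [cj])]
      rw [mul_comm, mul_assoc]
    refine hM.no_comm (a := g) (b := (y : M)) (fun e => ?_) (fun e => hne (Subtype.ext e))
      (mul_inv_eq_iff_eq_mul.1 (congrArg Subtype.val hfix)) ?_
    · rw [e, orderOf_one] at hg3; omega
    · rw [hg3]
      have : orderOf (y : M) ∣ 2 := orderOf_dvd_of_pow_eq_one (by rw [pow_two]; exact hsq _ y.2)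
      exact (show Nat.Coprime 3 2 by norm_num).coprime_dvd_right this
  have hord : ∀ x : M ⧸ D, x * x * x = 1 → x ≠ 1 → orderOf x = 3 := fun x h h1 =>
    orderOf_eq_prime (by rw [pow_succ, pow_two]; exact h) h1
  have hrc : (r : M ⧸ D) * (a * b) = a * r := by
    rw [← mul_assoc, hra, mul_assoc, hrb, ← mul_assoc, ← mul_assoc, ← hab, mul_assoc (a : M ⧸ D) b b,
      hbb, mul_one]
  -- the three elements `x r`
  have key : ∀ (x y z : M), (r : M ⧸ D) * x = y * r → (x : M ⧸ D) * y = z →
      (r : M ⧸ D) * (r * x) = z * (r * r) → (x : M ⧸ D) * y * z = 1 → (x : M ⧸ D) * x = 1 →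
      ∀ v : D, v * cj x (cj r v) * cj z (cj (r * r) v) = 1 := by
    intro x y z h1 h2 h3 h4 h5 v
    have e2 : ((x * r * (x * r) : M) : M ⧸ D) = ((z * (r * r) : M) : M ⧸ D) := by
      simp only [QuotientGroup.mk_mul]
      calc (x : M ⧸ D) * r * (x * r) = x * ((r : M ⧸ D) * x) * r := by group
        _ = z * (r * r) := by rw [h1, ← h2]; group
    have hxr3 : (x : M ⧸ D) * r * (x * r) * (x * r) = 1 := by
      calc (x : M ⧸ D) * r * (x * r) * (x * r)
          = x * ((r : M ⧸ D) * x) * ((r : M ⧸ D) * x) * r := by group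
        _ = x * (y * r) * ((r : M ⧸ D) * x) * r := by rw [← h1]
        _ = x * y * ((r : M ⧸ D) * (r * x)) * r := by group
        _ = 1 := by
          rw [h3]
          calc (x : M ⧸ D) * y * (z * (r * r)) * r = (x : M ⧸ D) * y * z * ((r : M ⧸ D) * r * r) := by group
            _ = 1 := by rw [h4, hr, one_mul]
    have hne : (x : M ⧸ D) * r ≠ 1 := by
      intro e
      apply hr1
      have : (r : M ⧸ D) = x := by rw [← mul_one (x : M ⧸ D), ← e, ← mul_assoc, h5, one_mul]
      rw [← one_mul (r : M ⧸ D), ← hr]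
      rw [this, h5, one_mul] at hr ⊢
      rw [hr, mul_one]
    have := hnorm (x * r) (hord _ hxr3 hne) v
    rwa [← hcomp, hmod (x * r * (x * r)) (z * (r * r)) e2, ← hcomp] at this
  have hr2 : ∀ v, cj (r * r) v = v * cj r v := by
    intro v
    have h := hnorm r (hord _ hr hr1) v
    rw [← inv_eq_of_mul_eq_one_right h]
    exact inv_eq_of_mul_eq_one_right (Subtype.ext (hsq _ (v * cj r v).2))
  have sq : ∀ v : D, v * v = 1 := fun v => Subtype.ext (hsq v v.2)
  intro v hv
  set w : D := cj r ⟨v, hv⟩ with hw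
  set v' : D := ⟨v, hv⟩ with hv'
  have habab : (a : M ⧸ D) * b * (a * b) = 1 := by
    rw [mul_assoc, ← mul_assoc (b : M ⧸ D), ← hab, mul_assoc, hbb, mul_one, haa]
  have e1 := key a b (a * b) hra rfl
    (by rw [← mul_assoc, mul_assoc, hra, ← mul_assoc, hrb, QuotientGroup.mk_mul]; group)
    (by rw [QuotientGroup.mk_mul]; exact habab) haa v'
  have e2 := key b (a * b) a (by rw [QuotientGroup.mk_mul]; exact hrb)
    (by rw [QuotientGroup.mk_mul, ← mul_assoc, ← hab, mul_assoc, hbb, mul_one])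
    (by rw [hrb, ← mul_assoc, hrc, mul_assoc])
    (by rw [QuotientGroup.mk_mul, ← mul_assoc, ← hab, mul_assoc (a : M ⧸ D), hbb, mul_one, haa])
    hbb v'
  have e3 := key (a * b) a b (by rw [QuotientGroup.mk_mul]; exact hrc)
    (by rw [QuotientGroup.mk_mul, hab, mul_assoc, haa, mul_one])
    (by rw [QuotientGroup.mk_mul, hrc, ← mul_assoc, hra, mul_assoc])
    (by rw [QuotientGroup.mk_mul, hab, mul_assoc (b : M ⧸ D), haa, mul_one, hbb])
    (by rw [QuotientGroup.mk_mul]; exact habab) v'
  rw [hr2, hmul, ← hw] at e1 e2 e3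
  have hfin : cj a (cj b v' * v') = cj b v' * v' := by
    rw [hmul, hcomp]
    have : cj (a * b) v' * cj a v' * (cj b v' * v') = 1 := four_sum sq e1 e2 e3
    rw [eq_inv_of_mul_eq_one_left this]
    exact inv_eq_of_mul_eq_one_right (sq _)
  exact congrArg Subtype.val hfin

end Klein

theorem Small.pow_four (hG : Small G) {g : G} (h : 2 ∣ orderOf g) : g ^ 4 = 1 := by
  apply orderOf_dvd_iff_pow_eq_one.1
  have h1 := hG g
  have h2 := orderOf_pos g
  obtain ⟨k, hk⟩ := h
  have : k = 1 ∨ k = 2 := by omega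
  rcases this with rfl | rfl <;> rw [hk] <;> norm_num

/-- The analysis of the local subgroup. -/
theorem exists_localData (hG : Small G) (hI : Ind G)
    (hT : ∀ K : Subgroup G, K.Normal → Group.IsSolvable K → K = ⊥)
    (hint : ∃ P R : Sylow 2 G, P ≠ R ∧ (P : Subgroup G) ⊓ (R : Subgroup G) ≠ ⊥) :
    ∃ D T I : Subgroup G, ∃ n, LocalData G D T I n := by
  classical
  obtain ⟨D, hD1, hDp, hMtop, h2syl, hmax⟩ := exists_local hT hint
  set M := Subgroup.normalizer (D : Set G) with hM
  have hSM : Small M := hG.subgroup M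
  set D' : Subgroup M := D.subgroupOf M with hD'
  haveI hDn : D'.Normal := Subgroup.normal_in_normalizer
  have hDle : D ≤ M := Subgroup.le_normalizer
  have hDm : IsPGroup 2 D' := hDp.comap_of_injective _ M.subtype_injective
  have hmapD : D'.map M.subtype = D := by rw [hD', Subgroup.subgroupOf_map_subtype, inf_eq_left.2 hDle]
  have hD1' : D' ≠ ⊥ := fun e => hD1 (by rw [← hmapD, e, Subgroup.map_bot])
  have hcardD : Nat.card D' = Nat.card D :=
    Nat.card_congr (Subgroup.subgroupOfEquivOfLe hDle).toEquiv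
  let π := QuotientGroup.mk' D'
  have hπ : ∀ {g : M}, π g = 1 ↔ g ∈ D' := fun {g} => QuotientGroup.eq_one_iff g
  have hfix : ∀ g : M, (orderOf g = 3 ∨ orderOf g = 5) → ∀ v ∈ D', g * v * g⁻¹ = v → v = 1 := by
    intro g hg v hv hgv
    by_contra hv1
    refine hSM.no_comm (fun e => ?_) hv1 (mul_inv_eq_iff_eq_mul.1 hgv) ?_
    · rw [e, orderOf_one] at hg; omega
    · obtain ⟨k, hk⟩ := IsPGroup.iff_orderOf.1 hDm ⟨v, hv⟩
      rw [← Subgroup.orderOf_coe] at hk
      rw [hk]
      rcases hg with h | h <;> rw [h]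
      · exact Nat.Coprime.pow_right k (by norm_num)
      · exact Nat.Coprime.pow_right k (by norm_num)
  have hlift4 : ∀ g : M, orderOf (π g) = 2 → ∀ v ∈ D', (g * v) ^ 4 = 1 := by
    intro g hg v hv
    refine hSM.pow_four ?_
    have h1 := orderOf_map_dvd π (g * v)
    rwa [map_mul, hπ.2 hv, mul_one, hg] at h1
  have hexpD : ∀ (u s : M) (r : ℕ), Odd r → orderOf s = r → (r = 3 ∨ r = 5) → orderOf (π u) = 2 →
      u * s * u⁻¹ * s ∈ D' → ∀ v ∈ D', v * v = 1 := by
    intro u s r hr hs hr' hu hrel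
    refine two_elementary _ M D' rfl hDm s u r hr (hs ▸ pow_orderOf_eq_one s)
      (hfix s (hs ▸ hr')) hrel (hπ.1 ?_) (hlift4 u hu)
    rw [map_mul, ← pow_two, ← hu]
    exact pow_orderOf_eq_one _
  -- the facts at an element of the Sylow subgroup outside `D`
  have hhalf : ∀ (u s : M) (r : ℕ), (r = 3 ∨ r = 5) → orderOf s = r → orderOf (π u) = 2 →
      u * s * u⁻¹ * s ∈ D' → (∀ v ∈ D', v * v = 1) →
      Nat.card ↥(D' ⊓ Subgroup.centralizer ({u} : Set M)) ^ 2 = Nat.card D' ∧
        ∀ a ∈ D' ⊓ Subgroup.centralizer ({u} : Set M), ∃ v ∈ D', a = u * v * u⁻¹ * v := by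
    intro u s r hr hs hu hrel hexp
    obtain ⟨h1, h2, -, -⟩ := half D' hexp (p := r) (by rcases hr with rfl | rfl <;> decide)
      (hs ▸ pow_orderOf_eq_one s) (hfix s (hs ▸ hr)) hrel (hπ.1 (by
        rw [map_mul, ← pow_two, ← hu]; exact pow_orderOf_eq_one _))
    exact ⟨h1, h2⟩
  -- packaging
  suffices h : ∃ (n : ℕ) (T : Sylow 2 M) (u : M), u ∈ (T : Subgroup M) ∧
      (∀ v ∈ D', v * v = 1) ∧
      Nat.card (T : Subgroup M) = n * Nat.card D' ∧
      (∀ x ∈ (T : Subgroup M), x * x ∈ D') ∧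
      Nat.card ↥(D' ⊓ Subgroup.centralizer ({u} : Set M)) ^ 2 = Nat.card D' ∧
      (∀ x ∈ (T : Subgroup M), x ∉ D' →
        D' ⊓ Subgroup.centralizer ({x} : Set M) = D' ⊓ Subgroup.centralizer ({u} : Set M) ∧
        ∀ a ∈ D' ⊓ Subgroup.centralizer ({x} : Set M), ∃ v ∈ D', a = x * v * x⁻¹ * v) ∧
      (∃ w x : M, (orderOf x = 3 ∨ orderOf x = 5) ∧ w * x * w⁻¹ = x⁻¹) ∧
      (∃ m : Fin (n + 1) → M, ∀ i j, (T : Subgroup M).map (MulAut.conj (m i)).toMonoidHom =
          (T : Subgroup M).map (MulAut.conj (m j)).toMonoidHom → i = j) ∧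
      ((n = 2 ∧ ((∃ w x : M, orderOf x = 3 ∧ w * x * w⁻¹ = x⁻¹) ∨ 5 ∣ Nat.card D' - 1)) ∨
        (n = 4 ∧ (∃ w x : M, orderOf x = 3 ∧ w * x * w⁻¹ = x⁻¹) ∧
          (∃ w x : M, orderOf x = 5 ∧ w * x * w⁻¹ = x⁻¹) ∧
          3 ∣ Nat.card ↥(D' ⊓ Subgroup.centralizer ({u} : Set M)) - 1)) by
    obtain ⟨n, T, u, -, hexp, hTc, hTsq, hIc, hout, ⟨w, x, hx35, hwx⟩, ⟨m, hm⟩, hcases⟩ := h
    have hsub : ∀ H : Subgroup M, Nat.card (H.map M.subtype) = Nat.card H := fun H =>
      Subgroup.card_map_of_injective M.subtype_injective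
    refine ⟨D, (T : Subgroup M).map M.subtype,
      (D' ⊓ Subgroup.centralizer ({u} : Set M)).map M.subtype, n, hD1, ?_, ?_, ?_, ?_, ?_, ?_, ?_, ?_,
      ?_, ?_, ?_, ?_, ?_⟩
    · intro d hd
      exact congrArg Subtype.val (hexp ⟨d, hDle hd⟩ hd)
    · intro d hd
      exact ⟨⟨d, hDle hd⟩, le_sylow_of_normal hDn hDm T hd, rfl⟩
    · exact Subgroup.map_subtype_le _
    · exact T.isPGroup'.map _
    · intro U hU hUM hle
      refine le_antisymm (fun x hx => ?_) hle
      have h1 := T.3 (hU.comap_of_injective M.subtype M.subtype_injective)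
        (fun t ht => hle ⟨t, ht, rfl⟩)
      exact ⟨⟨x, hUM hx⟩, h1 ▸ (show (⟨x, hUM hx⟩ : M) ∈ U.comap M.subtype from hx), rfl⟩
    · rw [hsub, hTc, hcardD]
    · rintro _ ⟨x, hx, rfl⟩
      exact hTsq x hx
    · rw [hsub, hIc, hcardD]
    · rintro _ ⟨x, hx, rfl⟩ hxD
      rw [← (hout x hx hxD).1]
      ext d
      simp only [Subgroup.mem_inf, Subgroup.mem_map, Subgroup.mem_centralizer_singleton_iff]
      constructor
      · rintro ⟨hd, hc⟩
        exact ⟨⟨d, hDle hd⟩, ⟨hd, Subtype.ext hc⟩, rfl⟩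
      · rintro ⟨e, ⟨he, hc⟩, rfl⟩
        exact ⟨he, congrArg Subtype.val hc⟩
    · rintro _ ⟨x, hx, rfl⟩ hxD _ ⟨a, ha, rfl⟩
      rw [← (hout x hx hxD).1] at ha
      obtain ⟨v, hv, rfl⟩ := (hout x hx hxD).2 a ha
      exact ⟨v, hv, rfl⟩
    · refine ⟨fun j => m j, fun j => (m j).2, fun i j hij => hm i j ?_⟩
      have key : ∀ g : M, ((T : Subgroup M).map (MulAut.conj g).toMonoidHom).map M.subtype =
          ((T : Subgroup M).map M.subtype).map (MulAut.conj (g : G)).toMonoidHom := fun g => by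
        rw [Subgroup.map_map, Subgroup.map_map]
        rfl
      exact Subgroup.map_injective M.subtype_injective (by rw [key, key]; exact hij)
    · -- an involution outside `D`
      have hx1 : x ≠ 1 := by
        intro e
        rcases hx35 with h | h <;> rw [e, orderOf_one] at h <;> omega
      have hnc : ¬ Commute w x := by
        intro hc
        have h2 : x ^ 2 = 1 := by
          have : x = x⁻¹ := by rw [← hwx, hc.eq, mul_inv_cancel_right]
          rw [pow_two]; nth_rewrite 2 [this]; exact mul_inv_cancel x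
        have := orderOf_dvd_of_pow_eq_one h2
        rcases hx35 with h | h <;> rw [h] at this <;> norm_num at this
      have hc2 : Commute (w * w) x := by
        refine mul_inv_eq_iff_eq_mul.1 ?_
        calc w * w * x * (w * w)⁻¹ = w * (w * x * w⁻¹) * w⁻¹ := by group
          _ = x := by rw [hwx, ← conj_inv, hwx, inv_inv]
      have hw2 : w * w = 1 := by
        by_contra hne
        have hev : 2 ∣ orderOf w := by
          by_contra hodd
          apply hnc
          obtain ⟨k, hk⟩ : Odd (orderOf w) := Nat.odd_iff.2 (by omega)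
          have : w = (w * w) ^ (k + 1) := by
            rw [← pow_two, ← pow_mul, show 2 * (k + 1) = orderOf w + 1 by omega, pow_succ,
              pow_orderOf_eq_one, one_mul]
          rw [this]; exact hc2.pow_left _
        have h4 : (w * w) * (w * w) = 1 := by
          have := hSM.pow_four hev
          rwa [pow_succ, pow_succ, pow_succ, pow_one, mul_assoc (w * w)] at this
        refine hSM.no_comm hne hx1 hc2 ?_
        rw [orderOf_eq_prime (p := 2) (by rw [pow_two]; exact h4) hne]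
        rcases hx35 with h | h <;> rw [h] <;> norm_num
      have hwD : w ∉ D' := by
        intro hwD
        have hmem : x * x ∈ D' := by
          have h := D'.mul_mem hwD (hDn.conj_mem _ (D'.inv_mem hwD) x⁻¹)
          have e : w * (x⁻¹ * w⁻¹ * x⁻¹⁻¹) = x * x := by
            calc w * (x⁻¹ * w⁻¹ * x⁻¹⁻¹) = (w * x * w⁻¹)⁻¹ * x := by group
              _ = x * x := by rw [hwx, inv_inv]
          rwa [e] at h
        have h2 := orderOf_dvd_of_pow_eq_one (show x ^ 4 = 1 by
          rw [show (4 : ℕ) = 2 * 2 from rfl, pow_mul, pow_two, pow_two]; exact hexp _ hmem)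
        rcases hx35 with h | h <;> rw [h] at h2 <;> norm_num at h2
      haveI : Fact (Nat.Prime 2) := ⟨Nat.prime_two⟩
      have hp : IsPGroup 2 (Subgroup.zpowers w) := IsPGroup.of_card (n := 1) (by
        rw [Nat.card_zpowers, pow_one]
        exact orderOf_eq_prime (by rw [pow_two]; exact hw2) (fun e => hwD (e ▸ D'.one_mem)))
      obtain ⟨T', hT'⟩ := hp.exists_le_sylow
      obtain ⟨g, rfl⟩ := MulAction.exists_smul_eq M T T'
      have hmem := hT' (Subgroup.mem_zpowers w)
      rw [Sylow.coe_subgroup_smul] at hmem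
      obtain ⟨t, ht, hte⟩ := hmem
      have hte' : g * t * g⁻¹ = w := hte
      refine ⟨t, ⟨t, ht, rfl⟩, fun h => hwD (hte' ▸ hDn.conj_mem t h g), congrArg Subtype.val
        (show t * t = 1 from (conj_eq_one_iff (a := g)).1 ?_)⟩
      calc g * (t * t) * g⁻¹ = g * t * g⁻¹ * (g * t * g⁻¹) := by group
        _ = 1 := by rw [hte', hw2]
    · have lift : ∀ r, (∃ w x : M, orderOf x = r ∧ w * x * w⁻¹ = x⁻¹) →
          ∃ w x : G, orderOf x = r ∧ w * x * w⁻¹ = x⁻¹ := by
        rintro r ⟨w, x, h1, h2⟩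
        exact ⟨w, x, by rw [Subgroup.orderOf_coe]; exact h1, congrArg Subtype.val h2⟩
      rw [hsub, ← hcardD]
      rcases hcases with ⟨h, h'⟩ | ⟨h, h3, h5, hI3⟩
      · exact Or.inl ⟨h, h'.imp (lift 3) id⟩
      · exact Or.inr ⟨h, lift 3 h3, lift 5 h5, hI3⟩
  by_cases hsol : Group.IsSolvable M
  · -- the soluble case
    obtain ⟨q, F, hq, hq2, hFn, hFc, -, -, h2d, hrest⟩ := solvable_shape hSM hsol D' hDm hD1' hmax h2syl
    obtain ⟨hCF, hdvd⟩ := hrest hq2
    haveI := hFn
    haveI := Fact.mk hq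
    have hq35 : q = 3 ∨ q = 5 := by
      have hd : q ∣ Nat.card M := (hFc ▸ Subgroup.card_subgroup_dvd_card F).trans
        (Subgroup.card_quotient_dvd_card _)
      rcases hSM.prime_mem hq hd with h | h | h <;> omega
    obtain ⟨s, hs⟩ : ∃ s : M, orderOf s = q := exists_prime_orderOf_dvd_card' q
      ((hFc ▸ Subgroup.card_subgroup_dvd_card F).trans (Subgroup.card_quotient_dvd_card _))
    have hsbar : π s ≠ 1 := by
      intro e
      obtain ⟨k, hk⟩ := IsPGroup.iff_orderOf.1 hDm ⟨s, hπ.1 e⟩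
      rw [← Subgroup.orderOf_coe, hs] at hk
      rcases hq35 with h | h <;> rw [h] at hk <;> rcases k with _ | k
      all_goals first
        | (simp at hk; done)
        | (rw [pow_succ] at hk; omega)
    have hsF : π s ∈ F := by
      by_contra hsF
      have h1 : orderOf (QuotientGroup.mk' F (π s)) ∣ q := by
        rw [← hs]; exact (orderOf_map_dvd _ _).trans (orderOf_map_dvd π s)
      rcases (Nat.dvd_prime hq).1 h1 with h | h
      · exact hsF ((QuotientGroup.eq_one_iff _).1 (orderOf_eq_one_iff.1 h))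
      · have h2 := orderOf_dvd_natCard (QuotientGroup.mk' F (π s))
        rw [h, ← Subgroup.index_eq_card] at h2
        have h3 := Subgroup.card_mul_index F
        rw [hFc] at h3
        have h4 : F.index ∣ q - 1 :=
          Nat.dvd_of_mul_dvd_mul_left hq.pos (h3 ▸ hdvd)
        have := Nat.le_of_dvd (by have := hq.two_le; omega) (h2.trans h4)
        omega
    have hpow : ∀ f ∈ F, ∃ k, k < q ∧ f = π s ^ k := by
      intro f hf
      have hcard : Nat.card (Subgroup.zpowers (π s)) = q := by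
        rw [Nat.card_zpowers]
        exact orderOf_eq_prime (by rw [← map_pow, ← hs, pow_orderOf_eq_one, map_one]) hsbar
      have heq := Subgroup.eq_of_le_of_card_ge (Subgroup.zpowers_le.2 hsF) (by rw [hcard, hFc])
      rw [← heq, mem_zpowers_iff_mem_range_orderOf, Finset.mem_image] at hf
      obtain ⟨k, hk, rfl⟩ := hf
      refine ⟨k, ?_, rfl⟩
      rw [← Nat.card_zpowers, hcard] at hk
      exact Finset.mem_range.1 hk
    have hcs : ∀ g : M ⧸ D', g * π s = π s * g → g ∈ F := by
      intro g hg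
      rw [← hCF, Subgroup.mem_centralizer_iff]
      intro f hf
      obtain ⟨k, -, rfl⟩ := hpow f hf
      exact ((Commute.symm hg).pow_left k)
    have hinvol : ∀ u : M, orderOf (π u) = 2 → u * s * u⁻¹ * s ∈ D' := by
      intro u hu
      rw [← hπ, map_mul, map_mul, map_mul, map_inv]
      have hu2 : π u * π u = 1 := by rw [← pow_two, ← hu]; exact pow_orderOf_eq_one _
      have hmem : π u * π s * (π u)⁻¹ ∈ F := hFn.conj_mem _ hsF _
      obtain ⟨k, -, hk⟩ := hpow _ hmem
      by_contra hne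
      have hfix : π u * (π u * π s * (π u)⁻¹ * π s) = π u * π s * (π u)⁻¹ * π s * π u := by
        have hc : π s * (π u * π s * (π u)⁻¹) = π u * π s * (π u)⁻¹ * π s := by
          rw [hk]; exact ((Commute.refl (π s)).pow_right k).eq
        calc π u * (π u * π s * (π u)⁻¹ * π s) = (π u * π u) * (π s * (π u * (π u * π u)⁻¹) * π s) := by group
          _ = π s * (π u * π s * (π u)⁻¹) * π u := by rw [hu2]; group
          _ = _ := by rw [hc]
      have hwF := F.mul_mem hmem hsF
      obtain ⟨i, hi, hw⟩ := hpow _ hwF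
      have hi0 : i ≠ 0 := fun e => hne (by rw [hw, e, pow_zero])
      rw [hw] at hfix
      have hgen : ∃ j, (π s ^ i) ^ j = π s := by
        refine exists_pow_eq_self_of_coprime ?_
        rw [orderOf_eq_prime (p := q) (by rw [← map_pow]; nth_rewrite 1 [← hs]; rw [pow_orderOf_eq_one, map_one]) hsbar]
        exact (hq.coprime_iff_not_dvd.2 (Nat.not_dvd_of_pos_of_lt (Nat.pos_of_ne_zero hi0) hi)).symm
      obtain ⟨j, hj⟩ := hgen
      have huF : π u ∈ F := hcs _ (by rw [← hj]; exact (Commute.pow_right hfix j).eq)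
      have := F.orderOf_dvd_natCard huF
      rw [hu, hFc] at this
      rcases hq35 with h | h <;> omega
    obtain ⟨ub, hub⟩ := exists_prime_orderOf_dvd_card' (G := M ⧸ D') 2 h2d
    obtain ⟨u, rfl⟩ := QuotientGroup.mk'_surjective D' ub
    have hrel := hinvol u hub
    have hexp := hexpD u s q (by rcases hq35 with rfl | rfl <;> decide) hs hq35 hub hrel
    have hidx : Nat.card (M ⧸ D') = 2 * q := by
      have h3 := Subgroup.card_mul_index F
      rw [hFc] at h3
      have h4 : F.index ∣ q - 1 := Nat.dvd_of_mul_dvd_mul_left hq.pos (h3 ▸ hdvd)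
      have h5 : 2 ∣ F.index := by
        rw [← h3] at h2d
        rcases (Nat.prime_two.dvd_mul).1 h2d with h | h
        · rcases hq35 with h' | h' <;> omega
        · exact h
      suffices F.index = 2 by rw [← h3, this, mul_comm]
      rcases hq35 with rfl | rfl
      · have := Nat.le_of_dvd (by norm_num) h4
        have h50 := h3
        have h51 : 0 < F.index := Nat.pos_of_ne_zero Subgroup.index_ne_zero_of_finite
        omega
      · have hle := Nat.le_of_dvd (by norm_num) h4
        by_contra hne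
        have h51 : 0 < F.index := Nat.pos_of_ne_zero Subgroup.index_ne_zero_of_finite
        have h6 : F.index = 4 := by omega
        exfalso
        -- an element of order four
        obtain ⟨gb, hgb⟩ : ∃ g : M ⧸ D', orderOf g = 4 := by
          have h20 : Nat.card (M ⧸ D') = 20 := by rw [← h3, h6]
          haveI : Fact (Nat.Prime 2) := ⟨Nat.prime_two⟩
          obtain ⟨S⟩ : Nonempty (Sylow 2 (M ⧸ D')) := inferInstance
          have hS4 : Nat.card (S : Subgroup (M ⧸ D')) = 4 := by
            rw [S.card_eq_multiplicity, h20, show (20 : ℕ) = 2 ^ 2 * 5 from rfl,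
              Nat.factorization_mul (by norm_num) (by norm_num), Finsupp.add_apply,
              Nat.prime_two.factorization_pow, Finsupp.single_eq_same,
              Nat.factorization_eq_zero_of_not_dvd (by norm_num)]
            norm_num
          let act : (S : Subgroup (M ⧸ D')) →* MulAut F :=
            (MulAut.conjNormal : M ⧸ D' →* MulAut F).comp (S : Subgroup (M ⧸ D')).subtype
          have hinj : Function.Injective act := by
            rw [injective_iff_map_eq_one]
            intro x hx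
            have hxF : (x : M ⧸ D') ∈ F := hcs _ (by
              have := congrArg Subtype.val (DFunLike.congr_fun hx ⟨π s, hsF⟩)
              simp [act] at this
              exact mul_inv_eq_iff_eq_mul.1 this)
            have h1 := F.orderOf_dvd_natCard hxF
            have h2 := (S : Subgroup (M ⧸ D')).orderOf_dvd_natCard x.2
            rw [hFc] at h1
            rw [hS4] at h2
            have h7 := Nat.dvd_gcd h1 h2
            exact Subtype.ext (orderOf_eq_one_iff.1 (Nat.dvd_one.1 h7))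
          haveI : IsCyclic F := isCyclic_of_prime_card hFc
          haveI : IsCyclic (MulAut F) := by
            have e := IsCyclic.mulAutMulEquiv F
            rw [hFc] at e
            exact isCyclic_of_surjective e.symm e.symm.surjective
          haveI := isCyclic_of_injective act hinj
          obtain ⟨g, hg⟩ := IsCyclic.exists_ofOrder_eq_natCard (α := (S : Subgroup (M ⧸ D')))
          exact ⟨g, by rw [Subgroup.orderOf_coe, hg, hS4]⟩
        obtain ⟨g, rfl⟩ := QuotientGroup.mk'_surjective D' gb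
        have hg2 : orderOf (π (g * g)) = 2 := by
          rw [map_mul, ← pow_two, orderOf_pow' _ (by norm_num : (2 : ℕ) ≠ 0)]
          change orderOf ((QuotientGroup.mk' D') g) / Nat.gcd (orderOf ((QuotientGroup.mk' D') g)) 2 = 2
          rw [hgb]
          norm_num
        have hrel2 := hinvol _ hg2
        obtain ⟨k, hk5, hk⟩ := hpow _ (hFn.conj_mem _ hsF (π g))
        have hk2 : ∀ j, π g * π s ^ j * (π g)⁻¹ = π s ^ (k * j) := fun j => by
          rw [← conj_pow, hk, ← pow_mul]
        have hinv2 : π s ^ (k * k) * π s = 1 := by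
          have e := hπ.2 hrel2
          rw [map_mul, map_mul, map_mul, map_inv, map_mul] at e
          rw [← hk2, ← hk, ← e]; group
        have hos : orderOf (π s) = 5 :=
          orderOf_eq_prime (by rw [← map_pow, ← hs, pow_orderOf_eq_one, map_one]) hsbar
        have hkk : 5 ∣ k * k + 1 := by
          rw [← hos]; exact orderOf_dvd_of_pow_eq_one (by rw [pow_succ]; exact hinv2)
        -- choose the element acting as squaring
        obtain ⟨w, hw4, hwrel, hw2⟩ : ∃ w : M, orderOf (π w) = 4 ∧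
            w * s * w⁻¹ * (s * s)⁻¹ ∈ D' ∧ w * w * s * (w * w)⁻¹ * s ∈ D' := by
          have hk23 : k = 2 ∨ k = 3 := by
            interval_cases k <;> omega
          rcases hk23 with rfl | rfl
          · refine ⟨g, hgb, ?_, hrel2⟩
            rw [← hπ, map_mul, map_mul, map_mul, map_inv, map_inv, map_mul, hk, pow_two, mul_inv_cancel]
          · refine ⟨g⁻¹, by rw [map_inv, orderOf_inv]; exact hgb, ?_, ?_⟩
            · rw [← hπ]
              simp only [map_mul, map_inv, inv_inv]
              have e := hk2 2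
              rw [show π s ^ (3 * 2) = π s by
                rw [show 3 * 2 = 5 + 1 by norm_num, pow_succ]
                nth_rewrite 1 [← hos]
                rw [pow_orderOf_eq_one, one_mul], pow_two] at e
              rw [mul_inv_eq_one]
              calc (π g)⁻¹ * π s * π g = (π g)⁻¹ * (π g * (π s * π s) * (π g)⁻¹) * π g := by rw [e]
                _ = π s * π s := by group
            · refine hinvol (g⁻¹ * g⁻¹) ?_
              rw [← mul_inv_rev, map_inv, orderOf_inv]
              exact hg2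
        have hw4' := orderOf_of_image hSM D' (Or.inr (Or.inl rfl)) hw4
        refine no_four D' hD1' hexp (σ := s) (s := w) (hs ▸ pow_orderOf_eq_one s)
          (hfix s (Or.inr hs)) hwrel ?_ hw2 (fun v hv => ?_)
        · have := pow_orderOf_eq_one w
          rw [hw4', pow_succ, pow_succ, pow_succ, pow_one, mul_assoc (w * w)] at this
          exact this
        · refine hSM.pow_four ?_
          have h1 := orderOf_map_dvd π (w * v)
          rw [map_mul, hπ.2 hv, mul_one, hw4] at h1
          exact (show 2 ∣ 4 by norm_num).trans h1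
    haveI : Fact (Nat.Prime 2) := ⟨Nat.prime_two⟩
    have hubar : π u ≠ 1 := fun e => by rw [e, orderOf_one] at hub; omega
    have hu2 : π u * π u = 1 := by rw [← pow_two, ← hub]; exact pow_orderOf_eq_one _
    set U : Subgroup M := (Subgroup.zpowers (π u)).comap π with hU
    have hUp : IsPGroup 2 U :=
      (IsPGroup.of_card (n := 1) (by rw [Nat.card_zpowers, hub, pow_one])).comap_of_ker_isPGroup _
        (by rwa [QuotientGroup.ker_mk'])
    obtain ⟨T, hUT⟩ := hUp.exists_le_sylow
    have hTcard : Nat.card (T : Subgroup M) = 2 * Nat.card D' := by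
      rw [T.card_eq_multiplicity]
      obtain ⟨e, he⟩ := IsPGroup.iff_card.1 hDm
      have hMc : Nat.card M = 2 ^ (e + 1) * q := by
        rw [Subgroup.card_eq_card_quotient_mul_card_subgroup D', hidx, he]; ring
      rw [hMc, Nat.factorization_mul (by positivity) hq.ne_zero, Finsupp.add_apply,
        Nat.prime_two.factorization_pow, Finsupp.single_eq_same,
        Nat.factorization_eq_zero_of_not_dvd
          (fun h => hq2 ((Nat.prime_dvd_prime_iff_eq Nat.prime_two hq).1 h).symm), he, add_zero]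
      ring
    have huT : u ∈ (T : Subgroup M) := hUT (Subgroup.mem_zpowers (π u))
    have hTU : (T : Subgroup M) = U := by
      refine (Subgroup.eq_of_le_of_card_ge hUT ?_).symm
      rw [hTcard]
      have h1 := Subgroup.card_mul_index (π.comp U.subtype).ker
      rw [Subgroup.index_ker, MonoidHom.range_comp, Subgroup.range_subtype, hU,
        Subgroup.map_comap_eq_self_of_surjective (QuotientGroup.mk'_surjective D'), Nat.card_zpowers,
        hub] at h1
      have h2 : Nat.card D' ≤ Nat.card (π.comp U.subtype).ker := by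
        refine Nat.card_le_card_of_injective (fun d => ⟨⟨d, ?_⟩, hπ.2 d.2⟩) (fun a b h => ?_)
        · show π d ∈ Subgroup.zpowers (π u)
          rw [hπ.2 d.2]; exact one_mem _
        · exact Subtype.ext (congrArg (fun z : (π.comp U.subtype).ker => ((z : U) : M)) h)
      rw [hU]
      rw [hU] at h2; nlinarith [h1, h2, hTcard]
    have hcases' : ∀ x ∈ (T : Subgroup M), π x = 1 ∨ π x = π u := by
      intro x hx
      rw [hTU] at hx
      obtain ⟨k, hk⟩ := Subgroup.mem_zpowers_iff.1 (show π x ∈ Subgroup.zpowers (π u) from hx)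
      rcases Int.even_or_odd k with ⟨i, rfl⟩ | ⟨i, rfl⟩
      · left; rw [← hk, ← two_mul, zpow_mul, zpow_two, hu2, one_zpow]
      · right; rw [← hk, zpow_add_one, zpow_mul, zpow_two, hu2, one_zpow, one_mul]
    obtain ⟨hIc, -⟩ := hhalf u s q hq35 hs hub hrel hexp
    have hcomm : ∀ a ∈ D', ∀ b ∈ D', a * b = b * a := by
      intro a ha b hb
      calc a * b = (a * b)⁻¹ := (inv_eq_of_mul_eq_one_right (hexp _ (D'.mul_mem ha hb))).symm
        _ = b * a := by rw [mul_inv_rev, inv_eq_of_mul_eq_one_right (hexp _ hb),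
              inv_eq_of_mul_eq_one_right (hexp _ ha)]
    refine ⟨2, T, u, huT, hexp, hTcard, ?_, hIc, ?_,
      (lift_inversion D' hrel hcomm (hfix s (hs ▸ hq35))).elim (fun w hw => ⟨w, s, hs ▸ hq35, hw⟩), ⟨fun j => s ^ (j : ℕ), ?_⟩, Or.inl ⟨rfl, ?_⟩⟩
    · intro x hx
      rw [← hπ, map_mul]
      rcases hcases' x hx with h | h <;> rw [h]
      · exact one_mul 1
      · exact hu2
    · intro x hx hxD
      have hxu : π x = π u := (hcases' x hx).resolve_left fun h => hxD (hπ.1 h)
      refine ⟨?_, (hhalf x s q hq35 hs (hxu ▸ hub) (hinvol x (hxu ▸ hub)) hexp).2⟩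
      have hd : u⁻¹ * x ∈ D' := hπ.1 (by rw [map_mul, map_inv, hxu, inv_mul_cancel])
      ext d
      simp only [Subgroup.mem_inf, Subgroup.mem_centralizer_singleton_iff]
      refine and_congr_right fun hdD => ?_
      have e : x = u * (u⁻¹ * x) := (mul_inv_cancel_left u x).symm
      have hc := hcomm _ hd _ hdD
      constructor
      · intro h
        calc d * u = d * x * (u⁻¹ * x)⁻¹ := by group
          _ = x * (d * (u⁻¹ * x)⁻¹) := by rw [h]; group
          _ = u * ((u⁻¹ * x) * d) * (u⁻¹ * x)⁻¹ := by group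
          _ = u * d := by rw [hc]; group
      · intro h
        calc d * x = (d * u) * (u⁻¹ * x) := by group
          _ = u * (d * (u⁻¹ * x)) := by rw [h, mul_assoc]
          _ = x * d := by rw [← hc]; group
    · intro i j hij
      -- distinct conjugates of `T`
      have key : ∀ k : ℕ, π (s ^ k * u * (s ^ k)⁻¹) = π s ^ (2 * k) * π u := by
        intro k
        have e := hπ.2 hrel
        rw [map_mul, map_mul, map_mul, map_inv] at e
        have e' : π u * π s * (π u)⁻¹ = (π s)⁻¹ := eq_inv_of_mul_eq_one_left e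
        have e'' : π u * π s ^ k * (π u)⁻¹ = ((π s) ^ k)⁻¹ := by rw [← conj_pow, e', inv_pow]
        rw [map_mul, map_mul, map_inv, map_pow]
        calc π s ^ k * π u * (π s ^ k)⁻¹ = π s ^ k * ((π u * π s ^ k * (π u)⁻¹)⁻¹ * π u) := by group
          _ = _ := by rw [e'', inv_inv, ← mul_assoc, ← pow_add, two_mul]
      have hmem : (s ^ (i : ℕ) * u * (s ^ (i : ℕ))⁻¹) ∈
          (T : Subgroup M).map (MulAut.conj (s ^ (j : ℕ))).toMonoidHom := by
        rw [← hij]; exact ⟨u, huT, rfl⟩
      obtain ⟨t, ht, hte⟩ := hmem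
      have h2 := congrArg π hte
      change π (s ^ (j : ℕ) * t * (s ^ (j : ℕ))⁻¹) = _ at h2
      rw [key] at h2
      rcases hcases' t ht with h | h
      · exfalso
        rw [map_mul, map_mul, h, mul_one, map_inv, mul_inv_cancel] at h2
        apply hubar
        have h3 : π u = (π s ^ (2 * (i : ℕ)))⁻¹ := eq_inv_of_mul_eq_one_right h2.symm
        have h4 := hcs (π u) (by rw [h3]; exact ((Commute.refl (π s)).pow_left _).inv_left.eq)
        have h5 := F.orderOf_dvd_natCard h4
        rw [hub, hFc] at h5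
        rcases hq35 with h' | h' <;> omega
      · rw [map_mul, map_mul, h, map_inv] at h2
        have h2' : π (s ^ (j : ℕ) * u * (s ^ (j : ℕ))⁻¹) = π s ^ (2 * (i : ℕ)) * π u := by
          rw [map_mul, map_mul, map_inv]; exact h2
        rw [key] at h2'
        have h3 := mul_right_cancel h2'
        have hos : orderOf (π s) = q :=
          orderOf_eq_prime (by rw [← map_pow, ← hs, pow_orderOf_eq_one, map_one]) hsbar
        rw [pow_eq_pow_iff_modEq, hos] at h3
        have hi := i.isLt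
        have hj := j.isLt
        unfold Nat.ModEq at h3
        apply Fin.ext
        rcases hq35 with rfl | rfl <;> omega
    · rcases hq35 with rfl | rfl
      · exact Or.inl ((lift_inversion D' hrel hcomm (hfix s (Or.inl hs))).imp fun w hw => ⟨s, hs, hw⟩)
      · right
        haveI : Fact (Nat.Prime 5) := ⟨by norm_num⟩
        exact fpf_dvd hSM hs (fun x hx => hDn.conj_mem x hx s)
          (fun x hx hc => hfix s (Or.inr hs) x hx (by rw [hc.eq, mul_inv_cancel_right]))
  · -- the nonsolvable case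
    obtain ⟨R, hRn, hR2, hRmax, hR⟩ := hI M (card_lt_of_ne_top hMtop) hSM hsol
    have hRD : R = D' := le_antisymm (hmax R hRn hR2) (hRmax D' hDn (solvable_of_pGroup hDm))
    have h60 : D'.index = 60 := by
      rcases hR with h | ⟨h, -⟩
      · rwa [hRD] at h
      · exact absurd (hRD ▸ h) hD1'
    obtain ⟨φ⟩ := iso_A5 hI (Q := M ⧸ D')
      ((Nat.le_of_dvd Nat.card_pos (Subgroup.card_quotient_dvd_card _)).trans
        (card_lt_of_ne_top hMtop).le) (hSM.quotient D') ((Subgroup.index_eq_card D').symm.trans h60)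
      (by
        intro K hK hKs
        have hKc : Group.IsSolvable (K.comap π) := by
          haveI := solvable_of_pGroup hDm
          haveI := hKs
          exact solvable_of_ker_le_range
            (Subgroup.inclusion (show D' ≤ K.comap π from fun d hd => by
              show π d ∈ K
              rw [hπ.2 hd]; exact one_mem K)) (π.subgroupComap K)
            (fun x hx => ⟨⟨x, hπ.1 (congrArg Subtype.val hx)⟩, rfl⟩)
        have hle := hRmax (K.comap π) (hK.comap π) hKc
        rw [hRD] at hle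
        refine le_bot_iff.1 fun x hx => ?_
        obtain ⟨g, rfl⟩ := QuotientGroup.mk'_surjective D' x
        exact Subgroup.mem_bot.2 (hπ.2 (hle hx)))
    let ψ : M →* FiveFacts.A5 := φ.toMonoidHom.comp π
    have hψ : ∀ {g : M}, ψ g = 1 ↔ g ∈ D' := fun {g} => by
      rw [← hπ]; exact φ.map_eq_one_iff
    have hψs : Function.Surjective ψ := φ.surjective.comp (QuotientGroup.mk'_surjective D')
    have hψπ : ∀ g : M, orderOf (ψ g) = orderOf (π g) := fun g => φ.orderOf_eq (π g)
    have hord : ∀ (g : FiveFacts.A5) (r : ℕ), r.Prime → g ^ r = 1 → g ≠ 1 → orderOf g = r :=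
      fun g r hr h h1 => haveI := Fact.mk hr; orderOf_eq_prime h h1
    have hlift3 : ∀ g : M, ψ g * ψ g * ψ g = 1 → ψ g ≠ 1 → orderOf g = 3 := fun g h h1 =>
      orderOf_of_image hSM D' (Or.inl rfl)
        ((hψπ g).symm.trans (hord _ 3 Nat.prime_three (by rw [pow_succ, pow_two]; exact h) h1))
    have hlift5 : ∀ g : M, ψ g * ψ g * (ψ g * ψ g) * ψ g = 1 → ψ g ≠ 1 → orderOf g = 5 :=
      fun g h h1 => orderOf_of_image hSM D' (Or.inr (Or.inr rfl))
        ((hψπ g).symm.trans (hord _ 5 (by norm_num) (by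
          rw [← h, pow_succ, pow_succ, pow_succ, pow_succ, pow_one]; group) h1))
    have hinv : ∀ u : M, ψ u * ψ u = 1 → ψ u ≠ 1 → orderOf (π u) = 2 ∧
        (∃ s, orderOf s = 3 ∧ u * s * u⁻¹ * s ∈ D') ∧ (∃ s, orderOf s = 5 ∧ u * s * u⁻¹ * s ∈ D') := by
      intro u h h1
      refine ⟨(hψπ u).symm.trans (hord _ 2 Nat.prime_two (by rw [pow_two]; exact h) h1), ?_, ?_⟩
      · obtain ⟨s', hs', hs1, hs⟩ := FiveFacts.inv_three _ h h1
        obtain ⟨s, rfl⟩ := hψs s'
        refine ⟨s, hlift3 s hs' hs1, hψ.1 ?_⟩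
        rw [map_mul, map_mul, map_mul, map_inv, inv_eq_of_mul_eq_one_right h]
        exact hs
      · obtain ⟨s', hs', hs1, hs⟩ := FiveFacts.inv_five _ h h1
        obtain ⟨s, rfl⟩ := hψs s'
        refine ⟨s, hlift5 s hs' hs1, hψ.1 ?_⟩
        rw [map_mul, map_mul, map_mul, map_inv, inv_eq_of_mul_eq_one_right h]
        exact hs
    haveI : Fact (Nat.Prime 2) := ⟨Nat.prime_two⟩
    obtain ⟨u₀, hu₀⟩ := hψs (FiveFacts.inv 0)
    obtain ⟨hπu, ⟨s₃, hs₃, hrel₃⟩, ⟨s₅, hs₅, hrel₅⟩⟩ :=
      hinv u₀ (by rw [hu₀]; exact (FiveFacts.inv_spec 0).1) (by rw [hu₀]; exact (FiveFacts.inv_spec 0).2.1)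
    have hexp := hexpD u₀ s₃ 3 (by decide) hs₃ (Or.inl rfl) hπu hrel₃
    have hcomm : ∀ a ∈ D', ∀ b ∈ D', a * b = b * a := by
      intro a ha b hb
      calc a * b = (a * b)⁻¹ := (inv_eq_of_mul_eq_one_right (hexp _ (D'.mul_mem ha hb))).symm
        _ = b * a := by rw [mul_inv_rev, inv_eq_of_mul_eq_one_right (hexp _ hb),
              inv_eq_of_mul_eq_one_right (hexp _ ha)]
    set U : Subgroup M := (Subgroup.zpowers (π u₀)).comap π with hU
    have hUp : IsPGroup 2 U :=
      (IsPGroup.of_card (n := 1) (by rw [Nat.card_zpowers, hπu, pow_one])).comap_of_ker_isPGroup _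
        (by rwa [QuotientGroup.ker_mk'])
    obtain ⟨T, hUT⟩ := hUp.exists_le_sylow
    have huT : u₀ ∈ (T : Subgroup M) := hUT (Subgroup.mem_zpowers (π u₀))
    have hTcard : Nat.card (T : Subgroup M) = 4 * Nat.card D' := by
      rw [T.card_eq_multiplicity]
      obtain ⟨e, he⟩ := IsPGroup.iff_card.1 hDm
      have hMc : Nat.card M = 2 ^ (e + 2) * 15 := by
        rw [← D'.card_mul_index, h60, he]; ring
      rw [hMc, Nat.factorization_mul (by positivity) (by norm_num), Finsupp.add_apply,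
        Nat.prime_two.factorization_pow, Finsupp.single_eq_same,
        Nat.factorization_eq_zero_of_not_dvd (by norm_num), he, add_zero]
      ring
    have himg : Nat.card ((T : Subgroup M).map ψ) = 4 := by
      have hker : (ψ.comp (T : Subgroup M).subtype).ker = D'.subgroupOf (T : Subgroup M) := by
        ext x; exact hψ
      have h1 := Subgroup.card_mul_index (ψ.comp (T : Subgroup M).subtype).ker
      rw [Subgroup.index_ker, MonoidHom.range_comp, Subgroup.range_subtype, hker,
        Nat.card_congr (Subgroup.subgroupOfEquivOfLe (le_sylow_of_normal hDn hDm T)).toEquiv,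
        hTcard, mul_comm (4 : ℕ)] at h1
      exact mul_left_cancel₀ Nat.card_pos.ne' h1
    have hsq : ∀ x ∈ (T : Subgroup M), ψ x * ψ x = 1 := by
      intro x hx
      refine FiveFacts.sq_of_four _ ?_
      have h1 := ((T : Subgroup M).map ψ).orderOf_dvd_natCard ⟨x, hx, rfl⟩
      rw [himg] at h1
      have h2 := orderOf_dvd_iff_pow_eq_one.1 h1
      rwa [pow_succ, pow_succ, pow_succ, pow_one, mul_assoc (ψ x * ψ x)] at h2
    have hTc : ∀ x ∈ (T : Subgroup M), ∀ y ∈ (T : Subgroup M), ψ x * ψ y = ψ y * ψ x := by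
      intro x hx y hy
      have := hsq _ ((T : Subgroup M).mul_mem hx hy)
      rw [map_mul] at this
      calc ψ x * ψ y = (ψ x * ψ y)⁻¹ := (inv_eq_of_mul_eq_one_right this).symm
        _ = ψ y * ψ x := by rw [mul_inv_rev, inv_eq_of_mul_eq_one_right (hsq y hy),
              inv_eq_of_mul_eq_one_right (hsq x hx)]
    have hfacts : ∀ x ∈ (T : Subgroup M), x ∉ D' →
        Nat.card ↥(D' ⊓ Subgroup.centralizer ({x} : Set M)) ^ 2 = Nat.card D' ∧
          ∀ a ∈ D' ⊓ Subgroup.centralizer ({x} : Set M), ∃ v ∈ D', a = x * v * x⁻¹ * v := by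
      intro x hx hxD
      obtain ⟨h2, ⟨s, hs, hrel⟩, -⟩ := hinv x (hsq x hx) (fun e => hxD (hψ.1 e))
      exact hhalf x s 3 (Or.inl rfl) hs h2 hrel hexp
    -- all elements outside `D'` have the same fixed points
    have hsame : ∀ x ∈ (T : Subgroup M), x ∉ D' → ∀ y ∈ (T : Subgroup M), y ∉ D' →
        D' ⊓ Subgroup.centralizer ({x} : Set M) ≤ D' ⊓ Subgroup.centralizer ({y} : Set M) := by
      intro x hx hxD y hy hyD a ha
      refine ⟨ha.1, Subgroup.mem_centralizer_singleton_iff.2 ?_⟩
      obtain ⟨v, hv, rfl⟩ := (hfacts x hx hxD).2 a ha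
      by_cases hxy : ψ y = ψ x
      · have hd : x⁻¹ * y ∈ D' := hψ.1 (by rw [map_mul, map_inv, hxy, inv_mul_cancel])
        have hax : (x * v * x⁻¹ * v) * x = x * (x * v * x⁻¹ * v) :=
          Subgroup.mem_centralizer_singleton_iff.1 ha.2
        calc (x * v * x⁻¹ * v) * y = (x * v * x⁻¹ * v) * x * (x⁻¹ * y) := by group
          _ = x * ((x * v * x⁻¹ * v) * (x⁻¹ * y)) := by rw [hax, mul_assoc]
          _ = x * ((x⁻¹ * y) * (x * v * x⁻¹ * v)) := by rw [hcomm _ ha.1 _ hd]
          _ = y * (x * v * x⁻¹ * v) := by group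
      · have hy1 : ψ y ≠ 1 := fun e => hyD (hψ.1 e)
        have hx1 : ψ x ≠ 1 := fun e => hxD (hψ.1 e)
        obtain ⟨r', hr, hr1, hra, hrb⟩ := FiveFacts.rot (ψ y) (hsq y hy) hy1 (ψ x) (hsq x hx) hx1
          (Ne.symm hxy) (hTc y hy x hx)
        obtain ⟨r, rfl⟩ := hψs r'
        have key : ∀ {g k : M}, ψ g = ψ k → π g = π k := fun h => φ.injective h
        have hone : ∀ {g : M}, ψ g = 1 → π g = 1 := fun h => hπ.2 (hψ.1 h)
        have h := four_relation hSM D' hDm hexp (a := y) (b := x) (r := r)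
          (by rw [← QuotientGroup.mk_mul, ← QuotientGroup.mk_mul]
              exact key (by rw [map_mul, map_mul]; exact hTc y hy x hx))
          (by rw [← QuotientGroup.mk_mul]; exact hone (by rw [map_mul]; exact hsq y hy))
          (by rw [← QuotientGroup.mk_mul]; exact hone (by rw [map_mul]; exact hsq x hx))
          (by rw [← QuotientGroup.mk_mul, ← QuotientGroup.mk_mul]
              exact hone (by rw [map_mul, map_mul]; exact hr))
          (fun e => hr1 (hψ.2 (hπ.1 e)))
          (by rw [← QuotientGroup.mk_mul, ← QuotientGroup.mk_mul]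
              exact key (by rw [map_mul, map_mul]; exact hra))
          (by simp only [← QuotientGroup.mk_mul]
              exact key (by rw [map_mul, map_mul, map_mul]; exact hrb))
          (fun e => hx1 (hψ.2 (hπ.1 e))) v hv
        exact (mul_inv_eq_iff_eq_mul.1 h).symm
    have hIc := (hfacts u₀ huT (fun h => (FiveFacts.inv_spec 0).2.1 (hu₀ ▸ hψ.2 h))).1
    refine ⟨4, T, u₀, huT, hexp, hTcard, fun x hx => hψ.1 (by rw [map_mul]; exact hsq x hx), hIc,
      fun x hx hxD => ⟨le_antisymm (hsame x hx hxD u₀ huT (fun h => (FiveFacts.inv_spec 0).2.1 (hu₀ ▸ hψ.2 h)))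
        (hsame u₀ huT (fun h => (FiveFacts.inv_spec 0).2.1 (hu₀ ▸ hψ.2 h)) x hx hxD), (hfacts x hx hxD).2⟩,
      (lift_inversion D' hrel₃ hcomm (hfix s₃ (Or.inl hs₃))).elim (fun w hw => ⟨w, s₃, Or.inl hs₃, hw⟩),
      ?_, Or.inr ⟨rfl, ?_, ?_, ?_⟩⟩
    · -- five conjugates
      have hex : ∀ j : Fin 5, ∃ m w : M, w ∈ (T : Subgroup M).map (MulAut.conj m).toMonoidHom ∧
          ψ w = FiveFacts.inv j := by
        intro j
        obtain ⟨w, hw⟩ := hψs (FiveFacts.inv j)
        have hp : IsPGroup 2 ((Subgroup.zpowers (π w)).comap π) :=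
          (IsPGroup.of_card (n := 1) (by
            rw [Nat.card_zpowers, ← hψπ, hw, pow_one]
            exact hord _ 2 Nat.prime_two (by rw [pow_two]; exact (FiveFacts.inv_spec j).1)
              (FiveFacts.inv_spec j).2.1)).comap_of_ker_isPGroup _ (by rwa [QuotientGroup.ker_mk'])
        obtain ⟨Tj, hTj⟩ := hp.exists_le_sylow
        obtain ⟨m, rfl⟩ := MulAction.exists_smul_eq M T Tj
        refine ⟨m, w, ?_, hw⟩
        have := hTj (Subgroup.mem_zpowers (π w) : w ∈ (Subgroup.zpowers (π w)).comap π)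
        rw [Sylow.coe_subgroup_smul] at this
        exact this
      choose m w hw hψw using hex
      refine ⟨m, fun i j hij => (FiveFacts.inv_spec i).2.2 j ?_⟩
      obtain ⟨t, ht, hte⟩ := hw i
      obtain ⟨t', ht', hte'⟩ : w j ∈ (T : Subgroup M).map (MulAut.conj (m i)).toMonoidHom := hij ▸ hw j
      rw [← hψw i, ← hψw j, ← hte, ← hte']
      change ψ (m i * t * (m i)⁻¹) * ψ (m i * t' * (m i)⁻¹) =
        ψ (m i * t' * (m i)⁻¹) * ψ (m i * t * (m i)⁻¹)
      simp only [map_mul, map_inv]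
      calc ψ (m i) * ψ t * (ψ (m i))⁻¹ * (ψ (m i) * ψ t' * (ψ (m i))⁻¹)
          = ψ (m i) * (ψ t * ψ t') * (ψ (m i))⁻¹ := by group
        _ = _ := by rw [hTc t ht t' ht']; group
    · obtain ⟨w, hw⟩ := lift_inversion D' hrel₃ hcomm (hfix s₃ (Or.inl hs₃))
      exact ⟨w, s₃, hs₃, hw⟩
    · obtain ⟨w, hw⟩ := lift_inversion D' hrel₅ hcomm (hfix s₅ (Or.inr hs₅))
      exact ⟨w, s₅, hs₅, hw⟩
    · -- an element of order three permuting the coset classes
      obtain ⟨x₁, hx₁T, hx₁⟩ : ∃ x ∈ (T : Subgroup M), ψ x ≠ 1 ∧ ψ x ≠ ψ u₀ := by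
        by_contra hc
        push Not at hc
        have hsub : ((T : Subgroup M).map ψ : Set FiveFacts.A5) ⊆ {1, ψ u₀} := by
          rintro _ ⟨x, hx, rfl⟩
          by_cases h : ψ x = 1
          · exact Or.inl h
          · exact Or.inr (hc x hx h)
        have h1 := Set.ncard_le_ncard hsub (Set.toFinite _)
        rw [← Nat.card_coe_set_eq] at h1
        have h2 : Set.ncard ({1, ψ u₀} : Set FiveFacts.A5) ≤ 2 :=
          (Set.ncard_insert_le _ _).trans (by rw [Set.ncard_singleton])
        change Nat.card ↥((T : Subgroup M).map ψ) ≤ _ at h1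
        omega
      have hu1 : ψ u₀ ≠ 1 := by rw [hu₀]; exact (FiveFacts.inv_spec 0).2.1
      obtain ⟨r', hr, hr1, hra, hrb⟩ := FiveFacts.rot (ψ u₀) (hsq _ huT) hu1 (ψ x₁) (hsq _ hx₁T)
        hx₁.1 hx₁.2 (hTc _ huT _ hx₁T)
      obtain ⟨r, rfl⟩ := hψs r'
      have hr3 := hlift3 r hr hr1
      haveI : Fact (Nat.Prime 3) := ⟨Nat.prime_three⟩
      refine fpf_dvd hSM hr3 (fun v hv => ?_)
        (fun v hv hc => hfix r (Or.inl hr3) v hv.1 (by rw [hc.eq, mul_inv_cancel_right]))
      have hv' : v ∈ D' ⊓ Subgroup.centralizer ({u₀} : Set M) := hv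
      have hu₀D : u₀ ∉ D' := fun h => hu1 (hψ.2 h)
      have hx₁D : x₁ ∉ D' := fun h => hx₁.1 (hψ.2 h)
      refine hsame x₁ hx₁T hx₁D u₀ huT hu₀D ⟨hDn.conj_mem v hv'.1 r,
        Subgroup.mem_centralizer_singleton_iff.2 ?_⟩
      -- `r u₀ r⁻¹` and `x₁` agree modulo `D'`
      have hd : x₁⁻¹ * (r * u₀ * r⁻¹) ∈ D' := hψ.1 (by
        rw [map_mul, map_mul, map_mul, map_inv, map_inv, hra, mul_inv_cancel_right, inv_mul_cancel])
      have hvu := Subgroup.mem_centralizer_singleton_iff.1 hv'.2
      have hc : r * v * r⁻¹ * (r * u₀ * r⁻¹) = r * u₀ * r⁻¹ * (r * v * r⁻¹) := by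
        calc r * v * r⁻¹ * (r * u₀ * r⁻¹) = r * (v * u₀) * r⁻¹ := by group
          _ = _ := by rw [hvu]; group
      calc r * v * r⁻¹ * x₁
          = r * v * r⁻¹ * (r * u₀ * r⁻¹) * (x₁⁻¹ * (r * u₀ * r⁻¹))⁻¹ := by group
        _ = r * u₀ * r⁻¹ * ((r * v * r⁻¹) * (x₁⁻¹ * (r * u₀ * r⁻¹))⁻¹) := by rw [hc, mul_assoc]
        _ = r * u₀ * r⁻¹ * ((x₁⁻¹ * (r * u₀ * r⁻¹))⁻¹ * (r * v * r⁻¹)) := by
            rw [hcomm _ (hDn.conj_mem v hv'.1 r) _ (D'.inv_mem hd)]
        _ = x₁ * (r * v * r⁻¹) := by group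

end CfsgLib.Recognition.OneToFive
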